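import Cfsg.Agent.Lib.USixType.Lift
import Cfsg.Agent.Lib.USixType.RepB

/-!
Facts on `SU₄(2)` in its natural representation: the scalar, fixed spaces of involutions and the
elements centralising them.
-/

set_option autoImplicit false
set_option linter.unusedSectionVars false
set_option linter.style.haveILetI false
set_option maxRecDepth 100000

namespace CfsgLib.FiTwentyThreeType

open CfsgLib.USixType
open CfsgLib.HePres (K4)

/-- Multiplication by a field element of order three. -/
def SC : Lin := ⟨2, 3, 8, 12, 32, 48, 128, 192⟩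

theorem sc_gen : ∀ k, comp SC (gL k) = comp (gL k) SC := by decide +kernel

theorem sc_fpf : ∀ v : V8, app SC v = v → v = 0 := by decide +kernel

theorem evalW_all (g : G4) : ∃ w, evalW w = g := by
  have hg : g ∈ Subgroup.closure (Set.range gen) := by rw [gen_top]; exact Subgroup.mem_top g
  rw [← Subgroup.mem_toSubmonoid, Subgroup.closure_toSubmonoid_of_finite] at hg
  induction hg using Submonoid.closure_induction with
  | mem x hx => obtain ⟨k, rfl⟩ := hx; exact ⟨[k], evalW_single k⟩
  | one => exact ⟨[], rfl⟩
  | mul a b _ _ ha hb =>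
    obtain ⟨v, rfl⟩ := ha
    obtain ⟨w, rfl⟩ := hb
    exact ⟨v ++ w, evalW_append v w⟩

theorem sc_natL (g : G4) (v : V8) : app SC (app (natL g) v) = app (natL g) (app SC v) := by
  obtain ⟨w, rfl⟩ := evalW_all g
  rw [natL_evalW]
  induction w generalizing v with
  | nil => simp [linW, id_app]
  | cons k w ih => rw [linW, app_comp, app_comp, ← ih, ← app_comp, sc_gen, app_comp]

/-- The element of order three commuting with the two representatives. -/
def dW : List (Fin 5) := [3, 2, 0, 2, 3, 2, 0, 2, 0, 0]

theorem dW_facts : linW gL dW = ⟨2, 3, 8, 12, 48, 16, 192, 64⟩ ∧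
    linW gL (dW ++ (dW ++ dW)) = idL ∧ (∀ k, linW gL (dW ++ repW k) = linW gL (repW k ++ dW)) ∧
    ∀ v : V8, xr v (xr (app (linW gL dW) v) (app (linW gL dW) (app (linW gL dW) v))) = 0 := by
  decide +kernel

theorem rep_facts : (∀ k, linW gL (repW k ++ repW k) = idL ∧ linW gL (repW k) ≠ idL) ∧
    (∀ v : V8, app (linW gL (repW true)) v = v →
      ∃ w : V8, xr (app (linW gL (repW true)) w) w = v) := by
  decide +kernel

/-- The vectors fixed by a representative. -/
def fixR : Bool → List V8
  | k => (List.finRange 256).filter fun v => app (linW gL (repW k)) v == v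

theorem fixR_len : (fixR false).length = 64 ∧ (fixR true).length = 16 := by decide +kernel

/-! ### Elements fixing the fixed space of a transvection -/

/-- The map given by the image of the first vector. -/
def mkT (a : V8) : Lin := ⟨a, app SC a, xr a 5, xr (app SC a) 10, 16, 32, 64, 128⟩

/-- Preservation of the cocycle on the units. -/
def keeps (L : Lin) : Bool :=
  (List.finRange 8).all fun i => (List.finRange 8).all fun j =>
    bA (app L (un i)) (app L (un j)) == bA (un i) (un j)

theorem keeps_natL (g : G4) : keeps (natL g) = true := by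
  simp [keeps, bA_natL]

theorem mkT_check : ((List.finRange 256).all fun a : V8 =>
    !keeps (mkT a) || decide (mkT a = idL) || decide (mkT a = linW gL (repW false))) = true := by
  decide +kernel

theorem sc_units : app SC 1 = 2 ∧ app SC 4 = 8 ∧ app SC 16 = 32 ∧ app SC 64 = 128 ∧ app SC 5 = 10 ∧
    app SC 80 = 160 := by
  decide +kernel

theorem tv_units : app (gL 1) 5 = 5 ∧ app (gL 1) 16 = 16 ∧ app (gL 1) 32 = 32 ∧ app (gL 1) 64 = 64 ∧
    app (gL 1) 128 = 128 := by
  decide +kernel

theorem lin_of_units {L : Lin} {a b c d e f g h : V8} (h0 : app L 1 = a) (h1 : app L 2 = b) (h2 : app L 4 = c)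
    (h3 : app L 8 = d) (h4 : app L 16 = e) (h5 : app L 32 = f) (h6 : app L 64 = g) (h7 : app L 128 = h) :
    L = ⟨a, b, c, d, e, f, g, h⟩ := by
  rw [← ofFun_app L, ofFun, h0, h1, h2, h3, h4, h5, h6, h7]

/-- A transvection is determined by its fixed space. -/
theorem tv_unique (g : G4)
    (h : ∀ v, app (linW gL (repW false)) v = v → app (natL g) v = v) :
    g = 1 ∨ g = evalW (repW false) := by
  have hr : linW gL (repW false) = gL 1 := by show comp (gL 1) idL = _; exact comp_id _
  rw [hr] at h
  obtain ⟨t5, t16, t32, t64, t128⟩ := tv_units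
  obtain ⟨s1, s4, s16, s64, s5, -⟩ := sc_units
  set L := natL g with hL
  have e5 : app L 5 = 5 := h 5 t5
  have e4 : app L 4 = xr (app L 1) 5 := by
    conv_lhs => rw [show (4 : V8) = xr 1 5 from rfl, app_xr, e5]
  have e2 : app L 2 = app SC (app L 1) := by rw [hL, sc_natL, s1]
  have e10 : app L 10 = 10 := by
    have := congrArg (app SC) e5
    rwa [hL, sc_natL, s5, ← hL] at this
  have e8 : app L 8 = xr (app SC (app L 1)) 10 := by
    conv_lhs => rw [show (8 : V8) = xr 2 10 from rfl, app_xr, e2, e10]
  have hL' : L = mkT (app L 1) :=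
    lin_of_units rfl e2 e4 e8 (h 16 t16) (h 32 t32) (h 64 t64) (h 128 t128)
  have hc := List.all_eq_true.1 mkT_check (app L 1) (List.mem_finRange _)
  rw [← hL', hL, keeps_natL] at hc
  simp only [Bool.not_true, Bool.false_or, Bool.or_eq_true, decide_eq_true_eq] at hc
  rcases hc with e | e
  · exact Or.inl (natL_inj (e.trans natL_one.symm))
  · exact Or.inr (natL_inj (e.trans (natL_evalW _).symm))

/-! ### Elements fixing the fixed space of the second representative -/

/-- The map given by two images. -/
def mkF (a b : V8) : Lin :=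
  ⟨a, app SC a, xr a 5, xr (app SC a) 10, b, app SC b, xr b 80, xr (app SC b) 160⟩

/-- Agreement of a vector with a unit on the fixed space. -/
def agrees (u a : V8) : Bool :=
  ([5, 10, 80, 160] : List V8).all (fun w => (bA a w == bA u w) && (bA w a == bA w u)) && (qq bA a == qq bA u)

theorem four_check : (((List.finRange 256).filter (agrees 1)).all fun a : V8 =>
    ((List.finRange 256).filter (agrees 16)).all fun b : V8 =>
      let L := mkF a b
      let r := linW gL (repW true)
      let d := linW gL dW
      let L' := comp (comp d L) (comp d d)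
      !keeps L || decide (L = idL) || decide (L = r) ||
        !((List.finRange 256).all fun v => !(app L v == v) || (app r v == v)) ||
        !((List.finRange 256).all fun v => !(app r (app L v) == v) || (app r v == v)) ||
        (decide (comp L' L = comp L L') && !decide (L' = L))) = true := by
  decide +kernel

theorem four_units : app (linW gL (repW true)) 5 = 5 ∧ app (linW gL (repW true)) 10 = 10 ∧
    app (linW gL (repW true)) 80 = 80 ∧ app (linW gL (repW true)) 160 = 160 := by
  decide +kernel

/-- An element of the radical of the stabiliser of a line is moved by `dW` to a commuting one. -/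
theorem four_move (g : G4)
    (h : ∀ v, app (linW gL (repW true)) v = v → app (natL g) v = v)
    (hg : ∀ v, app (natL g) v = v → app (linW gL (repW true)) v = v)
    (hrg : ∀ v, app (linW gL (repW true)) (app (natL g) v) = v → app (linW gL (repW true)) v = v)
    (h1 : g ≠ 1) (h2 : g ≠ evalW (repW true)) :
    evalW dW * g * (evalW dW)⁻¹ ≠ g ∧ Commute (evalW dW * g * (evalW dW)⁻¹) g := by
  obtain ⟨t5, t10, t80, t160⟩ := four_units
  obtain ⟨s1, s4, s16, s64, s5, s80⟩ := sc_units
  set L := natL g with hL
  have e5 : app L 5 = 5 := h 5 t5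
  have e10 : app L 10 = 10 := h 10 t10
  have e80 : app L 80 = 80 := h 80 t80
  have e160 : app L 160 = 160 := h 160 t160
  have e2 : app L 2 = app SC (app L 1) := by rw [hL, sc_natL, s1]
  have e32 : app L 32 = app SC (app L 16) := by rw [hL, sc_natL, s16]
  have e4 : app L 4 = xr (app L 1) 5 := by conv_lhs => rw [show (4 : V8) = xr 1 5 from rfl, app_xr, e5]
  have e8 : app L 8 = xr (app SC (app L 1)) 10 := by
    conv_lhs => rw [show (8 : V8) = xr 2 10 from rfl, app_xr, e2, e10]
  have e64 : app L 64 = xr (app L 16) 80 := by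
    conv_lhs => rw [show (64 : V8) = xr 16 80 from rfl, app_xr, e80]
  have e128 : app L 128 = xr (app SC (app L 16)) 160 := by
    conv_lhs => rw [show (128 : V8) = xr 32 160 from rfl, app_xr, e32, e160]
  have hL' : L = mkF (app L 1) (app L 16) := lin_of_units rfl e2 e4 e8 rfl e32 e64 e128
  have hag : ∀ u, ((List.finRange 256).filter (agrees u)).contains (app L u) = true := by
    intro u
    rw [List.contains_iff_mem, List.mem_filter]
    refine ⟨List.mem_finRange _, ?_⟩
    simp only [agrees, List.all_cons, List.all_nil, Bool.and_eq_true, beq_iff_eq, Bool.and_true, qq]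
    have k : ∀ w, app L w = w → bA (app L u) w = bA u w ∧ bA w (app L u) = bA w u := fun w hw => by
      have h3 := bA_natL g u w
      have h4 := bA_natL g w u
      rw [← hL, hw] at h3 h4
      exact ⟨h3, h4⟩
    exact ⟨⟨k 5 e5, k 10 e10, k 80 e80, k 160 e160⟩, by rw [hL, bA_natL]⟩
  have hc := List.all_eq_true.1 (List.all_eq_true.1 four_check _ (List.contains_iff_mem.1 (hag 1))) _
    (List.contains_iff_mem.1 (hag 16))
  have hd : ∀ x y, natL (x * y) = comp (natL x) (natL y) := natL_mul
  simp only [← hL'] at hc
  have hne1 : L ≠ idL := fun e => h1 (natL_inj (e.trans natL_one.symm))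
  have hne2 : L ≠ linW gL (repW true) := fun e => h2 (natL_inj (e.trans (natL_evalW _).symm))
  have hk : keeps L = true := keeps_natL g
  have ha : ((List.finRange 256).all fun v => !(app L v == v) || (app (linW gL (repW true)) v == v)) = true := by
    rw [List.all_eq_true]
    intro v _
    by_cases hv : app L v = v
    · simp [hg v hv]
    · simp [hv]
  have hb : ((List.finRange 256).all fun v =>
      !(app (linW gL (repW true)) (app L v) == v) || (app (linW gL (repW true)) v == v)) = true := by
    rw [List.all_eq_true]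
    intro v _
    by_cases hv : app (linW gL (repW true)) (app L v) = v
    · simp [hrg v hv]
    · simp [hv]
  simp only [hk, hne1, hne2, ha, hb, decide_false, Bool.not_true, Bool.false_or, Bool.and_eq_true,
    decide_eq_true_eq, Bool.not_eq_true', decide_eq_false_iff_not] at hc
  have hinv : natL (evalW dW)⁻¹ = comp (linW gL dW) (linW gL dW) := by
    have e : evalW (dW ++ (dW ++ dW)) = 1 := by
      rw [show (1 : G4) = evalW [] from rfl]; exact evalW_eq dW_facts.2.1
    rw [evalW_append, evalW_append] at e
    rw [inv_eq_of_mul_eq_one_right e, natL_mul, natL_evalW]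
  have hcj : natL (evalW dW * g * (evalW dW)⁻¹) =
      comp (comp (linW gL dW) L) (comp (linW gL dW) (linW gL dW)) := by
    rw [natL_mul, natL_mul, natL_evalW, hinv]
  refine ⟨fun e => hc.2 ?_, natL_inj ?_⟩
  · rw [← hcj, e]
  · rw [natL_mul _ g, natL_mul g, hcj]
    exact hc.1

/-! ### No fixed-point-free commutant in the second representation -/

theorem wL_images : (∃ w : V8, xr (app (wL 1) w) w = 20) ∧ (∃ w : V8, xr (app (wL 3) w) w = 20) ∧
    (∀ u : V8, xr (app (wL 1) u) u ∈ ([0, 20, 56, 44] : List V8)) ∧
    ∀ w : V8, xr (app (wL 3) w) w ∈ ([0, 20, 40, 60] : List V8) := by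
  decide +kernel

theorem wL_meet : ∀ a b : Fin 4, ([0, 20, 56, 44] : List V8).get a = ([0, 20, 40, 60] : List V8).get b →
    ([0, 20, 56, 44] : List V8).get a = 0 ∨ ([0, 20, 56, 44] : List V8).get a = 20 := by
  decide +kernel

theorem wL_single : (∃ w : V8, xr (app (wL 1) w) w = 20) ∧ (∃ w : V8, xr (app (wL 3) w) w = 20) ∧
    ∀ u w : V8, xr (app (wL 1) u) u = xr (app (wL 3) w) w →
      xr (app (wL 1) u) u = 0 ∨ xr (app (wL 1) u) u = 20 := by
  obtain ⟨h1, h3, h, h'⟩ := wL_images
  refine ⟨h1, h3, fun u w e => ?_⟩
  obtain ⟨a, ha⟩ := List.get_of_mem (h u)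
  obtain ⟨b, hb⟩ := List.get_of_mem (h' w)
  rw [← ha]
  exact wL_meet a b (ha.trans (e.trans hb.symm))

theorem wL_commutant {ψ : V8 → V8} (hadd : ∀ a b, ψ (xr a b) = xr (ψ a) (ψ b))
    (hcom : ∀ k v, ψ (app (wL k) v) = app (wL k) (ψ v)) (hinj : Function.Injective ψ)
    (hfix : ∀ v, ψ v = v → v = 0) : False := by
  obtain ⟨⟨u, hu⟩, ⟨w, hw⟩, hall⟩ := wL_single
  have e1 : xr (app (wL 1) (ψ u)) (ψ u) = ψ 20 := by rw [← hcom, ← hadd, hu]
  have e3 : xr (app (wL 3) (ψ w)) (ψ w) = ψ 20 := by rw [← hcom, ← hadd, hw]
  rcases hall _ _ (e1.trans e3.symm) with e | e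
  · have h0 : ψ 0 = 0 := by
      have := hadd 0 0
      rwa [xr_self, xr_self] at this
    -- `20` would be killed, so `ψ` agrees with the zero map there
    exact absurd (hinj ((e1.symm.trans e).trans h0.symm)) (by decide)
  · exact absurd (hfix 20 (e1.symm.trans e)) (by decide)

end CfsgLib.FiTwentyThreeType
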