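import Cfsg.Agent.Lib.FiTwentyThreeType.Basic
import Cfsg.Agent.Lib.FiTwentyThreeType.Facts

/-!
`SU₄(2)` on the quotient of `J` by its centre, and the images of the elements fixing the four-group.
-/

set_option autoImplicit false
set_option linter.unusedSectionVars false
set_option linter.style.haveILetI false
set_option maxRecDepth 100000

open Cfsg
open CfsgLib.USixType

namespace CfsgLib.FiTwentyThreeType

variable {G : Type*} [Group G]

open scoped _root_.Classical in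
/-- The image of an element commuting with `c`. -/
noncomputable def pim {z c : G} (π : ↥(Cc z c) →* G4) (x : G) : G4 :=
  if h : x ∈ Cc z c then π ⟨x, h⟩ else 1

/-- Commuting with `c` and fixing the four-group. -/
def InL (z c : G) (J : Subgroup G) (x : G) : Prop :=
  x ∈ Cc z c ∧ ∀ v, InV J c v → x * v = v * x

/-- Inner and fixing the four-group. -/
def H1 (z c : G) (J : Subgroup G) (x : G) : Prop :=
  Inn z c J x ∧ ∀ v, InV J c v → x * v = v * x

/-- The image of an element fixing the four-group. -/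
def Img {z c : G} (J : Subgroup G) (π : ↥(Cc z c) →* G4) (x : G) (g : G4) : Prop :=
  ∃ q ∈ J, ∃ l, InL z c J l ∧ q * l = x ∧ pim π l = g

namespace Loc

variable [Finite G] {z c : G} {J : Subgroup G} {π : ↥(Cc z c) →* G4} (L : Loc z c J π)
include L

theorem pim_mul {x y : G} (hx : x ∈ Cc z c) (hy : y ∈ Cc z c) : pim π (x * y) = pim π x * pim π y := by
  rw [pim, pim, pim, dif_pos ((Cc z c).mul_mem hx hy), dif_pos hx, dif_pos hy, ← map_mul]
  rfl

theorem pim_one : pim π 1 = 1 := by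
  rw [pim, dif_pos (Cc z c).one_mem]
  exact map_one π

theorem pim_inv {x : G} (hx : x ∈ Cc z c) : pim π x⁻¹ = (pim π x)⁻¹ := by
  refine eq_inv_of_mul_eq_one_right ?_
  rw [← L.pim_mul hx ((Cc z c).inv_mem hx), mul_inv_cancel, L.pim_one]

theorem pim_pow {x : G} (hx : x ∈ Cc z c) (n : ℕ) : pim π (x ^ n) = pim π x ^ n := by
  induction n with
  | zero => rw [pow_zero, pow_zero, L.pim_one]
  | succ n ih => rw [pow_succ, pow_succ, L.pim_mul ((Cc z c).pow_mem hx n) hx, ih]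

theorem c_Cc : c ∈ Cc z c := ⟨L.cC, mem_Cz.2 rfl⟩

theorem z_Cc : z ∈ Cc z c := ⟨mem_Cz.2 rfl, mem_Cz.2 L.cz.symm⟩

theorem c_ker (i : ℕ) : pim π (c ^ i) = 1 := by
  rw [pim, dif_pos ((Cc z c).pow_mem L.c_Cc i), L.ker]
  exact ⟨i, Or.inl rfl⟩

theorem V0_ne : ∃ a, InV J c a ∧ a ≠ 1 := by
  have hcard := L.card_V0
  haveI : Nontrivial L.V0 := Finite.one_lt_card_iff_nontrivial.1 (by omega)
  obtain ⟨⟨a, ha⟩, hne⟩ := exists_ne (1 : L.V0)
  exact ⟨a, ha, fun e => hne (Subtype.ext e)⟩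

theorem z_L : InL z c J z := ⟨L.z_Cc, fun v hv => ((L.inV_inT hv).2 z L.zJ).symm⟩

theorem L_mul {x y : G} (hx : InL z c J x) (hy : InL z c J y) : InL z c J (x * y) :=
  ⟨(Cc z c).mul_mem hx.1 hy.1, fun v hv => by
    rw [mul_assoc, hy.2 v hv, ← mul_assoc, hx.2 v hv, mul_assoc]⟩

theorem L_inv {x : G} (hx : InL z c J x) : InL z c J x⁻¹ :=
  ⟨(Cc z c).inv_mem hx.1, fun v hv => (Commute.inv_left (hx.2 v hv)).eq⟩

theorem L_one : InL z c J (1 : G) := ⟨one_mem _, fun v _ => by rw [one_mul, mul_one]⟩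

theorem L_pow {x : G} (hx : InL z c J x) : ∀ n : ℕ, InL z c J (x ^ n)
  | 0 => by rw [pow_zero]; exact L.L_one
  | n + 1 => by rw [pow_succ]; exact L.L_mul (L_pow hx n) hx

theorem L_Cz {x : G} (hx : InL z c J x) : x ∈ Cz z := hx.1.1

theorem L_H1 {x : G} (hx : InL z c J x) : H1 z c J x := ⟨L.inn_cc hx.1, hx.2⟩

theorem J_H1 {q : G} (hq : q ∈ J) : H1 z c J q :=
  ⟨L.inn_J hq, fun v hv => ((L.inV_inT hv).2 q hq).symm⟩

theorem H1_mul {x y : G} (hx : H1 z c J x) (hy : H1 z c J y) : H1 z c J (x * y) :=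
  ⟨L.inn_mul hx.1 hy.1, fun v hv => by rw [mul_assoc, hy.2 v hv, ← mul_assoc, hx.2 v hv, mul_assoc]⟩

theorem H1_inv {x : G} (hx : H1 z c J x) : H1 z c J x⁻¹ :=
  ⟨L.inn_inv hx.1, fun v hv => (Commute.inv_left (hx.2 v hv)).eq⟩

theorem H1_two {x : G} (hx : Inn z c J x) (h2 : x * x = 1) : H1 z c J x :=
  ⟨hx, L.inn_two hx (n := 1) (by rw [pow_one, pow_two, h2])⟩

theorem L_ker {l : G} (hl : InL z c J l) (h : pim π l = 1) : l = 1 ∨ l = z := by
  obtain ⟨a, ha, ha1⟩ := L.V0_ne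
  rw [pim, dif_pos hl.1] at h
  obtain ⟨i, hi⟩ := (L.ker _).1 h
  have hz : ∀ v, InV J c v → z * v = v * z := L.z_L.2
  have hci : ∀ v, InV J c v → c ^ i * v = v * c ^ i := fun v hv => by
    rcases hi with e | e
    · have := hl.2 v hv
      rwa [show l = c ^ i from e] at this
    · have h1 := hl.2 v hv
      rw [show l = c ^ i * z from e, mul_assoc, hz v hv, ← mul_assoc, ← mul_assoc] at h1
      exact mul_right_cancel h1
  have hmod : c ^ i = c ^ (i % 3) := by
    conv_lhs => rw [← Nat.mod_add_div i 3, pow_add, pow_mul,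
      show c ^ 3 = 1 by rw [pow_succ, pow_two]; exact L.c3, one_pow, mul_one]
  rw [hmod] at hi hci
  have hi3 : i % 3 = 0 := by
    by_contra hne
    have : i % 3 = 1 ∨ i % 3 = 2 := by omega
    rcases this with e | e <;> rw [e] at hci
    · rw [pow_one] at hci
      exact ha1 (L.inV_fix ha (mul_inv_eq_iff_eq_mul.2 (hci a ha)))
    · rw [pow_two, ← L.cinv] at hci
      refine ha1 (L.inV_fix ha ?_)
      calc c * a * c⁻¹ = c * (a * c⁻¹) := by group
        _ = c * (c⁻¹ * a) := by rw [hci a ha]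
        _ = a := by group
  rw [hi3, pow_zero, one_mul] at hi
  exact hi

theorem L_lift (g : G4) : ∃ l, InL z c J l ∧ pim π l = g := by
  obtain ⟨a, ha, ha1⟩ := L.V0_ne
  obtain ⟨⟨x, hx⟩, hxg⟩ := L.surj g
  have hpx : pim π x = g := by rw [pim, dif_pos hx]; exact hxg
  have hI := L.inn_cc hx
  have hne : x * a * x⁻¹ ≠ 1 := fun e => ha1 (conj_eq_one_iff.1 e)
  have main : ∀ i : ℕ, c ^ i * (x * a * x⁻¹) * (c ^ i)⁻¹ = a →
      InL z c J (c ^ i * x) ∧ pim π (c ^ i * x) = g := fun i hi => by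
    have hm : c ^ i * x ∈ Cc z c := (Cc z c).mul_mem ((Cc z c).pow_mem L.c_Cc i) hx
    refine ⟨⟨hm, L.inn_fix (L.inn_cc hm) ha ha1 ?_⟩, ?_⟩
    · refine mul_inv_eq_iff_eq_mul.1 ?_
      conv_rhs => rw [← hi]
      group
    · rw [L.pim_mul ((Cc z c).pow_mem L.c_Cc i) hx, L.c_ker, one_mul, hpx]
  rcases L.V0_orbit ha ha1 (L.inV_conj hx.1 ha) hne with e | e | e
  · exact ⟨_, main 0 (by rw [pow_zero, one_mul, inv_one, mul_one, e])⟩
  · refine ⟨_, main 2 ?_⟩
    rw [e, pow_two]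
    calc c * c * (c * a * c⁻¹) * (c * c)⁻¹ = c * c * c * a * (c * c * c)⁻¹ := by group
      _ = a := by rw [L.c3]; group
  · refine ⟨_, main 1 ?_⟩
    rw [e, pow_one]
    group

/-- The centre is the four-group times the involution. -/
theorem inT_decomp {t : G} (ht : InT J t) : InV J c t ∨ InV J c (t * z) := by
  classical
  let f : L.V0 × Bool → {t : G // InT J t} := fun p =>
    ⟨p.1.1 * (if p.2 then z else 1), L.inT_mul (L.inV_inT p.1.2) (by
      split
      exacts [L.z_inT, L.one_inT])⟩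
  have hf : Function.Injective f := by
    rintro ⟨⟨u, hu⟩, bu⟩ ⟨⟨v, hv⟩, bv⟩ h
    have h' : u * (if bu then z else 1) = v * (if bv then z else 1) := congrArg Subtype.val h
    cases bu <;> cases bv <;> simp only [Bool.false_eq_true, if_false, if_true, mul_one] at h'
    · subst h'; rfl
    · refine absurd ?_ L.z_notV
      rw [show z = v⁻¹ * u by rw [h']; group, L.inV_inv hv]
      exact L.inV_mul hv hu
    · refine absurd ?_ L.z_notV
      rw [show z = u⁻¹ * v by rw [← h']; group, L.inV_inv hu]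
      exact L.inV_mul hu hv
    · obtain rfl := mul_right_cancel h'; rfl
  have hb : Function.Bijective f := (Nat.bijective_iff_injective_and_card f).2
    ⟨hf, by rw [Nat.card_prod, L.card_V0, L.cardT, Nat.card_eq_fintype_card (α := Bool), Fintype.card_bool]⟩
  obtain ⟨⟨⟨v, hv⟩, b⟩, e⟩ := hb.2 ⟨t, ht⟩
  have e' : v * (if b then z else 1) = t := congrArg Subtype.val e
  cases b
  · left; rw [← e']; simpa using (show InV J c v from hv)
  · right; rw [← e']; simpa [mul_assoc, L.z2] using (show InV J c v from hv)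

theorem L_T {l t : G} (hl : InL z c J l) (ht : InT J t) : l * t = t * l := by
  have hz : l * z = z * l := L.z_comm (L.L_Cz hl)
  rcases L.inT_decomp ht with h | h
  · exact hl.2 t h
  · have hu := hl.2 _ h
    rw [show t = t * z * z by rw [mul_assoc, L.z2, mul_one]]
    exact ((show Commute l (t * z) from hu).mul_right hz).eq

theorem img_exists' {x : G} (hx : H1 z c J x) : ∃ g, Img J π x g := by
  obtain ⟨q, hq, hl⟩ := L.inn_split hx.1
  have h := L.H1_mul (L.H1_inv (L.J_H1 hq)) hx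
  exact ⟨_, q, hq, _, ⟨hl, h.2⟩, mul_inv_cancel_left q x, rfl⟩

theorem H1_T {x t : G} (hx : H1 z c J x) (ht : InT J t) : x * t = t * x := by
  obtain ⟨g, q, hq, l, hl, rfl, -⟩ := L.img_exists' hx
  rw [mul_assoc, L.L_T hl ht, ← mul_assoc, ← ht.2 q hq, mul_assoc]

theorem L_J {l : G} (hl : InL z c J l) (h : l ∈ J) : l = 1 ∨ l = z :=
  L.fixc l h (mem_Cz.1 hl.1.2)

theorem img_L {l : G} (hl : InL z c J l) : Img J π l (pim π l) :=
  ⟨1, J.one_mem, l, hl, one_mul l, rfl⟩

theorem img_unique {x : G} {g h : G4} (hg : Img J π x g) (hh : Img J π x h) : g = h := by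
  obtain ⟨q, hq, l, hl, rfl, rfl⟩ := hg
  obtain ⟨q', hq', l', hl', e, rfl⟩ := hh
  have hj : l' * l⁻¹ ∈ J := by
    rw [show l' * l⁻¹ = q'⁻¹ * (q' * l') * l⁻¹ by group, e, show q'⁻¹ * (q * l) * l⁻¹ = q'⁻¹ * q by group]
    exact J.mul_mem (J.inv_mem hq') hq
  have h0 : pim π (l' * l⁻¹) = 1 := by
    rcases L.L_J (L.L_mul hl' (L.L_inv hl)) hj with e' | e' <;> rw [e']
    · exact L.pim_one
    · rw [pim, dif_pos L.z_Cc, L.ker]
      exact ⟨0, Or.inr (by rw [pow_zero, one_mul])⟩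
  rw [L.pim_mul hl'.1 ((Cc z c).inv_mem hl.1), L.pim_inv hl.1] at h0
  exact (mul_inv_eq_one.1 h0).symm

theorem img_exists {x : G} (hx : H1 z c J x) : ∃ g, Img J π x g := L.img_exists' hx

theorem img_H1 {x : G} {g : G4} (h : Img J π x g) : H1 z c J x := by
  obtain ⟨q, hq, l, hl, rfl, -⟩ := h
  exact L.H1_mul (L.J_H1 hq) (L.L_H1 hl)

theorem img_mul {x y : G} {g h : G4} (hx : Img J π x g) (hy : Img J π y h) : Img J π (x * y) (g * h) := by
  obtain ⟨q, hq, l, hl, rfl, rfl⟩ := hx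
  obtain ⟨r, hr, m, hm, rfl, rfl⟩ := hy
  exact ⟨q * (l * r * l⁻¹), J.mul_mem hq (L.conjJ l (L.L_Cz hl) r hr), l * m, L.L_mul hl hm,
    by group, L.pim_mul hl.1 hm.1⟩

theorem img_J {q : G} (hq : q ∈ J) : Img J π q (1 : G4) :=
  ⟨q, hq, 1, L.L_one, mul_one q, L.pim_one⟩

theorem img_one : Img J π (1 : G) (1 : G4) := L.img_J J.one_mem

theorem img_mem_J {x : G} (h : Img J π x (1 : G4)) : x ∈ J := by
  obtain ⟨q, hq, l, hl, rfl, e⟩ := h
  rcases L.L_ker hl e with rfl | rfl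
  · rwa [mul_one]
  · exact J.mul_mem hq L.zJ

theorem img_inv {x : G} {g : G4} (hx : Img J π x g) : Img J π x⁻¹ g⁻¹ := by
  obtain ⟨h, hh⟩ := L.img_exists (L.H1_inv (L.img_H1 hx))
  have h1 := L.img_mul hx hh
  rw [mul_inv_cancel] at h1
  rwa [← eq_inv_of_mul_eq_one_right (L.img_unique L.img_one h1).symm]

theorem img_conj {x y : G} {g h : G4} (hy : Img J π y h) (hx : Img J π x g) :
    Img J π (y * x * y⁻¹) (h * g * h⁻¹) :=
  L.img_mul (L.img_mul hy hx) (L.img_inv hy)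

theorem img_pow {x : G} {g : G4} (hx : Img J π x g) : ∀ n : ℕ, Img J π (x ^ n) (g ^ n)
  | 0 => by rw [pow_zero, pow_zero]; exact L.img_one
  | n + 1 => by rw [pow_succ, pow_succ]; exact L.img_mul (img_pow hx n) hx

/-! ### The quotient by the centre -/

theorem cl_eq_one {q : G} (hq : q ∈ J) : cl J q = 1 ↔ InT J q := by
  rw [cl, dif_pos hq, QuotientGroup.eq_one_iff, Subgroup.mem_center_iff]
  exact ⟨fun h => ⟨hq, fun r hr => (congrArg Subtype.val (h ⟨r, hr⟩)).symm⟩,
    fun h r => Subtype.ext (h.2 r r.2).symm⟩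

theorem cl_inv {q : G} (hq : q ∈ J) : cl J q⁻¹ = (cl J q)⁻¹ := by
  refine eq_inv_of_mul_eq_one_right ?_
  rw [← cl_mul hq (J.inv_mem hq), mul_inv_cancel, cl_one]

theorem cl_eq {p q : G} (hp : p ∈ J) (hq : q ∈ J) : cl J p = cl J q ↔ InT J (p⁻¹ * q) := by
  rw [← L.cl_eq_one (J.mul_mem (J.inv_mem hp) hq), cl_mul (J.inv_mem hp) hq, L.cl_inv hp,
    inv_mul_eq_one]

theorem J_conj {q : G} (hq : q ∈ J) {p : G} (hp : p ∈ J) : InT J ((q * p * q⁻¹)⁻¹ * p) := by
  rcases L.comm q hq p hp with e | e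
  · rw [e, mul_inv_cancel_right, inv_mul_cancel]; exact L.one_inT
  · rw [e]
    rw [show (z * (p * q) * q⁻¹)⁻¹ * p = p⁻¹ * z⁻¹ * p by group, L.inT_inv L.z_inT, mul_assoc,
      L.z_inT.2 p hp, inv_mul_cancel_left]
    exact L.z_inT

theorem ac_cl {x q : G} (hx : x ∈ Cz z) (hq : q ∈ J) : ac J x (cl J q) = cl J (x * q * x⁻¹) := by
  have hr := rep_mem J (cl J q)
  rw [ac, L.cl_eq (L.conjJ x hx _ hr) (L.conjJ x hx q hq),
    show (x * rep J (cl J q) * x⁻¹)⁻¹ * (x * q * x⁻¹) = x * ((rep J (cl J q))⁻¹ * q) * x⁻¹ by group]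
  exact L.inT_conj hx ((L.cl_eq hr hq).1 (cl_rep J _))

theorem exists_cl (t : T J) : ∃ q ∈ J, cl J q = t := ⟨_, rep_mem J t, cl_rep J t⟩

theorem ac_mul {x : G} (hx : x ∈ Cz z) (s t : T J) : ac J x (s * t) = ac J x s * ac J x t := by
  obtain ⟨p, hp, rfl⟩ := L.exists_cl s
  obtain ⟨q, hq, rfl⟩ := L.exists_cl t
  rw [← cl_mul hp hq, L.ac_cl hx (J.mul_mem hp hq), L.ac_cl hx hp, L.ac_cl hx hq,
    ← cl_mul (L.conjJ x hx p hp) (L.conjJ x hx q hq)]
  congr 1; group

theorem ac_comp {x y : G} (hx : x ∈ Cz z) (hy : y ∈ Cz z) (t : T J) :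
    ac J (x * y) t = ac J x (ac J y t) := by
  obtain ⟨q, hq, rfl⟩ := L.exists_cl t
  rw [L.ac_cl ((Cz z).mul_mem hx hy) hq, L.ac_cl hy hq, L.ac_cl hx (L.conjJ y hy q hq)]
  congr 1; group

theorem ac_J {q : G} (hq : q ∈ J) (t : T J) : ac J q t = t := by
  obtain ⟨p, hp, rfl⟩ := L.exists_cl t
  rw [L.ac_cl (L.JC hq) hp, L.cl_eq (L.conjJ q (L.JC hq) p hp) hp]
  exact L.J_conj hq hp

theorem ac_inv {x : G} (hx : x ∈ Cz z) (t : T J) : ac J x⁻¹ (ac J x t) = t := by
  rw [← L.ac_comp ((Cz z).inv_mem hx) hx, inv_mul_cancel, L.ac_J J.one_mem]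

theorem T_sq (t : T J) : t * t = 1 := by
  obtain ⟨q, hq, rfl⟩ := L.exists_cl t
  rw [← cl_mul hq hq, L.cl_eq_one (J.mul_mem hq hq)]
  rcases L.sq q hq with e | e <;> rw [e]
  exacts [L.one_inT, L.z_inT]

theorem T_comm (s t : T J) : s * t = t * s := by
  have hi : ∀ u : T J, u⁻¹ = u := fun u => inv_eq_of_mul_eq_one_right (L.T_sq u)
  rw [← hi (s * t), mul_inv_rev, hi, hi]

theorem card_T : Nat.card (T J) = 256 := by
  have h := Subgroup.card_eq_card_quotient_mul_card_subgroup (Subgroup.center ↥J)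
  have e : Nat.card (Subgroup.center ↥J) = 8 := by
    rw [← L.cardT]
    refine Nat.card_congr
      { toFun := fun q => ⟨q.1.1, q.1.2, fun r hr =>
          (congrArg Subtype.val (Subgroup.mem_center_iff.1 q.2 ⟨r, hr⟩)).symm⟩
        invFun := fun t => ⟨⟨t.1, t.2.1⟩, Subgroup.mem_center_iff.2 fun r => Subtype.ext (t.2.2 r r.2).symm⟩
        left_inv := fun q => rfl
        right_inv := fun t => rfl }
  rw [L.card, e] at h
  change 2048 = Nat.card (T J) * 8 at h
  omega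

theorem c_fix {t : T J} (h : ac J c t = t) : t = 1 := by
  obtain ⟨q, hq, rfl⟩ := L.exists_cl t
  rw [L.ac_cl L.cC hq, L.cl_eq (L.conjJ c L.cC q hq) hq] at h
  -- the three commutators multiply to one
  set s := (c * q * c⁻¹)⁻¹ * q with hs
  have hsT : InT J s := h
  have cs : ∀ v, InT J v → InT J (c * v * c⁻¹) := fun v hv => L.inT_conj L.cC hv
  have e1 : c * q * c⁻¹ = q * s := by
    conv_rhs => rw [← L.inT_inv hsT]
    rw [hs]; group
  set s1 := c * s * c⁻¹ with hs1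
  set s2 := c * s1 * c⁻¹ with hs2
  have e2 : c * (c * q * c⁻¹) * c⁻¹ = q * s * s1 := by
    rw [e1]
    calc c * (q * s) * c⁻¹ = c * q * c⁻¹ * (c * s * c⁻¹) := by group
      _ = q * s * s1 := by rw [e1]
  have e3 : q = q * (s * s1 * s2) := by
    calc q = c * c * c * q * (c * c * c)⁻¹ := by rw [L.c3]; group
      _ = c * (c * (c * q * c⁻¹) * c⁻¹) * c⁻¹ := by group
      _ = c * (q * s * s1) * c⁻¹ := by rw [e2]
      _ = c * q * c⁻¹ * (c * s * c⁻¹) * (c * s1 * c⁻¹) := by group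
      _ = q * (s * s1 * s2) := by rw [e1, ← hs1, ← hs2]; group
  have h3 : s * s1 * s2 = 1 := mul_left_cancel (a := q) (by rw [← e3, mul_one])
  have hm := fun {u v : G} (hu : InT J u) (hv : InT J v) => L.inT_mul hu hv
  -- `q * s₁` is fixed by `c`
  have hq' : (q * s1) * c = c * (q * s1) := by
    refine (mul_inv_eq_iff_eq_mul.1 ?_).symm
    calc c * (q * s1) * c⁻¹ = (c * q * c⁻¹) * (c * s1 * c⁻¹) := by group
      _ = q * (s * s2) := by rw [e1, ← hs2, mul_assoc]
      _ = q * s1 := by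
          congr 1
          have : s * s1 * s2 * s1 = s1 := by rw [h3, one_mul]
          calc s * s2 = s * (s1 * s1) * s2 := by rw [L.T2 _ (cs s hsT), mul_one]
            _ = s * s1 * (s1 * s2) := by group
            _ = s * s1 * (s2 * s1) := by rw [L.inT_comm (cs s hsT) (cs _ (cs s hsT))]
            _ = s1 := by rw [← mul_assoc, this]
  have hT : InT J (q * s1) := by
    rcases L.fixc _ (J.mul_mem hq (cs s hsT).1) hq' with e | e <;> rw [e]
    exacts [L.one_inT, L.z_inT]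
  refine (L.cl_eq_one hq).2 ?_
  have := hm hT (cs s hsT)
  rwa [mul_assoc, L.T2 _ (cs s hsT), mul_one] at this

/-- The action of an element of the group. -/
noncomputable def actG (g : G4) (t : T J) : T J := ac J (L.L_lift g).choose t

theorem ac_img {x : G} {g : G4} (h : Img J π x g) (t : T J) : ac J x t = L.actG g t := by
  obtain ⟨q, hq, l, hl, rfl, e⟩ := h
  obtain ⟨h1, h2⟩ := (L.L_lift g).choose_spec
  set l0 := (L.L_lift g).choose
  have h3 : pim π (l0⁻¹ * l) = 1 := by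
    rw [L.pim_mul ((Cc z c).inv_mem h1.1) hl.1, L.pim_inv h1.1, h2, e, inv_mul_cancel]
  have hJ : l0⁻¹ * l ∈ J := by
    rcases L.L_ker (L.L_mul (L.L_inv h1) hl) h3 with e' | e' <;> rw [e']
    exacts [J.one_mem, L.zJ]
  rw [L.ac_comp (L.JC hq) (L.L_Cz hl), L.ac_J hq]
  show _ = ac J l0 t
  conv_lhs => rw [show l = l0 * (l0⁻¹ * l) by group]
  rw [L.ac_comp (L.L_Cz h1) (L.JC hJ), L.ac_J hJ]

theorem actG_mul (g h : G4) (t : T J) : L.actG (g * h) t = L.actG g (L.actG h t) := by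
  obtain ⟨l, hl, rfl⟩ := L.L_lift g
  obtain ⟨m, hm, rfl⟩ := L.L_lift h
  rw [← L.ac_img (L.img_L hl), ← L.ac_img (L.img_L hm), ← L.ac_img (L.img_mul (L.img_L hl) (L.img_L hm)),
    L.ac_comp (L.L_Cz hl) (L.L_Cz hm)]

theorem actG_one (t : T J) : L.actG 1 t = t := by rw [← L.ac_img L.img_one, L.ac_J J.one_mem]

theorem actG_c (g : G4) (t : T J) : ac J c (L.actG g t) = L.actG g (ac J c t) := by
  obtain ⟨l, hl, rfl⟩ := L.L_lift g
  rw [← L.ac_img (L.img_L hl), ← L.ac_img (L.img_L hl), ← L.ac_comp L.cC (L.L_Cz hl),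
    ← L.ac_comp (L.L_Cz hl) L.cC, mem_Cz.1 hl.1.2]

theorem out_c {x : G} (hx : Out z c J x) (t : T J) : ac J x (ac J c t) = ac J c⁻¹ (ac J x t) := by
  have hci := (Cz z).inv_mem L.cC
  rw [← L.ac_comp hx.1 L.cC, show x * c = x * c * x⁻¹ * c * (c⁻¹ * x) by group,
    L.ac_comp (L.JC hx.2) ((Cz z).mul_mem hci hx.1), L.ac_J hx.2, L.ac_comp hci hx.1]

/-- Nothing but the identity acts trivially. -/
theorem act_faith {g : G4} (h : ∀ t, L.actG g t = t) : g = 1 := by
  have hsq : ∀ u : G4, (∀ t, L.actG u t = t) → u * u = 1 := by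
    intro u hu
    obtain ⟨l, hl, rfl⟩ := L.L_lift u
    have hlC := L.L_Cz hl
    have hall : ∀ q ∈ J, l * l * q = q * (l * l) := by
      intro q hq
      have ht : InT J (q⁻¹ * (l * q * l⁻¹)) := (L.cl_eq hq (L.conjJ l hlC q hq)).1 (by
        rw [← L.ac_cl hlC hq, L.ac_img (L.img_L hl), hu])
      set t := q⁻¹ * (l * q * l⁻¹) with htdef
      have e : l * q * l⁻¹ = q * t := by rw [htdef]; group
      have hlt : l * t * l⁻¹ = t := mul_inv_eq_iff_eq_mul.2 (L.L_T hl ht)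
      rw [← mul_inv_eq_iff_eq_mul]
      calc l * l * q * (l * l)⁻¹ = l * (l * q * l⁻¹) * l⁻¹ := by group
        _ = l * (q * t) * l⁻¹ := by rw [e]
        _ = l * q * l⁻¹ * (l * t * l⁻¹) := by group
        _ = q := by rw [e, hlt, mul_assoc, L.T2 t ht, mul_one]
    have h2 := L.L_mul hl hl
    rw [← L.pim_mul hl.1 hl.1]
    exact L.img_unique (L.img_L h2) (L.img_J (L.cent _ (L.L_Cz h2) hall))
  by_contra hg
  have hord : orderOf g = 2 := orderOf_eq_prime_iff.2 ⟨by rw [pow_two]; exact hsq g h, hg⟩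
  obtain ⟨k, m, hm⟩ := inv_class hord
  have hr : ∀ t, L.actG (evalW (repW k)) t = t := fun t => by
    rw [show evalW (repW k) = m⁻¹ * g * m by rw [hm]; group, L.actG_mul, L.actG_mul, h, ← L.actG_mul,
      inv_mul_cancel, L.actG_one]
  have hc' : ∀ t, L.actG (evalW (repW k) * (gen 0 * evalW (repW k) * (gen 0)⁻¹)) t = t := fun t => by
    rw [L.actG_mul, L.actG_mul, L.actG_mul, hr, hr, ← L.actG_mul, mul_inv_cancel, L.actG_one]
  have h0 := hsq _ hc'
  have hi : (gen 0)⁻¹ = evalW [0, 0] := by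
    refine inv_eq_of_mul_eq_one_right ?_
    rw [show gen 0 * evalW [0, 0] = evalW [0, 0, 0] from rfl, show (1 : G4) = evalW [] from rfl]
    exact evalW_eq (by decide +kernel)
  rw [← evalW_single, evalW_single, hi, ← evalW_single 0, ← evalW_append, ← evalW_append, ← evalW_append,
    ← evalW_append] at h0
  have h1 := congrArg natL h0
  rw [natL_evalW, natL_one] at h1
  cases k
  · exact absurd h1 (by decide +kernel)
  · exact absurd h1 (by decide +kernel)

/-- Coordinates for the action. -/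
theorem exists_frame : ∃ e : V8 → T J, Function.Bijective e ∧ (∀ a b, e (xr a b) = e a * e b) ∧
    ∀ g v, L.actG g (e v) = e (app (natL g) v) := by
  letI : CommGroup (T J) := { (inferInstance : Group (T J)) with mul_comm := L.T_comm }
  let φ : G4 → (Additive (T J) ≃+ Additive (T J)) := fun g =>
    { toFun := fun t => Additive.ofMul (L.actG g t.toMul)
      invFun := fun t => Additive.ofMul (L.actG g⁻¹ t.toMul)
      left_inv := fun t => by
        show Additive.ofMul (L.actG g⁻¹ (L.actG g t.toMul)) = t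
        rw [← L.actG_mul, inv_mul_cancel, L.actG_one]; rfl
      right_inv := fun t => by
        show Additive.ofMul (L.actG g (L.actG g⁻¹ t.toMul)) = t
        rw [← L.actG_mul, mul_inv_cancel, L.actG_one]; rfl
      map_add' := fun a b => by
        obtain ⟨l, hl, rfl⟩ := L.L_lift g
        show Additive.ofMul (L.actG _ (a.toMul * b.toMul)) = _
        rw [← L.ac_img (L.img_L hl), L.ac_mul (L.L_Cz hl), L.ac_img (L.img_L hl), L.ac_img (L.img_L hl)]
        rfl }
  let A : Act (Additive (T J)) :=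
    { φ := φ
      mul := fun g h v => congrArg Additive.ofMul (L.actG_mul g h v.toMul)
      two := fun v => congrArg Additive.ofMul (L.T_sq v.toMul)
      card := L.card_T
      faith := fun g hg => L.act_faith fun t => congrArg Additive.toMul (hg (Additive.ofMul t)) }
  obtain ⟨F, hF⟩ := A.classify
  have hadd : ∀ a b, (F.e (xr a b)).toMul = (F.e a).toMul * (F.e b).toMul := fun a b =>
    congrArg Additive.toMul (F.add a b)
  have hbij : Function.Bijective fun v => (F.e v).toMul := Additive.toMul.bijective.comp F.e.bijective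
  have heq : ∀ g v, L.actG g (F.e v).toMul = (F.e (app (F.L g) v)).toMul := fun g v =>
    (congrArg Additive.toMul (F.e_L g v)).symm
  rcases hF with hF | hF
  · exact ⟨_, hbij, hadd, fun g v => (heq g v).trans
      (congrArg (fun M => (F.e (app M v)).toMul) (natL_L (F.mdl hF) rfl g))⟩
  exfalso
  let ψ : V8 → V8 := fun v => F.e.symm (Additive.ofMul (ac J c (F.e v).toMul))
  have hψ : ∀ v, (F.e (ψ v)).toMul = ac J c (F.e v).toMul := fun v => by simp [ψ]
  have einj : ∀ {a b : V8}, (F.e a).toMul = (F.e b).toMul → a = b := fun h => hbij.1 h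
  refine wL_commutant (ψ := ψ) (fun a b => einj ?_) (fun k v => einj ?_) (fun a b h => einj ?_)
    (fun v h => einj ?_)
  · rw [hψ, hadd, L.ac_mul L.cC, hadd, hψ, hψ]
  · rw [hψ, ← hF k, ← heq, L.actG_c, ← heq, hψ]
  · have := congrArg (fun u => ac J c⁻¹ (F.e u).toMul) h
    simpa only [hψ, L.ac_inv L.cC] using this
  · rw [F.e_zero, toMul_zero]
    exact L.c_fix ((hψ v).symm.trans (by rw [h]))

end Loc

end CfsgLib.FiTwentyThreeType
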