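import Cfsg.Agent.Lib.FiTwentyThreeType.Branches

/-!
A normal four-group: the quotient is the automorphism group of `U₆(2)`.
-/

set_option autoImplicit false
set_option linter.unusedSectionVars false
set_option linter.style.haveILetI false

universe u uK

open Cfsg
open CfsgLib.USixType (Cz mem_Cz G4 T cl ac)

namespace CfsgLib.FiTwentyThreeType

variable {G : Type u} [Group G] [Finite G] {z c : G} {J : Subgroup G} {π : ↥(Cc z c) →* G4}

namespace Loc

variable (L : Loc z c J π)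
include L

theorem g4_center {g : G4} (h : ∀ k : G4, k * g = g * k) : g = 1 := by
  obtain ⟨e⟩ := psp_equiv (F := ZMod 3) (ZMod.card 3)
  have hc : e.symm g ∈ Subgroup.center (PSp 2 (ZMod 3)) := Subgroup.mem_center_iff.2 fun p => by
    apply e.injective
    rw [map_mul, map_mul, e.apply_symm_apply, h]
  rw [psp_center (ZMod.card 3), Subgroup.mem_bot] at hc
  exact e.symm.map_eq_one_iff.1 hc

variable (hout : OutFaith z c J) (hz : ∀ t g, InT J t → g * z * g⁻¹ = t → t = z)
include hout hz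

variable {K : Type uK} [Field K] [Fintype K]

/-- An element acting trivially on the unitary quotient. -/
theorem aut_kernel {g : G} (hn : ∀ g v, InV J c v → InV J c (g * v * g⁻¹))
    (φ : ↥(Subgroup.centralizer {v : G | InV J c v}) →* PSU 6 K 2)
    (hker : ∀ p : ↥(Subgroup.centralizer {v : G | InV J c v}), φ p = 1 ↔ InV J c (p : G))
    (hφ : Function.Surjective φ) (hUc : Subgroup.center (PSU 6 K 2) = ⊥)
    (h : ∀ x ∈ Subgroup.centralizer {v : G | InV J c v}, InV J c (g * x * g⁻¹ * x⁻¹)) : InV J c g := by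
  let Cn := Subgroup.centralizer {v : G | InV J c v}
  have hLC : ∀ l, InL z c J l → l ∈ Cn := fun l hl => Subgroup.mem_centralizer_iff.2 fun v hv => (hl.2 v hv).symm
  have hJC : ∀ r ∈ J, r ∈ Cn := fun r hr => Subgroup.mem_centralizer_iff.2 fun v hv => (L.inV_inT hv).2 r hr
  have hgC : g ∈ Cz z := by
    have h1 := h z (hJC z L.zJ)
    have h2 := hz _ g (L.inT_mul (L.inV_inT h1) L.z_inT) (by group)
    rw [inv_mul_cancel_right] at h2
    exact mem_Cz.2 (mul_inv_eq_iff_eq_mul.1 h2)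
  rcases L.inn_or hgC with hi | ho
  swap
  · exact (hout g ho fun l hl => (L.inV_inT (h l (hLC l hl))).1).elim
  obtain ⟨i, q, hq, l0, hl0, hg⟩ := L.inn_L hi
  have hI : Img J π (q * l0) (pim π l0) := ⟨q, hq, l0, hl0, rfl, rfl⟩
  have hgg : pim π l0 = 1 := L.g4_center fun k => by
    obtain ⟨l, hl, rfl⟩ := L.L_lift k
    have hcl : (c ^ i)⁻¹ * l * c ^ i = l := by
      have : Commute (c ^ i) l := (show Commute c l from (mem_Cz.1 hl.1.2).symm).pow_left i
      rw [mul_assoc, ← this.eq, inv_mul_cancel_left]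
    have hj : q * l0 * l * (q * l0)⁻¹ * l⁻¹ ∈ J := by
      have h1 := L.conjJ _ ((Cz z).inv_mem ((Cz z).pow_mem L.cC i)) _ (L.inV_inT (h l (hLC l hl))).1
      rwa [show (c ^ i)⁻¹ * (g * l * g⁻¹ * l⁻¹) * (c ^ i)⁻¹⁻¹ =
        q * l0 * l * (q * l0)⁻¹ * ((c ^ i)⁻¹ * l * c ^ i)⁻¹ by rw [hg]; group, hcl] at h1
    have := L.img_unique (L.img_mul (L.img_conj hI (L.img_L hl)) (L.img_inv (L.img_L hl))) (L.img_J hj)
    exact (mul_inv_eq_iff_eq_mul.1 (mul_inv_eq_one.1 this)).symm
  have hg0 : q * l0 ∈ J := L.img_mem_J (hgg ▸ hI)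
  have hall : ∀ t : T J, ac J (c ^ i) t = t := fun t => by
    obtain ⟨r, hr, rfl⟩ := L.exists_cl t
    have hc := (Cz z).pow_mem L.cC i
    have e : ac J g (cl J r) = cl J r := by
      rw [L.ac_cl hgC hr, L.cl_eq (L.conjJ g hgC r hr) hr]
      have h1 := L.inV_inT (h r (hJC r hr))
      have h2 : InT J (r⁻¹ * (g * r * g⁻¹ * r⁻¹) * r) := by
        rw [mul_assoc, h1.2 r hr, inv_mul_cancel_left]; exact h1
      rw [show (g * r * g⁻¹)⁻¹ * r = (r⁻¹ * (g * r * g⁻¹ * r⁻¹) * r)⁻¹ by group, L.inT_inv h2]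
      exact h2
    rwa [hg, L.ac_comp hc (L.JC hg0), L.ac_J hg0] at e
  have hci : c ^ i = 1 := by
    have hfix : ¬ ∀ t : T J, ac J c t = t := fun hc => by
      have hT := L.card_T
      haveI : Subsingleton (T J) := ⟨fun s t => (L.c_fix (hc s)).trans (L.c_fix (hc t)).symm⟩
      rw [Nat.card_unique] at hT
      norm_num at hT
    rcases L.pow_c i with e | e | e
    · exact e
    · exact absurd (e ▸ hall) hfix
    · refine absurd (fun t => ?_) hfix
      have h1 := congrArg (ac J c) ((e ▸ hall : ∀ t : T J, ac J c⁻¹ t = t) t)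
      rw [← L.ac_comp L.cC ((Cz z).inv_mem L.cC), mul_inv_cancel, L.ac_J J.one_mem] at h1
      exact h1.symm
  rw [hci, one_mul] at hg
  have hgT : InT J g := by
    refine ⟨hg ▸ hg0, fun r hr => ?_⟩
    rcases L.comm g (hg ▸ hg0) r hr with e | e
    · exact e
    · refine absurd ?_ L.z_notV
      have h1 := h r (hJC r hr)
      rwa [show g * r * g⁻¹ * r⁻¹ = z by rw [e]; group] at h1
  rcases L.inT_decomp hgT with hv | hv
  · exact hv
  exfalso
  have hzx : ∀ x ∈ Cn, InV J c (z * x * z⁻¹ * x⁻¹) := fun x hx => by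
    have hzxC : z * x * z⁻¹ ∈ Cn := Cn.mul_mem (Cn.mul_mem (hJC z L.zJ) hx) (Cn.inv_mem (hJC z L.zJ))
    have e2 := Subgroup.mem_centralizer_iff.1 hzxC (g * z) hv
    have e3 : g * x * g⁻¹ = z * x * z⁻¹ := by
      calc g * x * g⁻¹ = (g * z) * (z⁻¹ * x * z) * (g * z)⁻¹ := by group
        _ = (g * z) * (z * x * z⁻¹) * (g * z)⁻¹ := by rw [L.inT_inv L.z_inT]
        _ = _ := by rw [e2, mul_inv_cancel_right]
    rw [← e3]
    exact h x hx
  refine L.z_notV ((hker ⟨z, hJC z L.zJ⟩).1 ?_)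
  have hc : φ ⟨z, hJC z L.zJ⟩ ∈ Subgroup.center (PSU 6 K 2) := Subgroup.mem_center_iff.2 fun y => by
    obtain ⟨x, rfl⟩ := hφ y
    have := (hker (⟨z, hJC z L.zJ⟩ * x * (⟨z, hJC z L.zJ⟩)⁻¹ * x⁻¹)).2 (hzx x x.2)
    rw [map_mul, map_mul, map_mul, map_inv, map_inv] at this
    exact (mul_inv_eq_iff_eq_mul.1 (mul_inv_eq_one.1 this)).symm
  rwa [hUc, Subgroup.mem_bot] at hc

/-- The quotient by the four-group. -/
theorem aut_quot (hs : ∃ s, Out z c J s) (hn : ∀ g v, InV J c v → InV J c (g * v * g⁻¹))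
    (hUc : Subgroup.center (PSU 6 K 2) = ⊥) [Finite (MulAut (PSU 6 K 2))]
    (hUa : Nat.card (MulAut (PSU 6 K 2)) = 6 * Nat.card (PSU 6 K 2)) (hP : Phi (z := z) (c := c) J K) :
    ∃ (W : Subgroup G) (hW : W.Normal), Nat.card ↥W = 4 ∧ (∀ w ∈ W, w ^ 2 = 1) ∧
      Nonempty ((G ⧸ W) ≃* MulAut (PSU 6 K 2)) := by
  classical
  obtain ⟨φ, hφ, hker⟩ := hP
  haveI hW : L.V0.Normal := ⟨fun v hv g => hn g v hv⟩
  let Cn := Subgroup.centralizer {v : G | InV J c v}
  haveI hCnn : Cn.Normal := ⟨fun x hx g => Subgroup.mem_centralizer_iff.2 fun v hv => by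
    have h1 := Subgroup.mem_centralizer_iff.1 hx _ (hn g⁻¹ v hv)
    rw [inv_inv] at h1
    calc v * (g * x * g⁻¹) = g * ((g⁻¹ * v * g) * x) * g⁻¹ := by group
      _ = g * (x * (g⁻¹ * v * g)) * g⁻¹ := by rw [h1]
      _ = _ := by group⟩
  let cj : G → ↥Cn →* ↥Cn := fun g => (MulAut.conjNormal g).toMonoidHom
  have hcj : ∀ g (x : ↥Cn), ((cj g x : ↥Cn) : G) = g * x * g⁻¹ := fun g x => MulAut.conjNormal_apply g x
  have hle : ∀ g, φ.ker ≤ (φ.comp (cj g)).ker := fun g x hx => by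
    rw [MonoidHom.mem_ker, MonoidHom.comp_apply, hker, hcj]
    exact hn g _ ((hker x).1 (MonoidHom.mem_ker.1 hx))
  let th : G → (PSU 6 K 2 →* PSU 6 K 2) := fun g => MonoidHom.liftOfSurjective φ hφ ⟨φ.comp (cj g), hle g⟩
  have hth : ∀ g x, th g (φ x) = φ (cj g x) := fun g x =>
    MonoidHom.liftOfRightInverse_comp_apply _ _ _ ⟨φ.comp (cj g), hle g⟩ x
  have hth2 : ∀ g k y, th g (th k y) = th (g * k) y := fun g k y => by
    obtain ⟨x, rfl⟩ := hφ y
    rw [hth, hth, hth]
    congr 1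
    refine Subtype.ext ?_
    rw [hcj, hcj, hcj]; group
  have hth1 : ∀ y, th 1 y = y := fun y => by
    obtain ⟨x, rfl⟩ := hφ y
    rw [hth]; congr 1
    exact Subtype.ext (by rw [hcj]; group)
  let Θ : G →* MulAut (PSU 6 K 2) :=
    { toFun := fun g =>
        { toFun := th g
          invFun := th g⁻¹
          left_inv := fun y => by rw [hth2, inv_mul_cancel, hth1]
          right_inv := fun y => by rw [hth2, mul_inv_cancel, hth1]
          map_mul' := map_mul (th g) }
      map_one' := MulEquiv.ext hth1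
      map_mul' := fun g k => MulEquiv.ext fun y => (hth2 g k y).symm }
  have hΘ : ∀ g, Θ g = 1 ↔ g ∈ L.V0 := by
    intro g
    constructor
    · intro h
      refine L.aut_kernel hout hz hn φ hker hφ hUc fun x hx => ?_
      have h1 : φ (cj g ⟨x, hx⟩) = φ ⟨x, hx⟩ := (hth g _).symm.trans (DFunLike.congr_fun h (φ ⟨x, hx⟩))
      have h2 := (hker (cj g ⟨x, hx⟩ * (⟨x, hx⟩ : ↥Cn)⁻¹)).1 (by rw [map_mul, map_inv, h1, mul_inv_cancel])
      simpa [hcj] using h2
    · intro hv
      refine MulEquiv.ext fun y => ?_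
      obtain ⟨x, rfl⟩ := hφ y
      show th g (φ x) = φ x
      rw [hth]; congr 1
      refine Subtype.ext ?_
      rw [hcj, Subgroup.mem_centralizer_iff.1 x.2 g hv, mul_inv_cancel_right]
  let Θb : G ⧸ L.V0 →* MulAut (PSU 6 K 2) := QuotientGroup.lift L.V0 Θ fun v hv => (hΘ v).2 hv
  have hinj : Function.Injective Θb := by
    rw [injective_iff_map_eq_one]
    intro y hy
    obtain ⟨g, rfl⟩ := QuotientGroup.mk'_surjective L.V0 y
    exact (QuotientGroup.eq_one_iff g).2 ((hΘ g).1 hy)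
  -- counting
  have hcard : Nat.card ↥Cn = Nat.card (PSU 6 K 2) * 4 := by
    rw [Subgroup.card_eq_card_quotient_mul_card_subgroup φ.ker,
      Nat.card_congr (QuotientGroup.quotientKerEquivOfSurjective φ hφ).toEquiv, ← L.card_V0]
    congr 1
    exact Nat.card_congr
      { toFun := fun x => ⟨x.1, (hker x.1).1 (MonoidHom.mem_ker.1 x.2)⟩
        invFun := fun v => ⟨⟨v, Subgroup.mem_centralizer_iff.2 fun w hw =>
          L.inT_comm (L.inV_inT hw) (L.inV_inT v.2)⟩, MonoidHom.mem_ker.2 ((hker _).2 v.2)⟩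
        left_inv := fun x => rfl
        right_inv := fun v => rfl }
  have hindex : 6 ≤ Cn.index := by
    obtain ⟨s, hso⟩ := hs
    obtain ⟨a, ha, ha1⟩ := L.V0_ne
    let g : Fin 3 → G := fun i => c ^ (i : ℕ)
    have hgI : ∀ i, Inn z c J (g i) := fun i => L.inn_pow_c _
    let f : Fin 3 × Bool → G ⧸ Cn := fun p => ((g p.1 * if p.2 then s else 1 : G) : G ⧸ Cn)
    have hnout : ∀ d ∈ Cn, ¬ Out z c J d := fun d hd ho => by
      obtain ⟨v, hv, hne⟩ := L.out_moves ho
      exact hne (Subgroup.mem_centralizer_iff.1 hd v hv).symm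
    have hdist : ∀ i j, (g i)⁻¹ * g j ∈ Cn → i = j := fun i j h => by
      have h1 : g i * a * (g i)⁻¹ = g j * a * (g j)⁻¹ := by
        have := Subgroup.mem_centralizer_iff.1 h a ha
        calc g i * a * (g i)⁻¹ = g i * (a * ((g i)⁻¹ * g j)) * (g j)⁻¹ := by group
          _ = _ := by rw [this]; group
      obtain ⟨n1, n2, n3⟩ := L.conj_ne ha ha1
      have p0 : c ^ 0 * a * (c ^ 0)⁻¹ = a := by group
      have p1 : c ^ 1 * a * (c ^ 1)⁻¹ = c * a * c⁻¹ := by group
      have p2 : c ^ 2 * a * (c ^ 2)⁻¹ = c⁻¹ * a * c := by rw [pow_two, ← L.cinv, inv_inv]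
      fin_cases i <;> fin_cases j <;> simp only [g] at h1 <;>
        first
        | rfl
        | (rw [p0, p1] at h1; exact absurd h1.symm n1)
        | (rw [p0, p2] at h1; exact absurd h1.symm n2)
        | (rw [p1, p0] at h1; exact absurd h1 n1)
        | (rw [p2, p0] at h1; exact absurd h1 n2)
        | (rw [p1, p2] at h1; exact absurd h1 n3)
        | (rw [p2, p1] at h1; exact absurd h1.symm n3)
    have hf : Function.Injective f := by
      rintro ⟨i, b⟩ ⟨j, b'⟩ h
      have h1 : (g i * if b then s else 1)⁻¹ * (g j * if b' then s else 1) ∈ Cn := QuotientGroup.eq.1 h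
      cases b <;> cases b' <;> simp only [Bool.false_eq_true, if_false, if_true, mul_one] at h1
      · rw [hdist i j h1]
      · exact (hnout _ h1 (L.inn_out_mul (L.inn_inv (hgI i)) (L.inn_out_mul (hgI j) hso))).elim
      · exact (hnout _ h1 (L.out_inn_mul (L.out_inv (L.inn_out_mul (hgI i) hso)) (hgI j))).elim
      · have h2 := hCnn.conj_mem _ h1 s
        rw [show s * ((g i * s)⁻¹ * (g j * s)) * s⁻¹ = (g i)⁻¹ * g j by group] at h2
        rw [hdist i j h2]
    have := Nat.card_le_card_of_injective f hf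
    rw [Nat.card_prod, Nat.card_fin, Nat.card_eq_fintype_card (α := Bool), Fintype.card_bool] at this
    exact this
  have hle' : Nat.card (MulAut (PSU 6 K 2)) ≤ Nat.card (G ⧸ L.V0) := by
    have h1 := Subgroup.card_eq_card_quotient_mul_card_subgroup L.V0
    have h2 : Nat.card ↥Cn * Cn.index = Nat.card G := Subgroup.card_mul_index Cn
    rw [L.card_V0] at h1
    rw [hcard] at h2
    rw [hUa]
    nlinarith [Nat.mul_le_mul_left (Nat.card (PSU 6 K 2) * 4) hindex]
  refine ⟨L.V0, hW, L.card_V0, fun w hw => by rw [pow_two]; exact L.inV_sq hw, ⟨MulEquiv.ofBijective Θb ?_⟩⟩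
  exact (Nat.bijective_iff_injective_and_card Θb).2
    ⟨hinj, le_antisymm (Nat.card_le_card_of_injective Θb hinj) hle'⟩

end Loc

end CfsgLib.FiTwentyThreeType
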