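import Cfsg.Agent.Lib.USixType.Base

/-!
An involution centraliser `(2² × 2^{1+8}).3.U₄(2).2`: the element of order three, the four-group in the centre
of the radical and the decomposition of the centraliser.
-/

set_option autoImplicit false
set_option linter.unusedSectionVars false
set_option linter.style.haveILetI false

open Cfsg
open CfsgLib.USixType (Cz mem_Cz G4)

namespace CfsgLib.FiTwentyThreeType

variable {G : Type*} [Group G]

/-- The centraliser of `c` in that of `z`. -/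
abbrev Cc (z c : G) : Subgroup G := Cz z ⊓ Cz c

/-- Membership of the centre of `J`. -/
def InT (J : Subgroup G) (t : G) : Prop := t ∈ J ∧ ∀ q ∈ J, t * q = q * t

/-- The commutators of `c` with the centre of `J`. -/
def InV (J : Subgroup G) (c v : G) : Prop := ∃ t, InT J t ∧ c * t * c⁻¹ * t⁻¹ = v

/-- Commuting with `c` modulo `J`. -/
def Inn (z c : G) (J : Subgroup G) (x : G) : Prop := x ∈ Cz z ∧ x * c * x⁻¹ * c⁻¹ ∈ J

/-- Inverting `c` modulo `J`. -/
def Out (z c : G) (J : Subgroup G) (x : G) : Prop := x ∈ Cz z ∧ x * c * x⁻¹ * c ∈ J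

/-- The hypotheses on the centraliser. -/
structure Loc [Finite G] (z c : G) (J : Subgroup G) (π : ↥(Cc z c) →* G4) : Prop where
  z2 : z * z = 1
  zne : z ≠ 1
  cC : c ∈ Cz z
  c3 : c * c * c = 1
  cne : c ≠ 1
  JC : J ≤ Cz z
  conjJ : ∀ x ∈ Cz z, ∀ q ∈ J, x * q * x⁻¹ ∈ J
  card : Nat.card J = 2048
  zJ : z ∈ J
  sq : ∀ q ∈ J, q * q = 1 ∨ q * q = z
  comm : ∀ p ∈ J, ∀ q ∈ J, p * q = q * p ∨ p * q = z * (q * p)
  cardT : Nat.card {t : G // InT J t} = 8
  T2 : ∀ t, InT J t → t * t = 1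
  cent : ∀ x ∈ Cz z, (∀ q ∈ J, x * q = q * x) → x ∈ J
  fixc : ∀ q ∈ J, q * c = c * q → q = 1 ∨ q = z
  sgn : ∀ x ∈ Cz z, Inn z c J x ∨ Out z c J x
  surj : Function.Surjective π
  ker : ∀ x : ↥(Cc z c), π x = 1 ↔ ∃ i : ℕ, (x : G) = c ^ i ∨ (x : G) = c ^ i * z

namespace Loc

variable [Finite G] {z c : G} {J : Subgroup G} {π : ↥(Cc z c) →* G4} (L : Loc z c J π)
include L

theorem z_comm {x : G} (hx : x ∈ Cz z) : x * z = z * x := mem_Cz.1 hx

theorem cz : c * z = z * c := L.z_comm L.cC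

theorem cinv : c⁻¹ = c * c := inv_eq_of_mul_eq_one_right (by rw [← mul_assoc]; exact L.c3)

theorem cinv2 : c⁻¹ * c⁻¹ = c := by rw [← mul_inv_rev, ← L.cinv, inv_inv]

theorem z_inT : InT J z := ⟨L.zJ, fun _ hq => (L.z_comm (L.JC hq)).symm⟩

theorem one_inT : InT J (1 : G) := ⟨J.one_mem, fun q _ => by rw [one_mul, mul_one]⟩

theorem inT_mul {s t : G} (hs : InT J s) (ht : InT J t) : InT J (s * t) :=
  ⟨J.mul_mem hs.1 ht.1, fun q hq => by rw [mul_assoc, ht.2 q hq, ← mul_assoc, hs.2 q hq, mul_assoc]⟩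

theorem inT_conj {x t : G} (hx : x ∈ Cz z) (ht : InT J t) : InT J (x * t * x⁻¹) := by
  refine ⟨L.conjJ x hx t ht.1, fun q hq => ?_⟩
  have h := ht.2 _ (L.conjJ x⁻¹ ((Cz z).inv_mem hx) q hq)
  rw [inv_inv] at h
  calc x * t * x⁻¹ * q = x * (t * (x⁻¹ * q * x)) * x⁻¹ := by group
    _ = x * (x⁻¹ * q * x * t) * x⁻¹ := by rw [h]
    _ = _ := by group

theorem inT_inv {t : G} (ht : InT J t) : t⁻¹ = t := inv_eq_of_mul_eq_one_right (L.T2 t ht)

theorem inT_comm {s t : G} (hs : InT J s) (ht : InT J t) : s * t = t * s := hs.2 t ht.1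

/-- The commutator with `c` is a homomorphism on the centre. -/
theorem com_mul {s t : G} (hs : InT J s) (ht : InT J t) :
    c * (s * t) * c⁻¹ * (s * t)⁻¹ = c * s * c⁻¹ * s⁻¹ * (c * t * c⁻¹ * t⁻¹) := by
  have h1 := L.inT_comm (L.inT_conj L.cC ht) (by rw [L.inT_inv hs]; exact hs : InT J s⁻¹)
  have h2 : t⁻¹ * s⁻¹ = s⁻¹ * t⁻¹ := by
    rw [L.inT_inv hs, L.inT_inv ht]; exact L.inT_comm ht hs
  calc c * (s * t) * c⁻¹ * (s * t)⁻¹ = c * s * c⁻¹ * (c * t * c⁻¹) * (t⁻¹ * s⁻¹) := by group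
    _ = c * s * c⁻¹ * ((c * t * c⁻¹) * s⁻¹) * t⁻¹ := by rw [h2]; group
    _ = _ := by rw [h1]; group

theorem com_inT {t : G} (ht : InT J t) : InT J (c * t * c⁻¹ * t⁻¹) :=
  L.inT_mul (L.inT_conj L.cC ht) (by rw [L.inT_inv ht]; exact ht)

theorem com_one {t : G} (ht : InT J t) : c * t * c⁻¹ * t⁻¹ = 1 ↔ t = 1 ∨ t = z := by
  constructor
  · intro h
    refine L.fixc t ht.1 ?_
    rw [mul_inv_eq_one, mul_inv_eq_iff_eq_mul] at h
    exact h.symm
  · rintro (rfl | rfl)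
    · group
    · rw [L.cz]; group

theorem inV_inT {v : G} (hv : InV J c v) : InT J v := by
  obtain ⟨t, ht, rfl⟩ := hv
  exact L.com_inT ht

theorem inV_one : InV J c (1 : G) := ⟨1, L.one_inT, by group⟩

theorem inV_mul {u v : G} (hu : InV J c u) (hv : InV J c v) : InV J c (u * v) := by
  obtain ⟨s, hs, rfl⟩ := hu
  obtain ⟨t, ht, rfl⟩ := hv
  exact ⟨s * t, L.inT_mul hs ht, L.com_mul hs ht⟩

theorem inV_sq {v : G} (hv : InV J c v) : v * v = 1 := L.T2 v (L.inV_inT hv)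

theorem inV_inv {v : G} (hv : InV J c v) : v⁻¹ = v := L.inT_inv (L.inV_inT hv)

theorem inV_C {v : G} (hv : InV J c v) : v ∈ Cz z := L.JC (L.inV_inT hv).1

/-- The subgroup of commutators. -/
def V0 : Subgroup G where
  carrier := {v | InV J c v}
  one_mem' := L.inV_one
  mul_mem' := L.inV_mul
  inv_mem' {v} hv := by
    show InV J c v⁻¹
    rwa [L.inV_inv hv]

theorem mem_V0 {v : G} : v ∈ L.V0 ↔ InV J c v := Iff.rfl

theorem z_notV : ¬ InV J c z := by
  rintro ⟨t, ht, h⟩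
  have e1 : c * t * c⁻¹ = z * t := mul_inv_eq_iff_eq_mul.1 h
  have e2 : c * (c * t * c⁻¹) * c⁻¹ = t := by
    calc c * (c * t * c⁻¹) * c⁻¹ = c * (z * t) * c⁻¹ := by rw [e1]
      _ = c * z * (t * c⁻¹) := by group
      _ = z * (c * t * c⁻¹) := by rw [L.cz]; group
      _ = t := by rw [e1, ← mul_assoc, L.z2, one_mul]
  have e3 : c * t * c⁻¹ = t := by
    calc c * t * c⁻¹ = c * (c * (c * t * c⁻¹) * c⁻¹) * c⁻¹ := by rw [e2]
      _ = c * c * c * t * (c * c * c)⁻¹ := by group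
      _ = t := by rw [L.c3]; group
  rw [e3] at e1
  exact L.zne (by simpa using e1.symm)

theorem card_V0 : Nat.card L.V0 = 4 := by
  classical
  let T : Subgroup G :=
    { carrier := {t | InT J t}
      one_mem' := L.one_inT
      mul_mem' := L.inT_mul
      inv_mem' := fun {t} ht => by show InT J t⁻¹; rwa [L.inT_inv ht] }
  let φ : ↥T →* G :=
    { toFun := fun t => c * (t : G) * c⁻¹ * (t : G)⁻¹
      map_one' := by show c * 1 * c⁻¹ * 1⁻¹ = 1; group
      map_mul' := fun s t => L.com_mul s.2 t.2 }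
  have hr : φ.range = L.V0 := by
    ext v
    exact ⟨fun ⟨t, ht⟩ => ⟨t, t.2, ht⟩, fun ⟨t, ht, e⟩ => ⟨⟨t, ht⟩, e⟩⟩
  have hk : Nat.card φ.ker = 2 := by
    have e : φ.ker = Subgroup.zpowers (⟨z, L.z_inT⟩ : T) := by
      ext t
      constructor
      · intro ht
        rcases (L.com_one t.2).1 ht with e | e
        · rw [show t = 1 from Subtype.ext e]; exact one_mem _
        · rw [show t = ⟨z, L.z_inT⟩ from Subtype.ext e]; exact Subgroup.mem_zpowers _
      · intro ht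
        exact Subgroup.zpowers_le.2 (show (⟨z, L.z_inT⟩ : T) ∈ φ.ker from (L.com_one L.z_inT).2 (Or.inr rfl)) ht
    rw [e, Nat.card_zpowers, ← Subgroup.orderOf_coe]
    exact (orderOf_eq_prime_iff.2 ⟨by rw [pow_two]; exact L.z2, L.zne⟩)
  have h := Subgroup.card_eq_card_quotient_mul_card_subgroup φ.ker
  rw [Nat.card_congr (QuotientGroup.quotientKerEquivRange φ).toEquiv, hr, hk,
    show Nat.card T = 8 from L.cardT] at h
  omega

theorem inV_conjc {v : G} (hv : InV J c v) : InV J c (c * v * c⁻¹) := by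
  obtain ⟨t, ht, rfl⟩ := hv
  exact ⟨c * t * c⁻¹, L.inT_conj L.cC ht, by group⟩

theorem inV_fix {v : G} (hv : InV J c v) (h : c * v * c⁻¹ = v) : v = 1 := by
  rcases L.fixc v (L.inV_inT hv).1 (mul_inv_eq_iff_eq_mul.1 h).symm with e | e
  · exact e
  · exact absurd (e ▸ hv) L.z_notV

theorem cc_conj (u : G) : c⁻¹ * u * c = c * (c * u * c⁻¹) * c⁻¹ := by
  calc c⁻¹ * u * c = c * c * u * (c * c)⁻¹ := by rw [← L.cinv, inv_inv]
    _ = _ := by group

/-- The three involutions are permuted transitively by `c`. -/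
theorem V0_orbit {a v : G} (ha : InV J c a) (ha1 : a ≠ 1) (hv : InV J c v) (hv1 : v ≠ 1) :
    v = a ∨ v = c * a * c⁻¹ ∨ v = c⁻¹ * a * c := by
  classical
  have hb := L.inV_conjc ha
  have hd := L.inV_conjc hb
  have e : c * (c * a * c⁻¹) * c⁻¹ = c⁻¹ * a * c := (L.cc_conj a).symm
  rw [e] at hd
  by_contra h
  push Not at h
  have n1 : a ≠ c * a * c⁻¹ := fun q => ha1 (L.inV_fix ha q.symm)
  have n2 : a ≠ c⁻¹ * a * c := fun q => n1 (
    (calc c * a * c⁻¹ = c * (c⁻¹ * a * c) * c⁻¹ := by rw [← q]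
      _ = a := by group).symm)
  have n3 : c * a * c⁻¹ ≠ c⁻¹ * a * c := fun q => by
    rw [← e] at q
    exact n1 (mul_left_cancel (mul_right_cancel q))
  have one_ne : ∀ {g : G}, g * a * g⁻¹ ≠ 1 := fun {g} q => ha1 (conj_eq_one_iff.1 q)
  have m1 : c * a * c⁻¹ ≠ 1 := one_ne
  have m2 : c⁻¹ * a * c ≠ 1 := by
    have := @one_ne c⁻¹
    rwa [inv_inv] at this
  let f : Fin 5 → L.V0 := ![1, ⟨a, ha⟩, ⟨_, hb⟩, ⟨_, hd⟩, ⟨v, hv⟩]
  have hf : Function.Injective f := by
    intro i j hij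
    have := congrArg Subtype.val hij
    fin_cases i <;> fin_cases j <;> simp [f] at this ⊢ <;>
      first
      | exact absurd this ha1.symm
      | exact absurd this ha1
      | exact absurd this m1.symm
      | exact absurd this m1
      | exact absurd this m2.symm
      | exact absurd this m2
      | exact absurd this hv1.symm
      | exact absurd this hv1
      | exact absurd this n1
      | exact absurd this n1.symm
      | exact absurd this n2
      | exact absurd this n2.symm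
      | exact absurd this n3
      | exact absurd this n3.symm
      | exact absurd this h.1
      | exact absurd this h.1.symm
      | exact absurd this h.2.1
      | exact absurd this h.2.1.symm
      | exact absurd this h.2.2
      | exact absurd this h.2.2.symm
  have := Nat.card_le_card_of_injective f hf
  rw [L.card_V0, Nat.card_eq_fintype_card, Fintype.card_fin] at this
  omega

theorem inn_or {x : G} (hx : x ∈ Cz z) : Inn z c J x ∨ Out z c J x := L.sgn x hx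

theorem c_notJ : c ∉ J := fun h => L.cne (by
  have h1 := L.fixc c h rfl
  rcases h1 with e | e
  · exact e
  · have := L.c3
    rw [e, L.z2, one_mul] at this
    exact absurd this L.zne)

theorem not_both {x : G} (h1 : Inn z c J x) (h2 : Out z c J x) : False := by
  have h := J.mul_mem (J.inv_mem h2.2) h1.2
  rw [show (x * c * x⁻¹ * c)⁻¹ * (x * c * x⁻¹ * c⁻¹) = c⁻¹ * c⁻¹ by group, L.cinv2] at h
  exact L.c_notJ h

/-- The image of a commutator under an element of the centraliser. -/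
theorem inV_conj {x v : G} (hx : x ∈ Cz z) (hv : InV J c v) : InV J c (x * v * x⁻¹) := by
  obtain ⟨t, ht, rfl⟩ := hv
  have hxt := L.inT_conj hx ht
  rcases L.inn_or hx with h | h
  · refine ⟨x * t * x⁻¹, hxt, ?_⟩
    have e : x * (c * t * c⁻¹ * t⁻¹) * x⁻¹ =
        (x * c * x⁻¹ * c⁻¹) * (c * (x * t * x⁻¹) * c⁻¹) * (x * c * x⁻¹ * c⁻¹)⁻¹ * (x * t * x⁻¹)⁻¹ := by group
    rw [e, ← (L.inT_conj L.cC hxt).2 _ h.2, mul_inv_cancel_right]
  · -- the inverse of `c`
    refine ⟨c⁻¹ * (x * t * x⁻¹) * c, ?_, ?_⟩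
    · have := L.inT_conj ((Cz z).inv_mem L.cC) hxt
      rwa [inv_inv] at this
    · set s := x * t * x⁻¹ with hs
      have hs' : InT J (c⁻¹ * s * c) := by
        have := L.inT_conj ((Cz z).inv_mem L.cC) hxt
        rwa [inv_inv] at this
      have e : x * (c * t * c⁻¹ * t⁻¹) * x⁻¹ =
          (x * c * x⁻¹ * c) * (c⁻¹ * s * c) * (x * c * x⁻¹ * c)⁻¹ * s⁻¹ := by rw [hs]; group
      rw [e, ← hs'.2 _ h.2, mul_inv_cancel_right, show c * (c⁻¹ * s * c) * c⁻¹ = s by group,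
        L.inT_inv hs', L.inT_inv hxt]
      exact L.inT_comm hxt hs'

/-- Commuting with one involution of the four-group. -/
theorem inn_fix {x a : G} (hx : Inn z c J x) (ha : InV J c a) (ha1 : a ≠ 1) (h : x * a = a * x) :
    ∀ v, InV J c v → x * v = v * x := by
  intro v hv
  have key : ∀ {u : G}, InV J c u → x * u = u * x → x * (c * u * c⁻¹) = c * u * c⁻¹ * x := by
    intro u hu e
    refine mul_inv_eq_iff_eq_mul.1 ?_
    have e1 : x * u * x⁻¹ = u := mul_inv_eq_iff_eq_mul.2 e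
    calc x * (c * u * c⁻¹) * x⁻¹
        = (x * c * x⁻¹ * c⁻¹) * (c * (x * u * x⁻¹) * c⁻¹) * (x * c * x⁻¹ * c⁻¹)⁻¹ := by group
      _ = c * u * c⁻¹ := by
          rw [e1, ← (L.inV_inT (L.inV_conjc hu)).2 _ hx.2, mul_inv_cancel_right]
  by_cases hv1 : v = 1
  · rw [hv1, mul_one, one_mul]
  rcases L.V0_orbit ha ha1 hv hv1 with rfl | rfl | rfl
  · exact h
  · exact key ha h
  · rw [L.cc_conj]
    exact key (L.inV_conjc ha) (key ha h)

theorem inn_one : Inn z c J (1 : G) := ⟨one_mem _, by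
  rw [one_mul, inv_one, mul_one, mul_inv_cancel]; exact one_mem _⟩

theorem inn_mul {x y : G} (hx : Inn z c J x) (hy : Inn z c J y) : Inn z c J (x * y) := by
  refine ⟨(Cz z).mul_mem hx.1 hy.1, ?_⟩
  rw [show x * y * c * (x * y)⁻¹ * c⁻¹ = x * (y * c * y⁻¹ * c⁻¹) * x⁻¹ * (x * c * x⁻¹ * c⁻¹) by group]
  exact J.mul_mem (L.conjJ x hx.1 _ hy.2) hx.2

theorem inn_inv {x : G} (hx : Inn z c J x) : Inn z c J x⁻¹ := by
  refine ⟨(Cz z).inv_mem hx.1, ?_⟩
  have h := L.conjJ x⁻¹ ((Cz z).inv_mem hx.1) _ (J.inv_mem hx.2)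
  rwa [show x⁻¹ * (x * c * x⁻¹ * c⁻¹)⁻¹ * x⁻¹⁻¹ = x⁻¹ * c * x * c⁻¹ by group,
    show x⁻¹ * c * x = x⁻¹ * c * x⁻¹⁻¹ by group] at h

theorem out_out {x y : G} (hx : Out z c J x) (hy : Out z c J y) : Inn z c J (x * y) := by
  refine ⟨(Cz z).mul_mem hx.1 hy.1, ?_⟩
  rw [show x * y * c * (x * y)⁻¹ * c⁻¹ =
    x * (y * c * y⁻¹ * c) * x⁻¹ * (x * c * x⁻¹)⁻¹ * c⁻¹ by group,
    mul_assoc, show (x * c * x⁻¹)⁻¹ * c⁻¹ = (c * (x * c * x⁻¹))⁻¹ by group]
  refine J.mul_mem (L.conjJ x hx.1 _ hy.2) (J.inv_mem ?_)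
  have h := L.conjJ c L.cC _ hx.2
  rwa [show c * (x * c * x⁻¹ * c) * c⁻¹ = c * (x * c * x⁻¹) by group] at h

theorem inn_J {q : G} (hq : q ∈ J) : Inn z c J q :=
  ⟨L.JC hq, by
    rw [show q * c * q⁻¹ * c⁻¹ = q * (c * q⁻¹ * c⁻¹) by group]
    exact J.mul_mem hq (L.conjJ c L.cC _ (J.inv_mem hq))⟩

theorem inn_c : Inn z c J c := ⟨L.cC, by
  rw [mul_inv_cancel_right, mul_inv_cancel]; exact J.one_mem⟩

theorem inn_cc {x : G} (hx : x ∈ Cc z c) : Inn z c J x :=
  ⟨hx.1, by rw [mem_Cz.1 hx.2, mul_inv_cancel_right, mul_inv_cancel]; exact J.one_mem⟩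

/-- A two-element commuting with `c` modulo `J` centralises the four-group. -/
theorem inn_two {x : G} (hx : Inn z c J x) {n : ℕ} (h2 : x ^ 2 ^ n = 1) :
    ∀ v, InV J c v → x * v = v * x := by
  classical
  have hcard := L.card_V0
  haveI : Nontrivial L.V0 := Finite.one_lt_card_iff_nontrivial.1 (by omega)
  obtain ⟨⟨a, ha⟩, hne⟩ := exists_ne (1 : L.V0)
  have ha1 : a ≠ 1 := fun e => hne (Subtype.ext e)
  replace ha : InV J c a := ha
  refine L.inn_fix hx ha ha1 ?_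
  rw [← mul_inv_eq_iff_eq_mul]
  have hcf : ∀ v : G, InV J c v → x * (c * v * c⁻¹) * x⁻¹ = c * (x * v * x⁻¹) * c⁻¹ := fun v hv => by
    calc x * (c * v * c⁻¹) * x⁻¹
        = (x * c * x⁻¹ * c⁻¹) * (c * (x * v * x⁻¹) * c⁻¹) * (x * c * x⁻¹ * c⁻¹)⁻¹ := by group
      _ = _ := by rw [← (L.inV_inT (L.inV_conjc (L.inV_conj hx.1 hv))).2 _ hx.2, mul_inv_cancel_right]
  have h1 := L.inV_conj hx.1 ha
  have hne1 : x * a * x⁻¹ ≠ 1 := fun e => ha1 (conj_eq_one_iff.1 e)
  have e2n : x ^ 2 ^ n * a * (x ^ 2 ^ n)⁻¹ = a := by rw [h2]; group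
  -- a power of two is prime to three
  have key : ∀ r : G, (∀ v, InV J c v → x * v * x⁻¹ = r * v * r⁻¹) → r * c = c * r →
      ∀ k : ℕ, x ^ k * a * (x ^ k)⁻¹ = r ^ k * a * (r ^ k)⁻¹ ∧ InV J c (r ^ k * a * (r ^ k)⁻¹) := by
    intro r hr _ k
    induction k with
    | zero => exact ⟨by simp, by simpa using ha⟩
    | succ k ih =>
      have e : x ^ (k + 1) * a * (x ^ (k + 1))⁻¹ = r ^ (k + 1) * a * (r ^ (k + 1))⁻¹ := by
        rw [pow_succ', pow_succ']
        calc x * x ^ k * a * (x * x ^ k)⁻¹ = x * (x ^ k * a * (x ^ k)⁻¹) * x⁻¹ := by group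
          _ = r * (r ^ k * a * (r ^ k)⁻¹) * r⁻¹ := by rw [ih.1, hr _ ih.2]
          _ = _ := by group
      refine ⟨e, ?_⟩
      rw [← e, pow_succ']
      have := L.inV_conj hx.1 (v := x ^ k * a * (x ^ k)⁻¹) (by rw [ih.1]; exact ih.2)
      rwa [show x * (x ^ k * a * (x ^ k)⁻¹) * x⁻¹ = x * x ^ k * a * (x * x ^ k)⁻¹ by group] at this
  have same : ∀ r : G, (x * a * x⁻¹ = r * a * r⁻¹) → r * c = c * r →
      ∀ v, InV J c v → x * v * x⁻¹ = r * v * r⁻¹ := by
    intro r e hrc v hv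
    have hr' : ∀ u : G, r * (c * u * c⁻¹) * r⁻¹ = c * (r * u * r⁻¹) * c⁻¹ := fun u => by
      calc r * (c * u * c⁻¹) * r⁻¹ = r * c * u * (r * c)⁻¹ := by group
        _ = c * r * u * (c * r)⁻¹ := by rw [hrc]
        _ = _ := by group
    by_cases hv1 : v = 1
    · subst hv1; group
    rcases L.V0_orbit ha ha1 hv hv1 with rfl | rfl | rfl
    · exact e
    · rw [hcf a ha, hr', e]
    · have e2 := L.cc_conj a
      rw [e2, hcf _ (L.inV_conjc ha), hcf a ha, hr', hr', e]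
  rcases L.V0_orbit ha ha1 h1 hne1 with e | e | e
  · exact e
  · exfalso
    have hk := (key c (same c e rfl) rfl (2 ^ n)).1
    rw [e2n] at hk
    have h3 : c ^ (2 ^ n) = c ∨ c ^ (2 ^ n) = c⁻¹ := by
      have hc3 : c ^ 3 = 1 := by rw [pow_succ, pow_two]; exact L.c3
      rw [← Nat.mod_add_div (2 ^ n) 3, pow_add, pow_mul, hc3, one_pow, mul_one]
      have : 2 ^ n % 3 = 1 ∨ 2 ^ n % 3 = 2 := by
        have h' : ¬ (3 ∣ 2 ^ n) := fun h' => by
          have := (Nat.Prime.dvd_of_dvd_pow Nat.prime_three h')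
          omega
        omega
      rcases this with q | q <;> rw [q]
      · exact Or.inl (pow_one c)
      · exact Or.inr (by rw [pow_two]; exact L.cinv.symm)
    rcases h3 with q | q <;> rw [q] at hk
    · exact ha1 (L.inV_fix ha hk.symm)
    · rw [inv_inv] at hk
      exact ha1 (L.inV_fix ha
        (calc c * a * c⁻¹ = c * (c⁻¹ * a * c) * c⁻¹ := by rw [← hk]
          _ = a := by group))
  · exfalso
    have hec : c⁻¹ * c = c * c⁻¹ := by group
    have hk := (key c⁻¹ (same c⁻¹ (by rw [inv_inv]; exact e) hec) hec (2 ^ n)).1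
    rw [e2n] at hk
    have h3 : c⁻¹ ^ (2 ^ n) = c ∨ c⁻¹ ^ (2 ^ n) = c⁻¹ := by
      have hc3 : c⁻¹ ^ 3 = 1 := by rw [inv_pow, pow_succ, pow_two, L.c3, inv_one]
      rw [← Nat.mod_add_div (2 ^ n) 3, pow_add, pow_mul, hc3, one_pow, mul_one]
      have : 2 ^ n % 3 = 1 ∨ 2 ^ n % 3 = 2 := by
        have h' : ¬ (3 ∣ 2 ^ n) := fun h' => by
          have := (Nat.Prime.dvd_of_dvd_pow Nat.prime_three h')
          omega
        omega
      rcases this with q | q <;> rw [q]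
      · exact Or.inr (pow_one _)
      · exact Or.inl (by rw [pow_two]; exact L.cinv2)
    rcases h3 with q | q <;> rw [q] at hk
    · exact ha1 (L.inV_fix ha hk.symm)
    · rw [inv_inv] at hk
      exact ha1 (L.inV_fix ha
        (calc c * a * c⁻¹ = c * (c⁻¹ * a * c) * c⁻¹ := by rw [← hk]
          _ = a := by group))

/-- An element commuting with `c` modulo `J` is `J` times one commuting with `c`. -/
theorem inn_split {x : G} (hx : Inn z c J x) : ∃ q ∈ J, q⁻¹ * x ∈ Cc z c := by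
  classical
  set Z := Subgroup.zpowers z with hZ
  have hmemZ : ∀ {u : G}, u ∈ Z ↔ u = 1 ∨ u = z := by
    intro u
    constructor
    · rintro ⟨i, rfl⟩
      show z ^ i = 1 ∨ z ^ i = z
      rcases Int.even_or_odd i with ⟨k, rfl⟩ | ⟨k, rfl⟩
      · left; rw [← two_mul, zpow_mul, zpow_two, L.z2, one_zpow]
      · right; rw [zpow_add, zpow_mul, zpow_two, L.z2, one_zpow, one_mul, zpow_one]
    · rintro (e | e) <;> rw [e]
      exacts [one_mem _, Subgroup.mem_zpowers z]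
  set ZJ := Z.subgroupOf J
  let D : ↥J ⧸ ZJ → ↥J ⧸ ZJ := Quotient.lift
    (fun q : ↥J => QuotientGroup.mk (⟨(q : G) * c * (q : G)⁻¹ * c⁻¹, (L.inn_J q.2).2⟩ : ↥J))
    (fun p q (hpq : QuotientGroup.leftRel ZJ p q) => by
      rw [QuotientGroup.leftRel_apply] at hpq
      refine congrArg _ (Subtype.ext ?_)
      show (p : G) * c * (p : G)⁻¹ * c⁻¹ = (q : G) * c * (q : G)⁻¹ * c⁻¹
      rcases hmemZ.1 (Subgroup.mem_subgroupOf.1 hpq) with e | e
      · rw [show (q : G) = p from by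
          rw [show (q : G) = (p : G) * ((p : G)⁻¹ * q) by group,
            show ((p : G)⁻¹ * q) = 1 from e, mul_one]]
      · rw [show (q : G) = (p : G) * z from by
          rw [show (q : G) = (p : G) * ((p : G)⁻¹ * q) by group, show ((p : G)⁻¹ * q) = z from e]]
        symm
        calc (p : G) * z * c * ((p : G) * z)⁻¹ * c⁻¹ = (p : G) * (z * c) * z⁻¹ * (p : G)⁻¹ * c⁻¹ := by group
          _ = _ := by rw [← L.cz]; group)
  have hD : Function.Injective D := by
    intro u v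
    induction u using QuotientGroup.induction_on with | _ p => ?_
    induction v using QuotientGroup.induction_on with | _ q => ?_
    intro h
    rw [QuotientGroup.eq, Subgroup.mem_subgroupOf, hmemZ]
    have h' : ((p : G) * c * (p : G)⁻¹ * c⁻¹)⁻¹ * ((q : G) * c * (q : G)⁻¹ * c⁻¹) ∈ Z :=
      Subgroup.mem_subgroupOf.1 (QuotientGroup.eq.1 h)
    have hr : (p : G)⁻¹ * q ∈ J := J.mul_mem (J.inv_mem p.2) q.2
    refine L.fixc _ hr ?_
    rcases hmemZ.1 h' with e | e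
    · have e' : (p : G) * c * (p : G)⁻¹ = (q : G) * c * (q : G)⁻¹ := by
        have := inv_mul_eq_one.1 e
        exact mul_right_cancel this
      calc (p : G)⁻¹ * q * c = (p : G)⁻¹ * ((q : G) * c * (q : G)⁻¹) * q := by group
        _ = _ := by rw [← e']; push_cast; group
    · exfalso
      have e' : (q : G) * c * (q : G)⁻¹ = (p : G) * c * (p : G)⁻¹ * z := by
        have e2 : (q : G) * c * (q : G)⁻¹ * c⁻¹ = (p : G) * c * (p : G)⁻¹ * c⁻¹ * z := inv_mul_eq_iff_eq_mul.1 e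
        calc (q : G) * c * (q : G)⁻¹ = (q : G) * c * (q : G)⁻¹ * c⁻¹ * c := by group
          _ = (p : G) * c * (p : G)⁻¹ * c⁻¹ * (z * c) := by rw [e2]; group
          _ = _ := by rw [← L.cz]; group
      set d := (p : G) * c * (p : G)⁻¹
      have hd3 : d * d * d = 1 := by
        rw [show d * d * d = (p : G) * (c * c * c) * (p : G)⁻¹ by simp only [d]; group, L.c3]; group
      have hq3 : (q : G) * (c * c * c) * (q : G)⁻¹ = d * z * (d * z) * (d * z) := by rw [← e']; group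
      have hdz : d * z = z * d := L.z_comm ((Cz z).mul_mem ((Cz z).mul_mem (L.JC p.2) L.cC)
        ((Cz z).inv_mem (L.JC p.2)))
      rw [L.c3, mul_one, mul_inv_cancel] at hq3
      have : d * z * (d * z) * (d * z) = z := by
        calc d * z * (d * z) * (d * z) = d * (z * d) * z * (d * z) := by group
          _ = d * d * (z * z) * (d * z) := by rw [← hdz]; group
          _ = d * d * d * z := by rw [L.z2]; group
          _ = z := by rw [hd3, one_mul]
      exact L.zne (this.symm.trans hq3.symm)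
  obtain ⟨u, hu⟩ := (Finite.injective_iff_surjective.1 hD) (QuotientGroup.mk (⟨_, hx.2⟩ : ↥J))
  induction u using QuotientGroup.induction_on with | _ q => ?_
  have h' : ((q : G) * c * (q : G)⁻¹ * c⁻¹)⁻¹ * (x * c * x⁻¹ * c⁻¹) ∈ Z :=
    Subgroup.mem_subgroupOf.1 (QuotientGroup.eq.1 hu)
  set y := (q : G)⁻¹ * x with hy
  have hyC : y ∈ Cz z := (Cz z).mul_mem ((Cz z).inv_mem (L.JC q.2)) hx.1
  have e0 : x = (q : G) * y := by rw [hy]; group
  rw [e0, show ((q : G) * c * (q : G)⁻¹ * c⁻¹)⁻¹ * ((q : G) * y * c * ((q : G) * y)⁻¹ * c⁻¹) =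
    c * (q : G) * (c⁻¹ * (y * c * y⁻¹)) * (c * (q : G))⁻¹ by group] at h'
  have hgo : ∀ u : G, u ∈ Z → (c * (q : G))⁻¹ * u * (c * (q : G)) = u := fun u hu => by
    rcases hmemZ.1 hu with e | e <;> rw [e]
    · group
    · rw [mul_assoc, ← L.z_comm ((Cz z).mul_mem L.cC (L.JC q.2)), inv_mul_cancel_left]
  have h2 : c⁻¹ * (y * c * y⁻¹) ∈ Z := by
    have := hgo _ h'
    rw [show (c * (q : G))⁻¹ * (c * (q : G) * (c⁻¹ * (y * c * y⁻¹)) * (c * (q : G))⁻¹) * (c * (q : G)) =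
      c⁻¹ * (y * c * y⁻¹) by group] at this
    rw [this]; exact h'
  refine ⟨q, q.2, hyC, mem_Cz.2 (mul_inv_eq_iff_eq_mul.1 ?_)⟩
  rcases hmemZ.1 h2 with e | e
  · exact (inv_mul_eq_one.1 e).symm
  · exfalso
    have e' : y * c * y⁻¹ = c * z := inv_mul_eq_iff_eq_mul.1 e
    have hz' : c * z * (c * z) * (c * z) = z := by
      calc c * z * (c * z) * (c * z) = c * (z * c) * z * (c * z) := by group
        _ = c * c * (z * z) * (c * z) := by rw [← L.cz]; group
        _ = c * c * c * z := by rw [L.z2]; group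
        _ = z := by rw [L.c3, one_mul]
    rw [← e', show y * c * y⁻¹ * (y * c * y⁻¹) * (y * c * y⁻¹) = y * (c * c * c) * y⁻¹ by group,
      L.c3, mul_one, mul_inv_cancel] at hz'
    exact L.zne hz'.symm

end Loc

end CfsgLib.FiTwentyThreeType
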