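import Cfsg.Agent.Lib.FiTwentyThreeType.Quot
import Cfsg.Agent.Lib.USixType.Main
import Cfsg.Agent.Lib.Fi22Mult.Main
import Cfsg.Agent.S1714

/-!
The meaning of the three outcomes in the group.
-/

set_option autoImplicit false
set_option linter.unusedSectionVars false
set_option linter.style.haveILetI false

universe u uF uK

open Cfsg
open scoped commutatorElement
open CfsgLib.USixType (Cz mem_Cz G4)

namespace CfsgLib.FiTwentyThreeType

/-- In a simple group a nontrivial subgroup whose complement has its products inside is everything. -/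
theorem top_of_two {U : Type*} [Group U] [IsSimpleGroup U] (B : Subgroup U) (hB : B ≠ ⊥)
    (h2 : ∀ x y, x ∉ B → y ∉ B → x * y ∈ B) : B = ⊤ := by
  refine (Subgroup.Normal.eq_bot_or_eq_top (H := B) ⟨fun p hp q => ?_⟩).resolve_left hB
  by_cases hq : q ∈ B
  · exact B.mul_mem (B.mul_mem hq hp) (B.inv_mem hq)
  · rw [mul_assoc]
    refine h2 _ _ hq fun h => hq ?_
    have := B.mul_mem (B.inv_mem hp) h
    rw [inv_mul_cancel_left] at this
    simpa using B.inv_mem this

variable {G : Type u} [Group G]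

/-- The quotient `P → U₆(2)` of the centraliser of the four-group. -/
def Phi {z c : G} (J : Subgroup G) (K : Type uK) [Field K] [Fintype K] : Prop :=
  ∃ φ : ↥(Subgroup.centralizer {v : G | InV J c v}) →* PSU 6 K 2, Function.Surjective φ ∧
    ∀ p : ↥(Subgroup.centralizer {v : G | InV J c v}), φ p = 1 ↔ InV J c (p : G)

namespace Loc

variable [Finite G] {z c : G} {J : Subgroup G} {π : ↥(Cc z c) →* G4} (L : Loc z c J π)
include L

theorem four_mem {a v x : G} (ha : InV J c a) (ha1 : a ≠ 1) (hv : InV J c v) (hv1 : v ≠ 1) (hva : v ≠ a)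
    (hx : InV J c x) : x = 1 ∨ x = a ∨ x = v ∨ x = v * a := by
  by_cases hx1 : x = 1
  · exact Or.inl hx1
  have h3 := L.third ha ha1
  have hb := L.inV_conjc ha
  have hcomm : a * (c * a * c⁻¹) = c * a * c⁻¹ * a := L.inT_comm (L.inV_inT ha) (L.inV_inT hb)
  rcases L.V0_orbit ha ha1 hv hv1 with e | e | e
  · exact absurd e hva
  all_goals rcases L.V0_orbit ha ha1 hx hx1 with q | q | q
  · exact Or.inr (Or.inl q)
  · exact Or.inr (Or.inr (Or.inl (q.trans e.symm)))
  · exact Or.inr (Or.inr (Or.inr (by rw [q, e, ← hcomm, h3])))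
  · exact Or.inr (Or.inl q)
  · refine Or.inr (Or.inr (Or.inr ?_))
    rw [q, e, ← h3, L.inT_comm (L.inV_inT ha) (L.inV_inT hb), mul_assoc (c * a * c⁻¹) a a, L.inV_sq ha, mul_one]
  · exact Or.inr (Or.inr (Or.inl (q.trans e.symm)))

/-- An outer element fixing `a` exchanges the other two. -/
theorem exists_swap (hs : ∃ s, Out z c J s) {a : G} (ha : InV J c a) (ha1 : a ≠ 1) :
    ∃ s, Out z c J s ∧ s * a = a * s ∧ ∀ v, InV J c v → v ≠ 1 → v ≠ a → s * v * s⁻¹ = v * a := by
  obtain ⟨s0, hs0⟩ := hs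
  obtain ⟨i, -, hi⟩ := L.exists_pow_fix ha ha1 hs0.1
  have hS := L.inn_out_mul (L.inn_pow_c i) hs0
  refine ⟨_, hS, hi, fun v hv hv1 hva => ?_⟩
  set s := c ^ i * s0
  obtain ⟨v', hv', hne⟩ := L.out_moves hS
  rcases L.four_mem ha ha1 hv hv1 hva (L.inV_conj hS.1 hv) with e | e | e | e
  · exact absurd (conj_eq_one_iff.1 e) hv1
  · exfalso
    refine hva ?_
    calc v = s⁻¹ * (s * v * s⁻¹) * s := by group
      _ = s⁻¹ * (a * s) := by rw [e]; group
      _ = a := by rw [← hi, inv_mul_cancel_left]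
  · exfalso
    have hsv : Commute s v := mul_inv_eq_iff_eq_mul.1 e
    rcases L.four_mem ha ha1 hv hv1 hva hv' with q | q | q | q <;> rw [q] at hne <;> apply hne
    exacts [by rw [one_mul, mul_one], hi, hsv, (hsv.mul_right (show Commute s a from hi)).eq]
  · exact e

variable (hs : ∃ s, Out z c J s)
include hs

/-- The Fischer group. -/
theorem fi23_of_fi22 {E0 : Subgroup G} (hE : ExtraData z J E0) {a u : G} (ha : InV J c a) (ha1 : a ≠ 1)
    (hu : u = a ∨ u = a * z) [((Subgroup.zpowers u).subgroupOf (Cz u)).Normal]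
    (h : Spor.IsoFi22 (↥(Cz u) ⧸ (Subgroup.zpowers u).subgroupOf (Cz u))) : Spor.IsoFi23 G := by
  have haT := L.inV_inT ha
  have ha' := L.inV_conjc ha
  have ha'1 : c * a * c⁻¹ ≠ 1 := fun e => ha1 (conj_eq_one_iff.1 e)
  have hne : c * a * c⁻¹ ≠ a := (L.conj_ne ha ha1).1
  have huT : InT J u := by
    rcases hu with e | e <;> rw [e]
    exacts [haT, L.inT_mul haT L.z_inT]
  have hu1 : u ≠ 1 := by
    rcases hu with e | e <;> rw [e]
    · exact ha1
    · intro h
      exact L.z_notV (by rwa [eq_inv_of_mul_eq_one_left h, inv_eq_of_mul_eq_one_right L.z2] at ha)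
  have hJu : J ≤ Cz u := fun q hq => mem_Cz.2 (huT.2 q hq).symm
  have hu2 := L.T2 u huT
  have huo : orderOf u = 2 := orderOf_eq_prime_iff.2 ⟨by rw [pow_two]; exact hu2, hu1⟩
  set N := (Subgroup.zpowers u).subgroupOf (Cz u) with hN
  set mk := QuotientGroup.mk' N
  obtain ⟨e⟩ := id h
  haveI : IsSimpleGroup Spor.Fi22 := Fi22Pres.isFi22.1
  haveI hS : IsSimpleGroup (↥(Cz u) ⧸ N) := e.isSimpleGroup
  have hperf : commutator (↥(Cz u) ⧸ N) = ⊤ := by
    have := congrArg (Subgroup.map e.symm.toMonoidHom) Fi22Mult.fi22_perfect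
    rwa [commutator_def, Subgroup.map_commutator, Subgroup.map_top_of_surjective _ e.symm.surjective,
      ← commutator_def] at this
  -- `u` is in the derived subgroup
  have huD : (⟨u, hJu huT.1⟩ : ↥(Cz u)) ∈ commutator ↥(Cz u) := by
    obtain ⟨s, hso, hsa, hsw⟩ := L.exists_swap hs ha ha1
    have hsu : s ∈ Cz u := mem_Cz.2 (by
      rcases hu with q | q <;> rw [q]
      · exact hsa
      · rw [← mul_assoc, hsa, mul_assoc, L.z_comm hso.1, ← mul_assoc])
    have haD : (⟨a, hJu haT.1⟩ : ↥(Cz u)) ∈ commutator ↥(Cz u) := by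
      rw [commutator_def, show (⟨a, hJu haT.1⟩ : ↥(Cz u)) = ⁅(⟨s, hsu⟩ : ↥(Cz u)),
        ⟨c * a * c⁻¹, hJu (L.inV_inT ha').1⟩⁆ from Subtype.ext (by
          show a = s * (c * a * c⁻¹) * s⁻¹ * (c * a * c⁻¹)⁻¹
          rw [hsw _ ha' ha'1 hne, L.inV_inv ha',
            L.inT_comm (L.inV_inT ha') haT, mul_assoc, L.inV_sq ha', mul_one])]
      exact Subgroup.commutator_mem_commutator (Subgroup.mem_top _) (Subgroup.mem_top _)
    rcases hu with q | q
    · rwa [show (⟨u, hJu huT.1⟩ : ↥(Cz u)) = ⟨a, hJu haT.1⟩ from Subtype.ext q]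
    · rw [show (⟨u, hJu huT.1⟩ : ↥(Cz u)) = ⟨a, hJu haT.1⟩ * ⟨z, hJu L.zJ⟩ from Subtype.ext q]
      refine mul_mem haD ?_
      obtain ⟨p, hp, r, hr, hpr⟩ := hE.nc
      rw [commutator_def, show (⟨z, hJu L.zJ⟩ : ↥(Cz u)) = ⁅(⟨p, hJu (hE.le hp)⟩ : ↥(Cz u)),
        ⟨r, hJu (hE.le hr)⟩⁆ from Subtype.ext (by
          show z = p * r * p⁻¹ * r⁻¹
          rw [hpr]; group)]
      exact Subgroup.commutator_mem_commutator (Subgroup.mem_top _) (Subgroup.mem_top _)
  have hNle : N ≤ commutator ↥(Cz u) := fun x hx => by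
    obtain ⟨i, hi⟩ := Subgroup.mem_subgroupOf.1 hx
    rw [show x = (⟨u, hJu huT.1⟩ : ↥(Cz u)) ^ i from Subtype.ext (by
      rw [SubgroupClass.coe_zpow]; exact hi.symm)]
    exact Subgroup.zpow_mem _ huD i
  have hpe : Group.IsPerfect ↥(Cz u) := by
    refine ⟨eq_top_iff.2 fun x _ => ?_⟩
    have h1 : mk x ∈ (commutator ↥(Cz u)).map mk := by
      rw [commutator_def, Subgroup.map_commutator, Subgroup.map_top_of_surjective _ (QuotientGroup.mk'_surjective N),
        ← commutator_def, hperf]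
      exact Subgroup.mem_top _
    obtain ⟨y, hy, hyx⟩ := h1
    rw [show x = y * (y⁻¹ * x) by group]
    exact mul_mem hy (hNle (QuotientGroup.eq.1 hyx))
  have hcen : Subgroup.center ↥(Cz u) = N := by
    refine le_antisymm (fun x hx => ?_) fun x hx => Subgroup.mem_center_iff.2 fun y => Subtype.ext ?_
    · rw [← QuotientGroup.ker_mk' N, MonoidHom.mem_ker]
      have hc : mk x ∈ Subgroup.center (↥(Cz u) ⧸ N) := Subgroup.mem_center_iff.2 fun q => by
        obtain ⟨y, rfl⟩ := QuotientGroup.mk'_surjective N q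
        rw [← map_mul, ← map_mul, Subgroup.mem_center_iff.1 hx y]
      have hb : Subgroup.center (↥(Cz u) ⧸ N) = ⊥ := by
        refine (Subgroup.Normal.eq_bot_or_eq_top (H := Subgroup.center (↥(Cz u) ⧸ N)) inferInstance).resolve_right
          fun ht => ?_
        have hb' : commutator (↥(Cz u) ⧸ N) = ⊥ := by
          rw [commutator_def, eq_bot_iff, Subgroup.commutator_le]
          intro p _ q _
          rw [Subgroup.mem_bot, commutatorElement_eq_one_iff_mul_comm]
          exact Subgroup.mem_center_iff.1 (ht ▸ Subgroup.mem_top q) p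
        rw [hperf] at hb'
        exact top_ne_bot hb'
      rwa [hb, Subgroup.mem_bot] at hc
    · obtain ⟨i, hi⟩ := Subgroup.mem_subgroupOf.1 hx
      show (y : G) * x = x * y
      rw [← hi]
      exact ((show Commute (y : G) u from mem_Cz.1 y.2).zpow_right i).eq
  have hq : IsQuasisimple ↥(Cz u) := by
    refine ⟨hpe, ?_⟩
    exact (QuotientGroup.quotientMulEquivOfEq hcen).isSimpleGroup
  refine Cfsg.Agent.S1714.result u huo hq h ⟨c, ?_, ?_⟩
  · have := L.inT_conj L.cC huT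
    exact mem_Cz.2 (L.inT_comm this huT)
  · rcases hu with q | q <;> rw [q]
    · exact hne
    · intro h
      apply hne
      rw [show c * (a * z) * c⁻¹ = c * a * c⁻¹ * (c * z * c⁻¹) by group,
        show c * z * c⁻¹ = z from mul_inv_eq_iff_eq_mul.2 L.cz] at h
      exact mul_right_cancel h

variable {K : Type uK} [Field K] [Fintype K]

/-- A four-group with a unitary quotient goes with an involution of the four-group. -/
theorem big_not_prod {a : G} (ha : InV J c a) (ha1 : a ≠ 1) (h : Big z (a * z) K J) : False := by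
  obtain ⟨w, hwT, hw1, hwu, hwk, hwn, -⟩ := h
  obtain ⟨s, hso, hsa, hsw⟩ := L.exists_swap hs ha ha1
  have haz : a * z = z * a := (L.inV_inT ha).2 z L.zJ
  have hwz : w ≠ z := fun e => hwk 0 (by rw [pow_zero, one_mul]; exact e)
  have hwa : w ≠ a := fun e => hwk 1 (by rw [pow_one, mul_assoc, L.z2, mul_one]; exact e)
  have hsz : s * z * s⁻¹ = z := mul_inv_eq_iff_eq_mul.2 (L.z_comm hso.1)
  have hsu : s ∈ Cz (a * z) := mem_Cz.2 (by
    rw [← mul_assoc, hsa, mul_assoc, L.z_comm hso.1, ← mul_assoc])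
  have hw2 : s * w * s⁻¹ = w * a := by
    rcases L.inT_decomp hwT with hv | hv
    · exact hsw w hv hw1 hwa
    · have e := hsw (w * z) hv (fun e => hwz (by
        rw [eq_inv_of_mul_eq_one_left e, inv_eq_of_mul_eq_one_right L.z2])) (fun e => hwu (by
        rw [← e, mul_assoc, L.z2, mul_one]))
      calc s * w * s⁻¹ = s * (w * z * z) * s⁻¹ := by rw [mul_assoc w, L.z2, mul_one]
        _ = s * (w * z) * s⁻¹ * (s * z * s⁻¹) := by group
        _ = w * (z * a) * z := by rw [e, hsz]; group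
        _ = _ := by rw [← haz, mul_assoc, mul_assoc a, L.z2, mul_one]
  rcases hwn s hsu with e | e
  · exact ha1 (mul_eq_left.1 (hw2.symm.trans e))
  · exact L.zne (mul_eq_left.1 (mul_left_cancel (hw2.symm.trans e)).symm)

/-- The normal four-group. -/
theorem big_four (hU : IsSimpleGroup (PSU 6 K 2)) (hUc : Subgroup.center (PSU 6 K 2) = ⊥) {E0 : Subgroup G}
    (hE : ExtraData z J E0) {a : G} (ha : InV J c a) (ha1 : a ≠ 1)
    (hodd : ∀ v, InV J c v → v ≠ 1 → OddIso z (v * z)) (h : Big z a K J) :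
    Cz a ≤ Subgroup.normalizer {v : G | InV J c v} ∧ Phi (z := z) (c := c) J K := by
  classical
  obtain ⟨w, hwT, hw1, hwa, hwk, hwn, P, hPa, hP2, φ, hφ, hker⟩ := h
  have haT := L.inV_inT ha
  have hzT := L.z_inT
  have hJa : J ≤ Cz a := fun q hq => mem_Cz.2 (haT.2 q hq).symm
  have hwz : w ≠ z := fun e => hwk 0 (by rw [pow_zero, one_mul]; exact e)
  have hwaz : w ≠ a * z := fun e => hwk 1 (by rw [pow_one]; exact e)
  -- commutators lie in `P`
  have hcom : ∀ x y, x ∈ Cz a → y ∈ Cz a → x * y * x⁻¹ * y⁻¹ ∈ P := by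
    have hmix : ∀ x y, x ∈ Cz a → y ∈ Cz a → x ∈ P → y ∉ P → x * y ∉ P ∧ y * x ∉ P :=
      fun x y _ _ hx hy => ⟨fun h => hy (by simpa using P.mul_mem (P.inv_mem hx) h),
        fun h => hy (by simpa using P.mul_mem h (P.inv_mem hx))⟩
    intro x y hx hy
    have hxi := (Cz a).inv_mem hx
    have hyi := (Cz a).inv_mem hy
    by_cases h1 : x ∈ P <;> by_cases h2 : y ∈ P
    · exact P.mul_mem (P.mul_mem (P.mul_mem h1 h2) (P.inv_mem h1)) (P.inv_mem h2)
    · exact hP2 _ _ ((Cz a).mul_mem ((Cz a).mul_mem hx hy) hxi) hyi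
        (hmix _ _ hxi ((Cz a).mul_mem hx hy) (P.inv_mem h1) (hmix x y hx hy h1 h2).1).2
        (fun h => h2 (by simpa using P.inv_mem h))
    · rw [show x * y * x⁻¹ * y⁻¹ = x * (y * x⁻¹ * y⁻¹) by group]
      have hn := (hmix y x⁻¹ hy hxi h2 fun h => h1 (by simpa using P.inv_mem h)).1
      exact hP2 _ _ hx ((Cz a).mul_mem ((Cz a).mul_mem hy hxi) hyi) h1
        (hmix _ _ hyi ((Cz a).mul_mem hy hxi) (P.inv_mem h2) hn).2
    · rw [show x * y * x⁻¹ * y⁻¹ = x * y * (x⁻¹ * y⁻¹) by group]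
      exact P.mul_mem (hP2 x y hx hy h1 h2)
        (hP2 _ _ hxi hyi (fun h => h1 (by simpa using P.inv_mem h)) fun h => h2 (by simpa using P.inv_mem h))
  have hzP : z ∈ P := by
    obtain ⟨p, hp, r, hr, hpr⟩ := hE.nc
    have := hcom p r (hJa (hE.le hp)) (hJa (hE.le hr))
    rwa [hpr, show z * (r * p) * p⁻¹ * r⁻¹ = z by group] at this
  set zt := φ ⟨z, hzP⟩
  have hzt1 : zt ≠ 1 := fun e => by
    rcases (hker _).1 e with q | q | q | q
    · exact L.zne q
    · exact L.z_notV (by rw [show z = a from q]; exact ha)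
    · exact hwz (Eq.symm q)
    · exact hwaz (by
        have q' : z = w * a := q
        rw [q', ← mul_assoc, L.inT_comm haT hwT, mul_assoc, L.inV_sq ha, mul_one])
  have hwP : ∀ p ∈ P, p * w = w * p := by
    have hw' : ∀ {p : G}, p ∈ P → ¬ p * w = w * p → p * w * p⁻¹ = w * a := fun {p} hp hn =>
      (hwn p (hPa hp)).resolve_left fun e => hn (mul_inv_eq_iff_eq_mul.1 e)
    set C' : Subgroup ↥P := (Cz w).subgroupOf P
    have hB : C'.map φ = ⊤ := by
      refine top_of_two _ ?_ ?_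
      · intro hb
        have : zt ∈ C'.map φ := ⟨⟨z, hzP⟩, mem_Cz.2 ((hwT.2 z L.zJ).symm), rfl⟩
        rw [hb, Subgroup.mem_bot] at this
        exact hzt1 this
      · intro x y hx hy
        obtain ⟨p, rfl⟩ := hφ x
        obtain ⟨q, rfl⟩ := hφ y
        refine ⟨p * q, mem_Cz.2 (mul_inv_eq_iff_eq_mul.1 ?_), map_mul φ p q⟩
        have h1 := hw' p.2 fun e => hx ⟨p, mem_Cz.2 e, rfl⟩
        have h2 := hw' q.2 fun e => hy ⟨q, mem_Cz.2 e, rfl⟩
        have h3 : (p : G) * a * (p : G)⁻¹ = a := mul_inv_eq_iff_eq_mul.2 (mem_Cz.1 (hPa p.2))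
        show (p : G) * q * w * ((p : G) * q)⁻¹ = w
        calc (p : G) * q * w * ((p : G) * q)⁻¹ = (p : G) * ((q : G) * w * (q : G)⁻¹) * (p : G)⁻¹ := by group
          _ = (p : G) * w * (p : G)⁻¹ * ((p : G) * a * (p : G)⁻¹) := by rw [h2]; group
          _ = w := by rw [h1, h3, mul_assoc, L.inV_sq ha, mul_one]
    intro p hp
    obtain ⟨q, hq, hqe⟩ := (hB ▸ Subgroup.mem_top (φ ⟨p, hp⟩) : φ ⟨p, hp⟩ ∈ C'.map φ)
    have hk : φ (q⁻¹ * ⟨p, hp⟩) = 1 := by rw [map_mul, map_inv, hqe, inv_mul_cancel]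
    have hc : (q⁻¹ * ⟨p, hp⟩ : ↥P) ∈ C' := by
      refine mem_Cz.2 ?_
      show ((q⁻¹ * ⟨p, hp⟩ : ↥P) : G) * w = w * ((q⁻¹ * ⟨p, hp⟩ : ↥P) : G)
      rcases (hker _).1 hk with e | e | e | e <;> rw [e]
      · rw [one_mul, mul_one]
      · exact L.inT_comm haT hwT
      · rw [mul_assoc w a w, L.inT_comm haT hwT]
    have := C'.mul_mem hq hc
    rw [mul_inv_cancel_left] at this
    exact mem_Cz.1 (Subgroup.mem_subgroupOf.1 this)
  have hwV : InV J c w := by
    refine (L.inT_decomp hwT).resolve_right fun hv => ?_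
    have hv1 : w * z ≠ 1 := fun e => hwz (by
      rw [eq_inv_of_mul_eq_one_left e, inv_eq_of_mul_eq_one_right L.z2])
    have ho := hodd (w * z) hv hv1
    rw [mul_assoc, L.z2, mul_one] at ho
    have hzo : orderOf zt = 2 := orderOf_eq_prime_iff.2 ⟨by
      rw [pow_two, ← map_mul, show (⟨z, hzP⟩ * ⟨z, hzP⟩ : ↥P) = 1 from Subtype.ext L.z2, map_one], hzt1⟩
    have hiso : ∀ g, g * zt * g⁻¹ ∈ Cz zt → g * zt * g⁻¹ = zt := by
      intro g hg
      obtain ⟨p, rfl⟩ := hφ g
      have hzz : zt * zt = 1 := by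
        have := pow_orderOf_eq_one zt
        rwa [hzo, pow_two] at this
      set s := φ p * zt * (φ p)⁻¹ with hs
      have hs2 : s * s = 1 := by
        rw [hs, show φ p * zt * (φ p)⁻¹ * (φ p * zt * (φ p)⁻¹) = φ p * (zt * zt) * (φ p)⁻¹ by group, hzz]; group
      have hr : (s * zt) * (s * zt) = 1 := by
        rw [show s * zt * (s * zt) = s * (zt * s) * zt by group, ← mem_Cz.1 hg, ← mul_assoc s, hs2, one_mul, hzz]
      have hodd' := ho (p : G) (mem_Cz.2 (hwP p p.2))
      have e : s * zt = φ (p * ⟨z, hzP⟩ * p⁻¹ * ⟨z, hzP⟩) := by simp [hs, zt]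
      have hd : orderOf (s * zt) ∣ orderOf ((p : G) * z * (p : G)⁻¹ * z) := by
        rw [e]
        refine (orderOf_map_dvd φ _).trans ?_
        rw [← Subgroup.orderOf_coe]
        exact dvd_rfl
      have h1 : orderOf (s * zt) = 1 := Nat.Coprime.eq_one_of_dvd
        (Nat.coprime_two_right.2 (hodd'.of_dvd_nat hd)) (orderOf_dvd_of_pow_eq_one (by rw [pow_two]; exact hr))
      rw [eq_inv_of_mul_eq_one_left (orderOf_eq_one_iff.1 h1), inv_eq_of_mul_eq_one_right hzz]
    have hsup := USixType.sup_oddCore_of_isolated hzo hiso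
    haveI hOn : (oddCore (PSU 6 K 2)).Normal := Transfer.pPrimeCore_normal 2 _
    haveI := hU
    rcases hOn.eq_bot_or_eq_top with hO | hO
    · rw [hO, sup_bot_eq] at hsup
      refine hzt1 ?_
      have hc : zt ∈ Subgroup.center (PSU 6 K 2) :=
        Subgroup.mem_center_iff.2 fun q => mem_Cz.1 (hsup ▸ Subgroup.mem_top q)
      rwa [hUc, Subgroup.mem_bot] at hc
    · have hcop : (Nat.card (oddCore (PSU 6 K 2))).Coprime 2 := Transfer.pPrimeCore_coprime 2
      rw [hO, Subgroup.card_top] at hcop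
      have hd := orderOf_dvd_natCard zt
      rw [hzo] at hd
      have := Nat.Coprime.eq_one_of_dvd (Nat.coprime_comm.1 hcop) hd
      omega
  have hmemV : ∀ v, InV J c v → v = 1 ∨ v = a ∨ v = w ∨ v = w * a :=
    fun v hv => L.four_mem ha ha1 hwV hw1 hwa hv
  have hVmem : ∀ {x : G}, (x = 1 ∨ x = a ∨ x = w ∨ x = w * a) → InV J c x := fun {x} h => by
    rcases h with e | e | e | e <;> rw [e]
    exacts [L.inV_one, ha, hwV, L.inV_mul hwV ha]
  refine ⟨?_, ?_⟩
  · intro x hx
    have key : ∀ y ∈ Cz a, ∀ v, InV J c v → InV J c (y * v * y⁻¹) := by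
      intro y hy v hv
      have h1 : InV J c (y * w * y⁻¹) := by
        rcases hwn y hy with e | e <;> rw [e]
        exacts [hwV, L.inV_mul hwV ha]
      have h2 : InV J c (y * a * y⁻¹) := by rw [mul_inv_eq_iff_eq_mul.2 (mem_Cz.1 hy)]; exact ha
      rcases hmemV v hv with e | e | e | e <;> rw [e]
      · rw [mul_one, mul_inv_cancel]; exact L.inV_one
      · exact h2
      · exact h1
      · rw [show y * (w * a) * y⁻¹ = y * w * y⁻¹ * (y * a * y⁻¹) by group]
        exact L.inV_mul h1 h2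
    refine Subgroup.mem_set_normalizer_iff.2 fun v => ⟨key x hx v, fun hv => ?_⟩
    have := key x⁻¹ ((Cz a).inv_mem hx) _ hv
    rwa [show x⁻¹ * (x * v * x⁻¹) * x⁻¹⁻¹ = v by group] at this
  · have hPC : P = Subgroup.centralizer {v : G | InV J c v} := by
      refine le_antisymm (fun p hp => Subgroup.mem_centralizer_iff.2 fun v hv => ?_) fun x hx => ?_
      · have h1 : Commute p a := mem_Cz.1 (hPa hp)
        have h2 : Commute p w := hwP p hp
        rcases hmemV v hv with e | e | e | e <;> rw [e]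
        exacts [by rw [one_mul, mul_one], h1.symm.eq, h2.symm.eq, (h2.mul_right h1).symm.eq]
      · by_contra hxP
        obtain ⟨s, hso, hsa, hsw⟩ := L.exists_swap hs ha ha1
        have hxa : x ∈ Cz a := mem_Cz.2 (Subgroup.mem_centralizer_iff.1 hx a ha).symm
        have hxw : x * w = w * x := (Subgroup.mem_centralizer_iff.1 hx w hwV).symm
        have hsP : s ∉ P := fun h => ha1 (mul_eq_left.1
          ((hsw w hwV hw1 hwa).symm.trans (mul_inv_eq_iff_eq_mul.2 (hwP s h))))
        have := hwP _ (hP2 x s hxa (mem_Cz.2 hsa) hxP hsP)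
        refine ha1 (mul_eq_left.1 ((hsw w hwV hw1 hwa).symm.trans (mul_inv_eq_iff_eq_mul.2 ?_)))
        rw [mul_assoc, ← mul_assoc w x s, ← hxw, mul_assoc] at this
        exact mul_left_cancel this
    subst hPC
    exact ⟨φ, hφ, fun p => (hker p).trans ⟨hVmem, hmemV _⟩⟩

end Loc

end CfsgLib.FiTwentyThreeType
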