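import Cfsg.Agent.Lib.FiTwentyThreeType.AutQuot
import Cfsg.Agent.Lib.Coprime.Generation
import Cfsg.Agent.Lib.USixType.Control

/-!
The three possibilities for the group.
-/

set_option autoImplicit false
set_option linter.unusedSectionVars false
set_option linter.style.haveILetI false

universe u uF uK

open Cfsg
open CfsgLib.USixType (Cz mem_Cz G4)

namespace CfsgLib.FiTwentyThreeType

theorem zpowers_normal {G : Type u} [Group G] (u : G) : ((Subgroup.zpowers u).subgroupOf (Cz u)).Normal := by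
  refine ⟨fun x hx y => ?_⟩
  obtain ⟨i, hi⟩ := Subgroup.mem_subgroupOf.1 hx
  refine ⟨i, ?_⟩
  show u ^ i = (y : G) * (x : G) * (y : G)⁻¹
  rw [show (x : G) = u ^ i from hi.symm, ((show Commute (y : G) u from mem_Cz.1 y.2).zpow_right i).eq,
    mul_inv_cancel_right]

variable {G : Type u} [Group G] [Finite G] {z c : G} {J : Subgroup G} {π : ↥(Cc z c) →* G4}

namespace Loc

variable (L : Loc z c J π)
include L

variable (hout : OutFaith z c J) (hz : ∀ t g, InT J t → g * z * g⁻¹ = t → t = z)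
include hout hz

/-- The normaliser of the four-group is everything. -/
theorem four_normal {a : G} (ha : InV J c a) (ha1 : a ≠ 1)
    (hX : Cz a ≤ Subgroup.normalizer {v : G | InV J c v})
    (hb : ∀ v, InV J c v → v ≠ 1 → OddIso z (v * z)) :
    ∀ g v, InV J c v → InV J c (g * v * g⁻¹) := by
  classical
  haveI : Fact (Nat.Prime 2) := ⟨Nat.prime_two⟩
  set N := Subgroup.normalizer {v : G | InV J c v} with hNdef
  have hN : ∀ {n v : G}, n ∈ N → InV J c v → InV J c (n * v * n⁻¹) := fun {n v} hn hv =>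
    (Subgroup.mem_set_normalizer_iff.1 hn v).1 hv
  have hH : Cz z ≤ N := fun x hx => Subgroup.mem_set_normalizer_iff.2 fun v => ⟨L.inV_conj hx, fun h => by
    have := L.inV_conj ((Cz z).inv_mem hx) h
    rwa [show x⁻¹ * (x * v * x⁻¹) * x⁻¹⁻¹ = v by group] at this⟩
  have hcz : c ∈ N := hH L.cC
  have hv : ∀ v, InV J c v → v ≠ 1 → Cz v ≤ N := by
    intro v hv hv1 x hx
    have key : ∀ d ∈ N, d * a * d⁻¹ = v → x ∈ N := fun d hd e => by
      have h1 : d⁻¹ * x * d ∈ Cz a := mem_Cz.2 (by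
        have hxv := mem_Cz.1 hx
        rw [← e] at hxv
        calc d⁻¹ * x * d * a = d⁻¹ * (x * (d * a * d⁻¹)) * d := by group
          _ = _ := by rw [hxv]; group)
      rw [show x = d * (d⁻¹ * x * d) * d⁻¹ by group]
      exact N.mul_mem (N.mul_mem hd (hX h1)) (N.inv_mem hd)
    rcases L.V0_orbit ha ha1 hv hv1 with e | e | e
    · exact key 1 N.one_mem (by rw [e]; group)
    · exact key c hcz e.symm
    · exact key c⁻¹ (N.inv_mem hcz) (by rw [e]; group)
  -- the other involutions of the centre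
  have hvz : ∀ v, InV J c v → v ≠ 1 → Cz (v * z) ≤ N := by
    intro v hv' hv1
    set C1 := Cz (v * z) with hC1
    have hTC : ∀ t, InT J t → t ∈ C1 := fun t ht =>
      mem_Cz.2 (L.inT_comm ht (L.inT_mul (L.inV_inT hv') L.z_inT))
    set z1 : ↥C1 := ⟨z, hTC z L.z_inT⟩
    have hz1o : orderOf z1 = 2 := by
      rw [← Subgroup.orderOf_coe]
      exact orderOf_eq_prime_iff.2 ⟨by rw [pow_two]; exact L.z2, L.zne⟩
    have hiso : ∀ g : ↥C1, g * z1 * g⁻¹ ∈ Cz z1 → g * z1 * g⁻¹ = z1 := by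
      intro g hg
      apply Subtype.ext
      show (g : G) * z * (g : G)⁻¹ = z
      have hc : (g : G) * z * (g : G)⁻¹ * z = z * ((g : G) * z * (g : G)⁻¹) := congrArg Subtype.val (mem_Cz.1 hg)
      set s := (g : G) * z * (g : G)⁻¹ with hs
      have s2 : s * s = 1 := by
        rw [hs, show (g : G) * z * (g : G)⁻¹ * ((g : G) * z * (g : G)⁻¹) = (g : G) * (z * z) * (g : G)⁻¹ by group,
          L.z2]
        group
      have hr : s * z * (s * z) = 1 := by
        rw [show s * z * (s * z) = s * (z * s) * z by group, ← hc, ← mul_assoc s, s2, one_mul, L.z2]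
      have h1 : orderOf (s * z) = 1 := Nat.Coprime.eq_one_of_dvd
        (Nat.coprime_two_right.2 (hb v hv' hv1 (g : G) g.2)) (orderOf_dvd_of_pow_eq_one (by rw [pow_two]; exact hr))
      rw [eq_inv_of_mul_eq_one_left (orderOf_eq_one_iff.1 h1), inv_eq_of_mul_eq_one_right L.z2]
    have hsup := USixType.sup_oddCore_of_isolated hz1o hiso
    haveI hOn : (oddCore ↥C1).Normal := Transfer.pPrimeCore_normal 2 _
    set O := (oddCore ↥C1).map C1.subtype with hO
    have hOle : O ≤ C1 := Subgroup.map_subtype_le _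
    have hON : O ≤ N := by
      haveI : IsMulCommutative ↥L.V0 := ⟨⟨fun p q => Subtype.ext
        (L.inT_comm (L.inV_inT p.2) (L.inV_inT q.2))⟩⟩
      refine Coprime.le_of_centralizer_le (A := L.V0) ?_ ?_ ?_ ?_
      · intro hcyc
        obtain ⟨g, hg⟩ := IsCyclic.exists_ofOrder_eq_natCard (α := ↥L.V0)
        rw [L.card_V0] at hg
        have h2 : orderOf g ∣ 2 := orderOf_dvd_of_pow_eq_one (Subtype.ext (by
          show (g : G) ^ 2 = 1
          rw [pow_two]; exact L.inV_sq g.2))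
        rw [hg] at h2
        norm_num at h2
      · intro x hx
        exact Subgroup.le_normalizer_map (H := oddCore ↥C1) C1.subtype
          (⟨⟨x, hTC x (L.inV_inT hx)⟩, by rw [Subgroup.normalizer_eq_top]; exact Subgroup.mem_top _, rfl⟩ :
            x ∈ (Subgroup.normalizer ((oddCore ↥C1) : Set ↥C1)).map C1.subtype)
      · rw [L.card_V0, hO, Subgroup.card_map_of_injective (Subgroup.subtype_injective _)]
        exact Nat.Coprime.pow_left 2 (Nat.coprime_comm.1 (Transfer.pPrimeCore_coprime 2))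
      · intro g hg hg1
        exact inf_le_right.trans (hv g hg hg1)
    intro x hx
    obtain ⟨p, hp, o, ho, hpo⟩ := Subgroup.mem_sup_of_normal_right.1
      (hsup ▸ Subgroup.mem_top (⟨x, hx⟩ : ↥C1) : (⟨x, hx⟩ : ↥C1) ∈ Cz z1 ⊔ oddCore ↥C1)
    rw [show x = (p : G) * o from (congrArg Subtype.val hpo).symm]
    exact N.mul_mem (hH (mem_Cz.2 (congrArg Subtype.val (mem_Cz.1 hp)))) (hON ⟨o, ho, rfl⟩)
  have hfus : ∀ {k : G}, k ∈ N → (∃ g : G, g * z * g⁻¹ = k) → ∃ n ∈ N, n * z * n⁻¹ = k :=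
    fun hk hK => L.fusion hz hH (fun v h1 h2 => Or.inl (hv v h1 h2)) hb hk hK
  -- conjugates of the four-group in its normaliser
  obtain ⟨Q, hQ⟩ := L.exists_sylow_Cz hz
  have hclos : ∀ v, InV J c v → v ≠ 1 → ∀ g, g * v * g⁻¹ ∈ N → InV J c (g * v * g⁻¹) := by
    intro v hv' hv1 g hg
    set x := g * v * g⁻¹
    have x2 : x * x = 1 := by
      rw [show x * x = g * (v * v) * g⁻¹ by simp only [x]; group, L.inV_sq hv']; group
    have hR : IsPGroup 2 (Subgroup.zpowers x) := IsPGroup.of_card (n := 1) (by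
      rw [Nat.card_zpowers, pow_one]
      exact orderOf_eq_prime_iff.2 ⟨by rw [pow_two]; exact x2, fun e => hv1 (conj_eq_one_iff.1 e)⟩)
    obtain ⟨n, hn, hnx⟩ := exists_conj_into Q hQ hH hR (Subgroup.zpowers_le.2 hg)
    have hz' := L.z_comm (hnx x (Subgroup.mem_zpowers x))
    set g' := n * g with hg'
    have h1 : g'⁻¹ * z * g' ∈ Cz v := mem_Cz.2 (by
      calc g'⁻¹ * z * g' * v = g'⁻¹ * (z * (n * x * n⁻¹)) * g' := by rw [hg']; simp only [x]; group
        _ = g'⁻¹ * (n * x * n⁻¹ * z) * g' := by rw [hz']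
        _ = _ := by rw [hg']; simp only [x]; group)
    obtain ⟨m, hm, hme⟩ := hfus (hv v hv' hv1 h1) ⟨g'⁻¹, by group⟩
    have h2 : g' * m ∈ N := hH (mem_Cz.2 (by
      calc g' * m * z = g' * (m * z * m⁻¹) * m := by group
        _ = _ := by rw [hme]; group))
    have hgN : g ∈ N := by
      rw [show g = n⁻¹ * (g' * m) * m⁻¹ by rw [hg']; group]
      exact N.mul_mem (N.mul_mem (N.inv_mem hn) h2) (N.inv_mem hm)
    exact hN hgN hv'
  -- all conjugates of `z`
  have hall : ∀ g, g * z * g⁻¹ ∈ N := by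
    intro g
    set x := g * z * g⁻¹ with hx
    have x2 : x * x = 1 := by
      rw [hx, show g * z * g⁻¹ * (g * z * g⁻¹) = g * (z * z) * g⁻¹ by group, L.z2]; group
    rcases USixType.two_invol (x := x) x2 (L.inV_sq ha) with ⟨h, -, he⟩ | ⟨w, -, hw1, hw2, hxw, haw, h, -, he⟩
    · exact absurd (hz a (h * g) (L.inV_inT ha) (by rw [← he, hx]; group)) fun e => L.z_notV (e ▸ ha)
    have hwN : w ∈ N := hv a ha ha1 (mem_Cz.2 haw.symm.eq)
    have haN : a ∈ N := hH (L.inV_C ha)
    have hawN : a * w ∈ N := N.mul_mem haN hwN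
    rcases he with he | he
    · obtain ⟨n, hn, hne⟩ := hfus hawN ⟨h * g, by rw [← he, hx]; group⟩
      set v' := n⁻¹ * a * n with hv'
      have hv'V : InV J c v' := by
        have := hN (N.inv_mem hn) ha
        rwa [inv_inv] at this
      have hv'1 : v' ≠ 1 := fun e => ha1 (by
        rw [show a = n * v' * n⁻¹ by rw [hv']; group, e]; group)
      have hwe : w = n * (v' * z) * n⁻¹ := by
        calc w = a * (a * w) := by rw [← mul_assoc, L.inV_sq ha, one_mul]
          _ = _ := by rw [← hne, hv']; group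
      have h1 : n⁻¹ * x * n ∈ Cz (v' * z) := mem_Cz.2 (by
        have e := hxw.eq
        rw [hwe] at e
        calc n⁻¹ * x * n * (v' * z) = n⁻¹ * (x * (n * (v' * z) * n⁻¹)) * n := by group
          _ = _ := by rw [e]; group)
      rw [show x = n * (n⁻¹ * x * n) * n⁻¹ by group]
      exact N.mul_mem (N.mul_mem hn (hvz v' hv'V hv'1 h1)) (N.inv_mem hn)
    · have h1 := hclos a ha ha1 h (he ▸ hawN)
      rw [he] at h1
      have hwV := L.inV_mul ha h1
      rw [← mul_assoc, L.inV_sq ha, one_mul] at hwV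
      exact hv w hwV hw1 (mem_Cz.2 hxw.eq)
  intro g v hv'
  refine hN ?_ hv'
  obtain ⟨n, hn, hne⟩ := hfus (hall g) ⟨g, rfl⟩
  have h1 : n⁻¹ * g ∈ N := hH (mem_Cz.2 (by
    calc n⁻¹ * g * z = n⁻¹ * (g * z * g⁻¹) * g := by group
      _ = _ := by rw [← hne]; group))
  rw [show g = n * (n⁻¹ * g) by group]
  exact N.mul_mem hn h1

/-- The trichotomy. -/
theorem trichotomy {F : Type uF} [Field F] {K : Type uK} [Field K] [Fintype K] (h32 : CaseType.{u} F K)
    (hθ : Theta z c J F) {E0 : Subgroup G} (hE : ExtraData z J E0) (hs : ∃ s, Out z c J s)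
    (hU : IsSimpleGroup (PSU 6 K 2)) (hUc : Subgroup.center (PSU 6 K 2) = ⊥) [Finite (MulAut (PSU 6 K 2))]
    (hUa : Nat.card (MulAut (PSU 6 K 2)) = 6 * Nat.card (PSU 6 K 2)) :
    Cz z ⊔ oddCore G = ⊤ ∨ Spor.IsoFi23 G ∨
      (∃ (W : Subgroup G) (_ : W.Normal), Nat.card ↥W = 4 ∧ (∀ w ∈ W, w ^ 2 = 1) ∧
        Nonempty ((G ⧸ W) ≃* MulAut (PSU 6 K 2))) := by
  classical
  by_cases hFi : Spor.IsoFi23 G
  · exact Or.inr (Or.inl hFi)
  have hb : ∀ v, InV J c v → v ≠ 1 → OddIso z (v * z) := by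
    intro v hv hv1
    haveI := zpowers_normal (v * z)
    rcases L.quot_outcome hout hz h32 hθ hE hv hv1 (Or.inr rfl) with h | h | h
    · exact h
    · exact absurd (L.fi23_of_fi22 hs hE hv hv1 (Or.inr rfl) h) hFi
    · exact (L.big_not_prod hs hv hv1 h).elim
  have hone : ∀ v, InV J c v → v ≠ 1 →
      OddIso z v ∨ (Cz v ≤ Subgroup.normalizer {v : G | InV J c v} ∧ Phi (z := z) (c := c) J K) := by
    intro v hv hv1
    haveI := zpowers_normal v
    rcases L.quot_outcome hout hz h32 hθ hE hv hv1 (Or.inl rfl) with h | h | h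
    · exact Or.inl h
    · exact absurd (L.fi23_of_fi22 hs hE hv hv1 (Or.inl rfl) h) hFi
    · exact Or.inr (L.big_four hs hU hUc hE hv hv1 hb h)
  by_cases hbig : ∃ a, InV J c a ∧ a ≠ 1 ∧
      Cz a ≤ Subgroup.normalizer {v : G | InV J c v} ∧ Phi (z := z) (c := c) J K
  · obtain ⟨a, ha, ha1, hX, hP⟩ := hbig
    obtain ⟨W, hW, h⟩ := L.aut_quot hout hz hs (L.four_normal hout hz ha ha1 hX hb) hUc hUa hP
    exact Or.inr (Or.inr ⟨W, hW, h⟩)
  · left
    refine USixType.sup_oddCore_of_isolated (orderOf_eq_prime_iff.2 ⟨by rw [pow_two]; exact L.z2, L.zne⟩)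
      fun g hg => ?_
    obtain ⟨n, hn, hne⟩ := L.fusion hz (le_refl (Cz z))
      (fun v h1 h2 => Or.inr ((hone v h1 h2).resolve_right fun h => hbig ⟨v, h1, h2, h⟩)) hb hg ⟨g, rfl⟩
    rw [← hne, L.z_comm hn, mul_inv_cancel_right]

end Loc

end CfsgLib.FiTwentyThreeType
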