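import Cfsg.Agent.Lib.FiTwentyThreeType.Setting

/-!
The extraspecial complement of the centre in the radical.
-/

set_option autoImplicit false
set_option linter.unusedSectionVars false
set_option linter.style.haveILetI false

open Cfsg
open CfsgLib.USixType (Cz mem_Cz G4)

namespace CfsgLib.FiTwentyThreeType

variable {G : Type*} [Group G]

/-- An extraspecial complement of the centre of `J` over `z`. -/
structure ExtraData (z : G) (J E : Subgroup G) : Prop where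
  ext : IsExtraspecial 2 ↥E
  cardE : Nat.card ↥E = 2 ^ 9
  le : E ≤ J
  zE : z ∈ E
  meet : ∀ t, InT J t → t ∈ E → t = 1 ∨ t = z
  cover : ∀ q ∈ J, ∃ t e, InT J t ∧ e ∈ E ∧ t * e = q
  nc : ∃ p ∈ E, ∃ q ∈ E, p * q = z * (q * p)

theorem exists_extra [Finite G] (z : G) {c : G} {π : ↥(Cc z c) →* G4}
    (L : Loc z c (radJ z) π) (V E : Subgroup ↥(Cz z))
    (hVE : IsInternalDirectProduct V E (pCore 2 ↥(Cz z)))
    (hV2 : ∀ v ∈ V, v ^ 2 = 1) (hE : IsExtraspecial 2 ↥E) (hEc : Nat.card ↥E = 2 ^ 9) :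
    ∃ E0 : Subgroup G, ExtraData z (radJ z) E0 := by
  classical
  obtain ⟨hVO, hEO, hcomm, -, hsup⟩ := hVE
  set E0 := E.map (Cz z).subtype with hE0
  have hle : E0 ≤ radJ z := Subgroup.map_mono hEO
  have hinj := (Cz z).subtype_injective
  have memE : ∀ {x}, x ∈ E0 ↔ ∃ e ∈ E, (e : G) = x := fun {x} => Iff.rfl
  -- a pair with commutator `z`
  obtain ⟨p, q, hpq⟩ : ∃ p q : ↥E, p * q ≠ q * p := by
    by_contra h
    push Not at h
    have h2 := hE.2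
    rw [show Subgroup.center ↥E = ⊤ from eq_top_iff.2 fun a _ => Subgroup.mem_center_iff.2 fun b => h b a,
      Subgroup.card_top, hEc] at h2
    norm_num at h2
  have hp : ((p : ↥(Cz z)) : G) ∈ E0 := ⟨_, p.2, rfl⟩
  have hq : ((q : ↥(Cz z)) : G) ∈ E0 := ⟨_, q.2, rfl⟩
  have hpq' := (L.comm _ (hle hp) _ (hle hq)).resolve_left fun h => hpq (Subtype.ext (Subtype.ext h))
  have hzE : z ∈ E0 := by
    rw [show z = (p : ↥(Cz z)) * q * (((q : ↥(Cz z)) : G) * (p : ↥(Cz z)))⁻¹ from eq_mul_inv_of_mul_eq hpq'.symm]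
    exact E0.mul_mem (E0.mul_mem hp hq) (E0.inv_mem (E0.mul_mem hq hp))
  obtain ⟨ζ, hζ, hζz⟩ := memE.1 hzE
  have hζc : (⟨ζ, hζ⟩ : ↥E) ∈ Subgroup.center ↥E := Subgroup.mem_center_iff.2 fun b =>
    Subtype.ext (Subtype.ext (by
      show ((b : ↥(Cz z)) : G) * (ζ : G) = (ζ : G) * (b : ↥(Cz z))
      rw [hζz]; exact mem_Cz.1 (b : ↥(Cz z)).2))
  -- the product
  let P : Subgroup ↥(Cz z) :=
    { carrier := {r | ∃ v ∈ V, ∃ e ∈ E, v * e = r}
      one_mem' := ⟨1, V.one_mem, 1, E.one_mem, mul_one 1⟩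
      mul_mem' := by
        rintro _ _ ⟨v, hv, e, he, rfl⟩ ⟨w, hw, f, hf, rfl⟩
        exact ⟨v * w, V.mul_mem hv hw, e * f, E.mul_mem he hf, by
          rw [mul_assoc, ← mul_assoc w, hcomm w hw e he, mul_assoc e, ← mul_assoc]⟩
      inv_mem' := by
        rintro _ ⟨v, hv, e, he, rfl⟩
        exact ⟨v⁻¹, V.inv_mem hv, e⁻¹, E.inv_mem he, by
          rw [mul_inv_rev, hcomm _ (V.inv_mem hv) _ (E.inv_mem he)]⟩ }
  have hP : pCore 2 ↥(Cz z) ≤ P := hsup.symm.le.trans (sup_le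
    (fun v hv => ⟨v, hv, 1, E.one_mem, mul_one v⟩) fun e he => ⟨1, V.one_mem, e, he, one_mul e⟩)
  have hVab : ∀ u ∈ V, ∀ v ∈ V, u * v = v * u := fun u hu v hv => by
    have i : ∀ w ∈ V, w⁻¹ = w := fun w hw => inv_eq_of_mul_eq_one_right (by rw [← pow_two]; exact hV2 w hw)
    calc u * v = (u * v)⁻¹ := (i _ (V.mul_mem hu hv)).symm
      _ = _ := by rw [mul_inv_rev, i u hu, i v hv]
  have hVT : ∀ v ∈ V, InT (radJ z) (v : G) := fun v hv => ⟨⟨v, hVO hv, rfl⟩, by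
    rintro _ ⟨r, hr, rfl⟩
    obtain ⟨w, hw, e, he, rfl⟩ := hP hr
    refine congrArg Subtype.val (?_ : v * (w * e) = w * e * v)
    rw [← mul_assoc, hVab v hv w hw, mul_assoc, hcomm v hv e he, mul_assoc]⟩
  refine ⟨E0, ⟨Extraspecial.isExtraspecial_congr (E.equivMapOfInjective _ hinj) hE,
    (Subgroup.card_map_of_injective hinj).trans hEc, hle, hzE, ?_, ?_, ⟨_, hp, _, hq, hpq'⟩⟩⟩
  · intro t ht htE
    obtain ⟨e, he, rfl⟩ := memE.1 htE
    by_cases h1 : (e : G) = 1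
    · exact Or.inl h1
    refine Or.inr ?_
    obtain ⟨y, -, huniq⟩ := (Nat.card_eq_two_iff' (1 : Subgroup.center ↥E)).1 hE.2
    have hec : (⟨e, he⟩ : ↥E) ∈ Subgroup.center ↥E := Subgroup.mem_center_iff.2 fun b =>
      Subtype.ext (Subtype.ext (ht.2 _ (hle ⟨_, b.2, rfl⟩)).symm)
    have e1 := huniq ⟨_, hec⟩ fun h => h1 (congrArg (fun w : Subgroup.center ↥E => (((w : ↥E) : ↥(Cz z)) : G)) h)
    have e2 := huniq ⟨_, hζc⟩ fun h => L.zne (hζz ▸ congrArg (fun w : Subgroup.center ↥E => (((w : ↥E) : ↥(Cz z)) : G)) h)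
    refine Eq.trans ?_ hζz
    exact congrArg (fun w : Subgroup.center ↥E => (((w : ↥E) : ↥(Cz z)) : G)) (e1.trans e2.symm)
  · rintro _ ⟨r, hr, rfl⟩
    obtain ⟨v, hv, e, he, rfl⟩ := hP hr
    exact ⟨v, e, hVT v hv, ⟨e, he, rfl⟩, rfl⟩

end CfsgLib.FiTwentyThreeType
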