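import Cfsg.Agent.Lib.FiTwentyThreeType.Action

/-!
Fixed spaces on the quotient of `J` by its centre and their lifts.
-/

set_option autoImplicit false
set_option linter.unusedSectionVars false
set_option linter.style.haveILetI false
set_option maxRecDepth 100000

open Cfsg
open CfsgLib.USixType

namespace CfsgLib.FiTwentyThreeType

variable {G : Type*} [Group G]

/-- The image of the centraliser of `x` in `J`. -/
def Rb (J : Subgroup G) (x : G) (t : T J) : Prop := ∃ q ∈ J, x * q = q * x ∧ cl J q = t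

namespace Loc

variable [Finite G] {z c : G} {J : Subgroup G} {π : ↥(Cc z c) →* G4} (L : Loc z c J π)
include L

theorem ac_one_t {x : G} (hx : x ∈ Cz z) : ac J x (1 : T J) = 1 := by
  rw [← cl_one J, L.ac_cl hx J.one_mem, mul_one, mul_inv_cancel, cl_one]

theorem ac_inj {x : G} (hx : x ∈ Cz z) {s t : T J} (h : ac J x s = ac J x t) : s = t := by
  rw [← L.ac_inv hx s, h, L.ac_inv hx]

theorem Rb_fix {x : G} (hx : x ∈ Cz z) {t : T J} (h : Rb J x t) : ac J x t = t := by
  obtain ⟨q, hq, e, rfl⟩ := h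
  rw [L.ac_cl hx hq, e, mul_inv_cancel_right]

theorem Rb_one {x : G} : Rb J x (1 : T J) := ⟨1, J.one_mem, by rw [mul_one, one_mul], cl_one J⟩

theorem Rb_mul {x : G} {s t : T J} (hs : Rb J x s) (ht : Rb J x t) : Rb J x (s * t) := by
  obtain ⟨p, hp, e1, rfl⟩ := hs
  obtain ⟨q, hq, e2, rfl⟩ := ht
  exact ⟨p * q, J.mul_mem hp hq, by rw [← mul_assoc, e1, mul_assoc, e2, mul_assoc], cl_mul hp hq⟩

/-- Lifts commuting up to `z` give a half. -/
theorem rb_half {x : G} {S : T J → Prop}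
    (hl : ∀ t, S t → ∃ q ∈ J, cl J q = t ∧ (x * q = q * x ∨ x * q = z * (q * x))) :
    Nat.card {t // S t} ≤ 2 * Nat.card {t // Rb J x t} := by
  classical
  by_cases h : ∀ t, S t → Rb J x t
  · exact (Nat.card_le_card_of_injective (fun t : {t // S t} => (⟨t.1, h t.1 t.2⟩ : {t // Rb J x t}))
      (fun a b e => Subtype.ext (congrArg Subtype.val e :))).trans (Nat.le_mul_of_pos_left _ (by norm_num))
  push Not at h
  obtain ⟨w, hw, hwn⟩ := h
  have hprod : ∀ t, S t → ¬ Rb J x t → Rb J x (w * t) := by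
    intro t ht htn
    obtain ⟨p, hp, hpt, hpc⟩ := hl w hw
    obtain ⟨q, hq, hqt, hqc⟩ := hl t ht
    have hp' : x * p = z * (p * x) := hpc.resolve_left fun e => hwn ⟨p, hp, e, hpt⟩
    have hq' : x * q = z * (q * x) := hqc.resolve_left fun e => htn ⟨q, hq, e, hqt⟩
    refine ⟨p * q, J.mul_mem hp hq, ?_, by rw [cl_mul hp hq, hpt, hqt]⟩
    calc x * (p * q) = z * (p * x) * q := by rw [← mul_assoc, hp']
      _ = z * p * (x * q) := by group
      _ = z * (p * z) * (q * x) := by rw [hq']; group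
      _ = z * (z * p) * (q * x) := by rw [L.z_comm (L.JC hp)]
      _ = z * z * (p * q * x) := by group
      _ = _ := by rw [L.z2, one_mul]
  let f : {t // S t} → {t // Rb J x t} × Bool := fun t =>
    if h : Rb J x t.1 then (⟨t.1, h⟩, false) else (⟨w * t.1, hprod t.1 t.2 h⟩, true)
  have hf : Function.Injective f := by
    intro a b e
    simp only [f] at e
    split at e <;> split at e <;> simp only [Prod.mk.injEq, Subtype.mk.injEq, Bool.true_eq_false,
      Bool.false_eq_true, and_false, and_true] at e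
    · exact Subtype.ext e
    · exact Subtype.ext (mul_left_cancel e)
  calc Nat.card {t // S t} ≤ Nat.card ({t // Rb J x t} × Bool) := Nat.card_le_card_of_injective f hf
    _ = _ := by rw [Nat.card_prod, Nat.card_eq_fintype_card (α := Bool), Fintype.card_bool, mul_comm]

/-- Subsets invariant under `c`. -/
theorem card_mod_three {S : T J → Prop} (h1 : S 1) (hc : ∀ t, S t → S (ac J c t)) :
    Nat.card {t // S t} % 3 = 1 := by
  classical
  haveI : Fintype {t // S t} := Fintype.ofFinite _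
  haveI : Fact (Nat.Prime 3) := ⟨Nat.prime_three⟩
  let σ : Function.End {t // S t} := fun t => ⟨ac J c t.1, hc t.1 t.2⟩
  have h3 : σ ^ 3 ^ 1 = 1 := by
    funext t
    apply Subtype.ext
    show ac J c (ac J c (ac J c t.1)) = t.1
    rw [← L.ac_comp L.cC L.cC, ← L.ac_comp ((Cz z).mul_mem L.cC L.cC) L.cC, L.c3,
      L.ac_J J.one_mem]
  have hm := Equiv.Perm.card_fixedPoints_modEq h3
  have hfix : Fintype.card (Function.fixedPoints σ) = 1 := by
    rw [Fintype.card_eq_one_iff]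
    refine ⟨⟨⟨1, h1⟩, Subtype.ext (L.ac_one_t L.cC)⟩, fun t => Subtype.ext (Subtype.ext ?_)⟩
    exact L.c_fix (congrArg Subtype.val t.2)
  rw [hfix] at hm
  rw [Nat.card_eq_fintype_card]
  simpa [Nat.ModEq] using hm

/-- An outer element fixes nothing together with its image under `c`. -/
theorem out_split {x : G} (hx : Out z c J x) {s t : T J} (hs : ac J x s = s) (ht : ac J x t = t)
    (h : s = ac J c t) : t = 1 := by
  have e := L.out_c hx t
  rw [ht, ← h, hs, h] at e
  -- `c t = c⁻¹ t`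
  have e2 : ac J c (ac J c t) = t := by
    rw [e, ← L.ac_comp L.cC ((Cz z).inv_mem L.cC), mul_inv_cancel, L.ac_J J.one_mem]
  refine L.c_fix ?_
  have h3 : ac J c (ac J c (ac J c t)) = t := by
    rw [← L.ac_comp L.cC L.cC, ← L.ac_comp ((Cz z).mul_mem L.cC L.cC) L.cC, L.c3,
      L.ac_J J.one_mem]
  rwa [e2] at h3

/-- Two disjoint copies. -/
theorem out_square {f : G} (hf : Out z c J f) {S U : T J → Prop} (hS : ∀ t, S t → ac J f t = t)
    (hU : ∀ t, S t → U t ∧ U (ac J c t)) (hUm : ∀ s t, U s → U t → U (s * t)) :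
    Nat.card {t // S t} * Nat.card {t // S t} ≤ Nat.card {t // U t} := by
  classical
  rw [← Nat.card_prod]
  refine Nat.card_le_card_of_injective
    (fun p : {t // S t} × {t // S t} => (⟨p.1.1 * ac J c p.2.1, hUm _ _ (hU _ p.1.2).1 (hU _ p.2.2).2⟩ :
      {t // U t})) ?_
  intro p q e
  have e' : p.1.1 * ac J c p.2.1 = q.1.1 * ac J c q.2.1 := congrArg Subtype.val e
  have hi : ∀ u : T J, u⁻¹ = u := fun u => inv_eq_of_mul_eq_one_right (L.T_sq u)
  have e2 : p.1.1 * q.1.1 = ac J c (p.2.1 * q.2.1) := by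
    rw [L.ac_mul L.cC]
    calc p.1.1 * q.1.1 = p.1.1 * (ac J c p.2.1 * ac J c p.2.1) * q.1.1 := by rw [L.T_sq, mul_one]
      _ = q.1.1 * ac J c q.2.1 * ac J c p.2.1 * q.1.1 := by rw [← mul_assoc, e']
      _ = ac J c q.2.1 * ac J c p.2.1 * (q.1.1 * q.1.1) := by
          rw [mul_assoc q.1.1, L.T_comm q.1.1, mul_assoc]
      _ = _ := by rw [L.T_sq, mul_one, L.T_comm]
  have hfC := hf.1
  have hfix : ∀ {a b : T J}, S a → S b → ac J f (a * b) = a * b := fun ha hb => by
    rw [L.ac_mul hfC, hS _ ha, hS _ hb]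
  have h2 := L.out_split hf (hfix p.1.2 q.1.2) (hfix p.2.2 q.2.2) e2
  rw [h2, L.ac_one_t L.cC] at e2
  have k : ∀ {a b : T J}, a * b = 1 → a = b := fun {a b} h => by
    rw [eq_inv_of_mul_eq_one_left h, hi]
  exact Prod.ext (Subtype.ext (k e2)) (Subtype.ext (k h2))

/-- An element with a rotation of order three commuting with it. -/
theorem lift_three {g : G4} (h3 : g * (g * g) = 1) :
    ∃ u, InL z c J u ∧ pim π u = g ∧ u * (u * u) = 1 := by
  obtain ⟨l, hl, rfl⟩ := L.L_lift g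
  have h3' : pim π (l * (l * l)) = 1 := by
    rw [L.pim_mul hl.1 ((Cc z c).mul_mem hl.1 hl.1), L.pim_mul hl.1 hl.1, h3]
  refine ⟨l ^ 4, L.L_pow hl 4, ?_, ?_⟩
  · rw [L.pim_pow hl.1]
    calc pim π l ^ 4 = pim π l * (pim π l * pim π l) * pim π l := by
          rw [← pow_three, ← pow_succ]
      _ = _ := by rw [h3, one_mul]
  · have e : l ^ 4 * (l ^ 4 * l ^ 4) = (l * (l * l)) * (l * (l * l)) * ((l * (l * l)) * (l * (l * l))) := by
      simp only [show (4 : ℕ) = 0 + 1 + 1 + 1 + 1 from rfl, pow_succ, pow_zero, one_mul, mul_assoc]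
    rw [e]
    rcases L.L_ker (L.L_mul hl (L.L_mul hl hl)) h3' with q | q <;> rw [q]
    · group
    · rw [L.z2, mul_one]

theorem dW_three : evalW dW * (evalW dW * evalW dW) = 1 := by
  rw [← evalW_append, ← evalW_append, show (1 : G4) = evalW [] from rfl]
  exact evalW_eq dW_facts.2.1

theorem dW_comm (k : Bool) : evalW dW * evalW (repW k) = evalW (repW k) * evalW dW := by
  rw [← evalW_append, ← evalW_append]
  exact evalW_eq (dW_facts.2.2.1 k)

/-- Fixed vectors of an inner involution lift to elements commuting up to `z`. -/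
theorem fix_lift {x : G} {k : Bool} (hx : Img J π x (evalW (repW k))) {t : T J} (ht : ac J x t = t) :
    ∃ q ∈ J, cl J q = t ∧ (x * q = q * x ∨ x * q = z * (q * x)) := by
  obtain ⟨e, heb, hea, heg⟩ := L.exists_frame
  obtain ⟨j, hj, y, hy, rfl, hyp⟩ := hx
  obtain ⟨u, hu, hup, hu3⟩ := L.lift_three L.dW_three
  have hyu : y * u * y⁻¹ = u := by
    have hL := L.L_mul (L.L_mul (L.L_mul hy hu) (L.L_inv hy)) (L.L_inv hu)
    have hp : pim π (y * u * y⁻¹ * u⁻¹) = 1 := by
      rw [L.pim_mul ((Cc z c).mul_mem ((Cc z c).mul_mem hy.1 hu.1) ((Cc z c).inv_mem hy.1))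
        ((Cc z c).inv_mem hu.1), L.pim_mul ((Cc z c).mul_mem hy.1 hu.1) ((Cc z c).inv_mem hy.1),
        L.pim_mul hy.1 hu.1, L.pim_inv hy.1, L.pim_inv hu.1, hup, hyp, ← L.dW_comm k]
      group
    rcases L.L_ker hL hp with q | q
    · exact mul_inv_eq_one.1 q
    · exfalso
      have e1 : y * u * y⁻¹ = z * u := mul_inv_eq_iff_eq_mul.1 q
      have hz : u * z = z * u := L.z_comm (L.L_Cz hu)
      have e2 : z * u * (z * u * (z * u)) = z := by
        rw [← pow_three, (show Commute z u from hz.symm).mul_pow, pow_three, pow_three, hu3, mul_one,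
          L.z2, mul_one]
      rw [← e1, show y * u * y⁻¹ * (y * u * y⁻¹ * (y * u * y⁻¹)) = y * (u * (u * u)) * y⁻¹ by group,
        hu3, mul_one, mul_inv_cancel] at e2
      exact L.zne e2.symm
  obtain ⟨q, hq, rfl⟩ := L.exists_cl t
  have hyC := L.L_Cz hy
  have huC := L.L_Cz hu
  have hs : InT J (q⁻¹ * (y * q * y⁻¹)) := by
    rw [← L.cl_eq hq (L.conjJ y hyC q hq), ← L.ac_cl hyC hq]
    rw [L.ac_comp (L.JC hj) hyC, L.ac_J hj] at ht
    exact ht.symm
  set s := q⁻¹ * (y * q * y⁻¹) with hsdef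
  have hyq : y * q * y⁻¹ = q * s := by rw [hsdef]; group
  set q1 := u * q * u⁻¹ with hq1
  set q2 := u * q1 * u⁻¹ with hq2
  have h1 : q1 ∈ J := L.conjJ u huC q hq
  have h2 : q2 ∈ J := L.conjJ u huC q1 h1
  have hus : u * s * u⁻¹ = s := mul_inv_eq_iff_eq_mul.2 (L.L_T hu hs)
  have y1 : y * q1 * y⁻¹ = q1 * s := by
    calc y * q1 * y⁻¹ = (y * u * y⁻¹) * (y * q * y⁻¹) * (y * u * y⁻¹)⁻¹ := by rw [hq1]; group
      _ = u * q * u⁻¹ * (u * s * u⁻¹) := by rw [hyu, hyq]; group
      _ = _ := by rw [hus]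
  have y2 : y * q2 * y⁻¹ = q2 * s := by
    calc y * q2 * y⁻¹ = (y * u * y⁻¹) * (y * q1 * y⁻¹) * (y * u * y⁻¹)⁻¹ := by rw [hq2]; group
      _ = u * q1 * u⁻¹ * (u * s * u⁻¹) := by rw [hyu, y1]; group
      _ = _ := by rw [hus]
  have hyf : y * (q1 * q2) * y⁻¹ = q1 * q2 := by
    calc y * (q1 * q2) * y⁻¹ = (y * q1 * y⁻¹) * (y * q2 * y⁻¹) := by group
      _ = q1 * (s * q2) * s := by rw [y1, y2]; group
      _ = q1 * q2 * (s * s) := by rw [hs.2 q2 h2]; group
      _ = _ := by rw [L.T2 s hs, mul_one]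
  refine ⟨q1 * q2, J.mul_mem h1 h2, ?_, ?_⟩
  · have ha : ∀ v, ac J u (e v) = e (app (linW gL dW) v) := fun v => by
      rw [L.ac_img (L.img_L hu), hup, heg, natL_evalW]
    obtain ⟨v, hv⟩ := heb.2 (cl J q)
    rw [cl_mul h1 h2, hq2, ← L.ac_cl huC h1, hq1, ← L.ac_cl huC hq, ← hv, ha, ha, ← hea]
    congr 1
    exact (xr_eq_zero.1 (dW_facts.2.2.2 v)).symm
  · set p := q1 * q2
    have hp : p ∈ J := J.mul_mem h1 h2
    have hyp' : y * p = p * y := mul_inv_eq_iff_eq_mul.1 hyf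
    rcases L.comm j hj p hp with e' | e'
    · left
      rw [mul_assoc, hyp', ← mul_assoc, e', mul_assoc]
    · right
      rw [mul_assoc, hyp', ← mul_assoc, e']
      group

/-- The number of fixed vectors. -/
theorem fix_card {x : G} {g m : G4} {k : Bool} (hx : Img J π x g) (hg : g = m * evalW (repW k) * m⁻¹) :
    Nat.card {t // ac J x t = t} = (fixR k).length := by
  classical
  obtain ⟨e, heb, -, heg⟩ := L.exists_frame
  have hmem : ∀ v, v ∈ fixR k ↔ app (linW gL (repW k)) v = v := fun v => by simp [fixR]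
  have hnd : (fixR k).Nodup := (List.nodup_finRange _).filter _
  rw [← List.toFinset_card_of_nodup hnd, ← Fintype.card_coe, ← Nat.card_eq_fintype_card]
  symm
  refine Nat.card_eq_of_bijective (fun v : ↥(fixR k).toFinset => (⟨L.actG m (e v.1), ?_⟩ :
    {t // ac J x t = t})) ⟨?_, ?_⟩
  · rw [L.ac_img hx, hg, ← L.actG_mul, inv_mul_cancel_right, L.actG_mul, heg, natL_evalW,
      (hmem _).1 (List.mem_toFinset.1 v.2)]
  · intro v w h
    have h' : L.actG m (e v.1) = L.actG m (e w.1) := congrArg Subtype.val h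
    have h2 := congrArg (L.actG m⁻¹) h'
    rw [← L.actG_mul, ← L.actG_mul, inv_mul_cancel, L.actG_one, L.actG_one] at h2
    exact Subtype.ext (heb.1 h2)
  · rintro ⟨t, ht⟩
    obtain ⟨v, hv⟩ := heb.2 (L.actG m⁻¹ t)
    have hv' : app (linW gL (repW k)) v = v := by
      refine heb.1 ?_
      rw [← natL_evalW, ← heg, hv, ← L.actG_mul, show evalW (repW k) * m⁻¹ = m⁻¹ * g by rw [hg]; group,
        L.actG_mul, ← L.ac_img hx, ht]
    refine ⟨⟨v, List.mem_toFinset.2 ((hmem v).2 hv')⟩, Subtype.ext ?_⟩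
    show L.actG m (e v) = t
    rw [hv, ← L.actG_mul, mul_inv_cancel, L.actG_one]

/-- The centraliser in `J` covers half of the fixed space. -/
theorem rb_big {x : G} {g m : G4} {k : Bool} (hx : Img J π x g) (hg : g = m * evalW (repW k) * m⁻¹) :
    (fixR k).length ≤ 2 * Nat.card {t // Rb J x t} := by
  rw [← L.fix_card hx hg]
  have hxC := (L.img_H1 hx).1.1
  refine L.rb_half fun t ht => ?_
  obtain ⟨l, hl, rfl⟩ := L.L_lift m
  have hlC := L.L_Cz hl
  have hI : Img J π (l⁻¹ * x * l) (evalW (repW k)) := by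
    have := L.img_mul (L.img_mul (L.img_inv (L.img_L hl)) hx) (L.img_L hl)
    rwa [hg, show (pim π l)⁻¹ * (pim π l * evalW (repW k) * (pim π l)⁻¹) * pim π l = evalW (repW k) by
      group] at this
  have hiC := (Cz z).inv_mem hlC
  have hfx : ac J (l⁻¹ * x * l) (ac J l⁻¹ t) = ac J l⁻¹ t := by
    rw [← L.ac_comp ((Cz z).mul_mem ((Cz z).mul_mem hiC hxC) hlC) hiC, mul_inv_cancel_right,
      L.ac_comp hiC hxC, ht]
  obtain ⟨q, hq, hqt, hc⟩ := L.fix_lift hI hfx
  refine ⟨l * q * l⁻¹, L.conjJ l hlC q hq, ?_, ?_⟩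
  · rw [← L.ac_cl hlC hq, hqt, ← L.ac_comp hlC hiC, mul_inv_cancel, L.ac_J J.one_mem]
  · rcases hc with e | e
    · left
      calc x * (l * q * l⁻¹) = l * (l⁻¹ * x * l * q) * l⁻¹ := by group
        _ = _ := by rw [e]; group
    · right
      calc x * (l * q * l⁻¹) = l * (l⁻¹ * x * l * q) * l⁻¹ := by group
        _ = (l * z) * (q * (l⁻¹ * x * l)) * l⁻¹ := by rw [e]; group
        _ = _ := by rw [L.z_comm hlC]; group

/-- The centraliser in `J` of one of its noncentral elements covers half. -/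
theorem rb_J {x : G} (hx : x ∈ J) : 256 ≤ 2 * Nat.card {t // Rb J x t} := by
  have h : Nat.card {t : T J // True} ≤ 2 * Nat.card {t // Rb J x t} :=
    L.rb_half fun t _ => by
      obtain ⟨q, hq, rfl⟩ := L.exists_cl t
      exact ⟨q, hq, rfl, L.comm x hx q hq⟩
  rwa [Nat.card_congr (Equiv.subtypeUnivEquiv fun _ => trivial), L.card_T] at h

/-- An element of order three over `dW` commuting with an involution. -/
theorem four_lift {x : G} (hx : Img J π x (evalW (repW true))) (hx2 : x * x = 1) :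
    ∃ u, Img J π u (evalW dW) ∧ u * x = x * u := by
  obtain ⟨e, heb, hea, heg⟩ := L.exists_frame
  obtain ⟨u0, hu0, hu0p, hu03⟩ := L.lift_three L.dW_three
  have hu0C := L.L_Cz hu0
  have hxC := (L.img_H1 hx).1.1
  have hxi : x⁻¹ = x := inv_eq_of_mul_eq_one_right hx2
  set j := u0 * x * u0⁻¹ * x⁻¹ with hj
  have hjJ : j ∈ J := by
    refine L.img_mem_J ?_
    have := L.img_mul (L.img_conj (L.img_L hu0) hx) (L.img_inv hx)
    rwa [hu0p, L.dW_comm true, show ∀ r d : G4, r * d * d⁻¹ * r⁻¹ = 1 from fun r d => by group] at this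
  have hfx : ac J x (cl J j) = cl J j := by
    rw [L.ac_cl hxC hjJ]
    have e1 : x * j * x⁻¹ = j⁻¹ := by
      rw [hj]
      simp only [mul_inv_rev, inv_inv, hxi]
      calc x * (u0 * x * u0⁻¹ * x) * x = x * (u0 * x * u0⁻¹) * (x * x) := by group
        _ = _ := by rw [hx2]; group
    rw [e1, L.cl_inv hjJ]
    exact inv_eq_of_mul_eq_one_right (L.T_sq _)
  obtain ⟨v, hv⟩ := heb.2 (cl J j)
  have hr : app (linW gL (repW true)) v = v := heb.1 (by
    rw [← natL_evalW, ← heg, hv, ← L.ac_img hx, hfx])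
  obtain ⟨w, hw⟩ := rep_facts.2 v hr
  obtain ⟨q, hq, hqw⟩ := L.exists_cl (e w)
  have hqC := L.JC hq
  set u1 := q⁻¹ * u0 with hu1
  set t := u1 * x * u1⁻¹ * x⁻¹ with ht
  have ht' : t = q⁻¹ * j * (x * q * x⁻¹) := by rw [ht, hu1, hj]; group
  have htT : InT J t := by
    have hm : x * q * x⁻¹ ∈ J := L.conjJ x hxC q hq
    rw [ht', ← L.cl_eq_one (J.mul_mem (J.mul_mem (J.inv_mem hq) hjJ) hm),
      cl_mul (J.mul_mem (J.inv_mem hq) hjJ) hm, cl_mul (J.inv_mem hq) hjJ, L.cl_inv hq,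
      inv_eq_of_mul_eq_one_right (L.T_sq (cl J q)), ← L.ac_cl hxC hq, L.ac_img hx, hqw, heg, natL_evalW,
      ← hv, ← hw, ← hea, ← hea]
    rw [show xr (xr w (xr (app (linW gL (repW true)) w) w)) (app (linW gL (repW true)) w) = 0 by
      rw [xr_comm w (xr (app (linW gL (repW true)) w) w), xr_assoc (app (linW gL (repW true)) w),
        xr_self, xr_zero, xr_self]]
    have h0 := hea 0 0
    rw [xr_self] at h0
    exact (mul_eq_left.1 h0.symm)
  have hu1H : H1 z c J u1 := L.H1_mul (L.H1_inv (L.J_H1 hq)) (L.L_H1 hu0)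
  have hI1 : Img J π u1 (evalW dW) := by
    have := L.img_mul (L.img_inv (L.img_J hq)) (L.img_L hu0)
    rwa [hu0p, inv_one, one_mul] at this
  have e1 : u1 * x * u1⁻¹ = t * x := by rw [ht]; group
  have hut : u1 * t * u1⁻¹ = t := mul_inv_eq_iff_eq_mul.2 (L.H1_T hu1H htT)
  have hit : ∀ n : ℕ, u1 ^ n * x * (u1 ^ n)⁻¹ = t ^ n * x := by
    intro n
    induction n with
    | zero => simp
    | succ n ih =>
      have htn : u1 * t ^ n * u1⁻¹ = t ^ n := by rw [← conj_pow, hut]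
      calc u1 ^ (n + 1) * x * (u1 ^ (n + 1))⁻¹ = u1 * (u1 ^ n * x * (u1 ^ n)⁻¹) * u1⁻¹ := by
            rw [pow_succ']; group
        _ = (u1 * t ^ n * u1⁻¹) * (u1 * x * u1⁻¹) := by rw [ih]; group
        _ = _ := by rw [htn, e1, pow_succ]; group
  refine ⟨u1 ^ 4, ?_, ?_⟩
  · have hd : evalW dW ^ 4 = evalW dW := by
      calc evalW dW ^ 4 = evalW dW * (evalW dW * evalW dW) * evalW dW := by
            rw [← pow_three, ← pow_succ]
        _ = _ := by rw [L.dW_three, one_mul]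
    have := L.img_pow hI1 4
    rwa [hd] at this
  · have h4 : t ^ 4 = 1 := by
      rw [show (4 : ℕ) = 2 * 2 from rfl, pow_mul, pow_two t, L.T2 t htT, one_pow]
    have := hit 4
    rw [h4, one_mul] at this
    exact mul_inv_eq_iff_eq_mul.1 this

end Loc

end CfsgLib.FiTwentyThreeType
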