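import Cfsg.Agent.Lib.FiTwentyThreeType.Triple

/-!
Fusion of the involution in a subgroup containing its centraliser.
-/

set_option autoImplicit false
set_option linter.unusedSectionVars false
set_option linter.style.haveILetI false

open Cfsg
open CfsgLib.USixType (Cz mem_Cz G4)

namespace CfsgLib.FiTwentyThreeType

variable {G : Type*} [Group G]

/-- The conjugates of `z` under the centraliser of `v` differ from it by odd elements. -/
def OddIso (z v : G) : Prop := ∀ u ∈ Cz v, Odd (orderOf (u * z * u⁻¹ * z))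

theorem le_of_max [Finite G] {K R D : Subgroup G} (hR : IsPGroup 2 R) (hRK : R ≤ K)
    (hmax : ∀ E : Subgroup G, IsPGroup 2 E → E ≤ K → R ≤ E → E ≤ R) (hD : IsPGroup 2 D) (hDK : D ≤ K)
    (hn : R ≤ Subgroup.normalizer (D : Set G)) : D ≤ R :=
  le_sup_right.trans (hmax (R ⊔ D) (IsPGroup.to_sup_of_normal_right' hR hD hn) (sup_le hRK hDK) le_sup_left)

/-- A two-subgroup of `K` moves into a subgroup holding a Sylow subgroup. -/
theorem exists_conj_into [Finite G] {H K R : Subgroup G} (P : Sylow 2 G) (hP : (P : Subgroup G) ≤ H) (hH : H ≤ K)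
    (hR : IsPGroup 2 R) (hRK : R ≤ K) : ∃ n ∈ K, ∀ x ∈ R, n * x * n⁻¹ ∈ H := by
  haveI : Fact (Nat.Prime 2) := ⟨Nat.prime_two⟩
  obtain ⟨Q, hQ⟩ := (hR.of_equiv (Subgroup.subgroupOfEquivOfLe hRK).symm).exists_le_sylow
  obtain ⟨n, hn⟩ := MulAction.exists_smul_eq (↥K) Q (P.subtype (hP.trans hH))
  refine ⟨n, n.2, fun x hx => ?_⟩
  have h1 : MulAut.conj n (⟨x, hRK hx⟩ : ↥K) ∈ (n • Q : Sylow 2 ↥K).toSubgroup :=
    ⟨⟨x, hRK hx⟩, hQ hx, rfl⟩
  rw [hn, Sylow.coe_subtype, Subgroup.mem_subgroupOf] at h1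
  exact hP h1

namespace Loc

variable [Finite G] {z c : G} {J : Subgroup G} {π : ↥(Cc z c) →* G4} (L : Loc z c J π)
include L

theorem J_pgroup : IsPGroup 2 J := IsPGroup.of_card (n := 11) (by rw [L.card]; norm_num)

variable (hz : ∀ t g, InT J t → g * z * g⁻¹ = t → t = z)
include hz

theorem exists_sylow_Cz : ∃ P : Sylow 2 G, (P : Subgroup G) ≤ Cz z := by
  haveI : Fact (Nat.Prime 2) := ⟨Nat.prime_two⟩
  obtain ⟨R⟩ : Nonempty (Sylow 2 ↥(Cz z)) := inferInstance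
  set R' : Subgroup G := (R : Subgroup ↥(Cz z)).map (Cz z).subtype with hR'def
  have hR'C : R' ≤ Cz z := Subgroup.map_subtype_le _
  have hR' : IsPGroup 2 R' := R.2.map _
  have hmax : ∀ E : Subgroup G, IsPGroup 2 E → E ≤ Cz z → R' ≤ E → E ≤ R' := fun E hE hEC h x hx => by
    have h1 := R.3 (hE.of_equiv (Subgroup.subgroupOfEquivOfLe hEC).symm)
      (fun y hy => h ⟨y, hy, rfl⟩)
    have h2 : (⟨x, hEC hx⟩ : ↥(Cz z)) ∈ E.subgroupOf (Cz z) := hx
    rw [h1] at h2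
    exact ⟨_, h2, rfl⟩
  have hJn : R' ≤ Subgroup.normalizer (J : Set G) := fun x hx =>
    Subgroup.mem_normalizer_iff.2 fun q => ⟨L.conjJ x (hR'C hx) q, fun h => by
      have := L.conjJ x⁻¹ ((Cz z).inv_mem (hR'C hx)) _ h
      rwa [show x⁻¹ * (x * q * x⁻¹) * x⁻¹⁻¹ = q by group] at this⟩
  have hJR : J ≤ R' := le_of_max hR' hR'C hmax L.J_pgroup L.JC hJn
  obtain ⟨P, hP⟩ := hR'.exists_le_sylow
  refine ⟨P, ?_⟩
  by_contra hne
  haveI := P.2.isNilpotent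
  have hlt : R'.subgroupOf (P : Subgroup G) < ⊤ := lt_top_iff_ne_top.2 fun h =>
    hne ((Subgroup.subgroupOf_eq_top.1 h).trans hR'C)
  obtain ⟨⟨g, hgP⟩, hgN, hgR⟩ := SetLike.exists_of_lt (normalizerCondition_of_isNilpotent _ hlt)
  rw [Subgroup.mem_subgroupOf] at hgR
  have hgn : ∀ x ∈ R', g * x * g⁻¹ ∈ R' ∧ g⁻¹ * x * g ∈ R' := fun x hx => by
    have h := Subgroup.mem_normalizer_iff.1 hgN
    refine ⟨(h ⟨x, hP hx⟩).1 hx, ?_⟩
    have h2 := (h (⟨g, hgP⟩⁻¹ * ⟨x, hP hx⟩ * ⟨g, hgP⟩)).2 (by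
      rw [show (⟨g, hgP⟩ : ↥(P : Subgroup G)) * (⟨g, hgP⟩⁻¹ * ⟨x, hP hx⟩ * ⟨g, hgP⟩) * ⟨g, hgP⟩⁻¹ =
        ⟨x, hP hx⟩ by group]
      exact hx)
    exact h2
  have hT : InT J (g * z * g⁻¹) := by
    have hc : ∀ q ∈ J, g * z * g⁻¹ * q = q * (g * z * g⁻¹) := fun q hq => by
      have h1 := L.z_comm (hR'C (hgn q (hJR hq)).2)
      calc g * z * g⁻¹ * q = g * (z * (g⁻¹ * q * g)) * g⁻¹ := by group
        _ = _ := by rw [← h1]; group
    exact ⟨L.cent _ (hR'C (hgn z (hJR L.zJ)).1) hc, hc⟩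
  have hgC : g ∈ Cz z := mem_Cz.2 (mul_inv_eq_iff_eq_mul.1 (hz _ g hT rfl))
  have h2 := hmax (R' ⊔ Subgroup.zpowers g)
    (P.2.to_le (sup_le hP (Subgroup.zpowers_le.2 hgP))) (sup_le hR'C (Subgroup.zpowers_le.2 hgC)) le_sup_left
  exact hgR (h2 (Subgroup.mem_sup_right (Subgroup.mem_zpowers g)))

variable {N : Subgroup G} (hN : Cz z ≤ N)
  (hv : ∀ v, InV J c v → v ≠ 1 → Cz v ≤ N ∨ OddIso z v)
  (hb : ∀ v, InV J c v → v ≠ 1 → OddIso z (v * z))
include hN hv hb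

/-- A conjugate of `z` with a good Sylow subgroup of its centraliser is `z`. -/
theorem fuse_core {k g : G} {R : Subgroup G} (hk : k ∈ N) (hg : g * k * g⁻¹ = z) (hR : IsPGroup 2 R)
    (hRK : R ≤ N ⊓ Cz k) (hRH : R ≤ Cz z)
    (hmax : ∀ E : Subgroup G, IsPGroup 2 E → E ≤ N ⊓ Cz k → R ≤ E → E ≤ R) : k = z := by
  classical
  haveI : Fact (Nat.Prime 2) := ⟨Nat.prime_two⟩
  have hk2 : k * k = 1 := by
    rw [show k = g⁻¹ * z * g by rw [← hg]; group, show g⁻¹ * z * g * (g⁻¹ * z * g) = g⁻¹ * (z * z) * g by group,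
      L.z2, mul_one, inv_mul_cancel]
  have hkR : k ∈ R := by
    refine le_of_max hR hRK hmax (D := Subgroup.zpowers k) ?_
      (Subgroup.zpowers_le.2 ⟨hk, mem_Cz.2 rfl⟩) ?_ (Subgroup.mem_zpowers k)
    · by_cases hk1 : k = 1
      · rw [hk1, Subgroup.zpowers_one_eq_bot]; exact IsPGroup.of_bot
      · exact IsPGroup.of_card (n := 1) (by
          rw [Nat.card_zpowers, pow_one, orderOf_eq_prime_iff.2 ⟨by rw [pow_two]; exact hk2, hk1⟩])
    · intro r hr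
      refine (Subgroup.centralizer_le_normalizer _) ?_
      exact Subgroup.mem_centralizer_iff.2 fun x hx => by
        obtain ⟨i, rfl⟩ := hx
        exact ((show Commute k r from ((mem_Cz.1 (hRK hr).2)).symm).zpow_left i).eq
  have hkz : k * z = z * k := L.z_comm (hRH hkR)
  -- a fixed involution of the four-group
  obtain ⟨a, ha, ha1, haR⟩ : ∃ a, InV J c a ∧ a ≠ 1 ∧ ∀ r ∈ R, r * a = a * r := by
    letI : MulAction ↥R {v : G // InV J c v} :=
      { smul := fun r v => ⟨r * v.1 * (r : G)⁻¹, L.inV_conj (hRH r.2) v.2⟩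
        one_smul := fun v => Subtype.ext (by show ((1 : ↥R) : G) * v.1 * ((1 : ↥R) : G)⁻¹ = v.1; simp)
        mul_smul := fun r s v => Subtype.ext (by
          show ((r * s : ↥R) : G) * v.1 * ((r * s : ↥R) : G)⁻¹ = r * (s * v.1 * (s : G)⁻¹) * (r : G)⁻¹
          push_cast; group) }
    have hcard : Nat.card {v : G // InV J c v} = 4 := L.card_V0
    haveI : Finite {v : G // InV J c v} := Nat.finite_of_card_ne_zero (by omega)
    have h1 : (⟨1, L.inV_one⟩ : {v : G // InV J c v}) ∈ MulAction.fixedPoints ↥R {v : G // InV J c v} :=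
      fun r => Subtype.ext (by show (r : G) * 1 * (r : G)⁻¹ = 1; group)
    obtain ⟨⟨a, ha⟩, hfix, hne⟩ :=
      hR.exists_fixed_point_of_prime_dvd_card_of_fixed_point _ (by rw [hcard]; norm_num) h1
    refine ⟨a, ha, fun e => hne (Subtype.ext e.symm), fun r hr => ?_⟩
    exact mul_inv_eq_iff_eq_mul.1 (congrArg Subtype.val (hfix ⟨r, hr⟩))
  have haC : a ∈ Cz z := L.inV_C ha
  have hak : a * k = k * a := (haR k hkR).symm
  set x := g * a * g⁻¹ with hx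
  set y := g * z * g⁻¹ with hy
  have a2 : a * a = 1 := L.inV_sq ha
  have hxC : x ∈ Cz z := mem_Cz.2 (by
    rw [← hg, hx]
    calc g * a * g⁻¹ * (g * k * g⁻¹) = g * (a * k) * g⁻¹ := by group
      _ = _ := by rw [hak]; group)
  have hyC : y ∈ Cz z := mem_Cz.2 (by
    rw [← hg, hy]
    calc g * z * g⁻¹ * (g * k * g⁻¹) = g * (z * k) * g⁻¹ := by group
      _ = _ := by rw [← hkz]; group)
  by_cases hyT : InT J y
  · have hgC : g ∈ Cz z := mem_Cz.2 (mul_inv_eq_iff_eq_mul.1 (hz y g hyT rfl))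
    calc k = g⁻¹ * z * g := by rw [← hg]; group
      _ = g⁻¹ * (z * g) := by group
      _ = g⁻¹ * (g * z) := by rw [L.z_comm hgC]
      _ = z := by group
  exfalso
  -- pulling back centralisers in `J`
  let D : G → Subgroup G := fun e => (J ⊓ Cz e).map (MulAut.conj g⁻¹).toMonoidHom
  have hD : ∀ e, IsPGroup 2 (D e) := fun e => (L.J_pgroup.to_le inf_le_left).map _
  have memD : ∀ {e p : G}, p ∈ D e ↔ g * p * g⁻¹ ∈ J ∧ g * p * g⁻¹ * e = e * (g * p * g⁻¹) := by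
    intro e p
    constructor
    · rintro ⟨q, ⟨hq, hqe⟩, rfl⟩
      show g * (g⁻¹ * q * g⁻¹⁻¹) * g⁻¹ ∈ J ∧ _
      rw [MulEquiv.coe_toMonoidHom, MulAut.conj_apply, show g * (g⁻¹ * q * g⁻¹⁻¹) * g⁻¹ = q by group]
      exact ⟨hq, mem_Cz.1 hqe⟩
    · rintro ⟨h1, h2⟩
      refine ⟨g * p * g⁻¹, ⟨h1, mem_Cz.2 h2⟩, ?_⟩
      show g⁻¹ * (g * p * g⁻¹) * g⁻¹⁻¹ = p
      group
  have hDk : ∀ e, D e ≤ Cz k := fun e p hp => mem_Cz.2 (by
    have h := L.z_comm (L.JC (memD.1 hp).1)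
    rw [← hg] at h
    calc p * k = g⁻¹ * (g * p * g⁻¹ * (g * k * g⁻¹)) * g := by group
      _ = g⁻¹ * (g * k * g⁻¹ * (g * p * g⁻¹)) * g := by rw [h]
      _ = k * p := by group)
  have hDc : ∀ {e d p : G}, g * d * g⁻¹ = e → p ∈ D e → p * d = d * p := fun {e d p} he hp => by
    have h := (memD.1 hp).2
    rw [← he] at h
    calc p * d = g⁻¹ * (g * p * g⁻¹ * (g * d * g⁻¹)) * g := by group
      _ = g⁻¹ * (g * d * g⁻¹ * (g * p * g⁻¹)) * g := by rw [h]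
      _ = d * p := by group
  have hDn : ∀ {e d r : G}, g * d * g⁻¹ = e → r ∈ Cz k → r * d = d * r →
      r ∈ Subgroup.normalizer (D e : Set G) := by
    intro e d r he hrk hrd
    have key : ∀ {s : G}, s ∈ Cz k → s * d = d * s → ∀ p ∈ D e, s * p * s⁻¹ ∈ D e := by
      intro s hs hsd p hp
      obtain ⟨h1, h2⟩ := memD.1 hp
      have hsC : g * s * g⁻¹ ∈ Cz z := mem_Cz.2 (by
        rw [← hg]
        calc g * s * g⁻¹ * (g * k * g⁻¹) = g * (s * k) * g⁻¹ := by group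
          _ = _ := by rw [mem_Cz.1 hs]; group)
      refine memD.2 ⟨?_, ?_⟩
      · rw [show g * (s * p * s⁻¹) * g⁻¹ = g * s * g⁻¹ * (g * p * g⁻¹) * (g * s * g⁻¹)⁻¹ by group]
        exact L.conjJ _ hsC _ h1
      · rw [← he]
        calc g * (s * p * s⁻¹) * g⁻¹ * (g * d * g⁻¹) = g * (s * p * (s⁻¹ * d)) * g⁻¹ := by group
          _ = g * (s * p * (d * s⁻¹)) * g⁻¹ := by rw [(Commute.inv_left hsd).eq]
          _ = g * (s * (p * d) * s⁻¹) * g⁻¹ := by group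
          _ = g * (s * d * p * s⁻¹) * g⁻¹ := by rw [hDc he hp]; group
          _ = g * (d * s * p * s⁻¹) * g⁻¹ := by rw [hsd]
          _ = _ := by group
    refine Subgroup.mem_normalizer_iff.2 fun p => ⟨key hrk hrd p, fun h => ?_⟩
    have := key ((Cz k).inv_mem hrk) (Commute.inv_left hrd).eq _ h
    rwa [show r⁻¹ * (r * p * r⁻¹) * r⁻¹⁻¹ = p by group] at this
  -- elements of odd order in a two-group
  have iso : ∀ {e d : G}, g * d * g⁻¹ = e → OddIso z d → z * d = d * z → ∀ p ∈ D e, p * z = z * p := by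
    intro e d he hodd hzd p hp
    have hzn := hDn he (mem_Cz.2 hkz.symm) hzd
    have hr : p * z * p⁻¹ * z ∈ D e := by
      have h1 := (Subgroup.mem_normalizer_iff.1 hzn p⁻¹).1 ((D e).inv_mem hp)
      rw [inv_eq_of_mul_eq_one_right L.z2] at h1
      rw [show p * z * p⁻¹ * z = p * (z * p⁻¹ * z) by group]
      exact (D e).mul_mem hp h1
    obtain ⟨n, hn⟩ := hD e ⟨_, hr⟩
    have ho := hodd p (mem_Cz.2 (hDc he hp))
    have hdvd : orderOf (p * z * p⁻¹ * z) ∣ 2 ^ n := orderOf_dvd_of_pow_eq_one (congrArg Subtype.val hn)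
    have h1 : orderOf (p * z * p⁻¹ * z) = 1 :=
      Nat.Coprime.eq_one_of_dvd (Nat.Coprime.pow_right n (Nat.coprime_two_right.2 ho)) hdvd
    have h2 := eq_inv_of_mul_eq_one_left (orderOf_eq_one_iff.1 h1)
    rw [inv_eq_of_mul_eq_one_right L.z2] at h2
    exact mul_inv_eq_iff_eq_mul.1 h2
  have back : ∀ {q d : G}, (g⁻¹ * q * g) * d = d * (g⁻¹ * q * g) → g * d * g⁻¹ * q = q * (g * d * g⁻¹) :=
    fun {q d} h => by
    calc g * d * g⁻¹ * q = g * (d * (g⁻¹ * q * g)) * g⁻¹ := by group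
      _ = _ := by rw [← h]; group
  have inD : ∀ {q e : G}, q ∈ J → e * q = q * e → g⁻¹ * q * g ∈ D e := fun {q e} hq he =>
    memD.2 (by rw [show g * (g⁻¹ * q * g) * g⁻¹ = q by group]; exact ⟨hq, he.symm⟩)
  have haz : a * z = z * a := L.z_comm haC
  have h2 : ∀ q ∈ J, x * q = q * x → y * q = q * y := by
    intro q hq hxq
    refine back ?_
    rcases hv a ha ha1 with hX | ho
    · have hDR : D x ≤ R := le_of_max hR hRK hmax (hD x)
        (le_inf (fun p hp => hX (mem_Cz.2 (hDc rfl hp))) (hDk x))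
        (fun r hr => hDn rfl (hRK hr).2 (haR r hr))
      exact L.z_comm (hRH (hDR (inD hq hxq)))
    · exact iso rfl ho haz.symm _ (inD hq hxq)
  have h3 : ∀ q ∈ J, y * q = q * y → x * q = q * x := by
    intro q hq hyq
    refine back ?_
    have hDR : D y ≤ R := le_of_max hR hRK hmax (hD y)
      (le_inf (fun p hp => hN (mem_Cz.2 (hDc rfl hp))) (hDk y))
      (fun r hr => hDn rfl (hRK hr).2 (L.z_comm (hRH hr)))
    exact haR _ (hDR (inD hq hyq))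
  have hxyb : g * (a * z) * g⁻¹ = x * y := by rw [hx, hy]; group
  have hzb : z * (a * z) = a * z * z := by rw [← mul_assoc, ← haz]
  have h1 : ∀ q ∈ J, x * y * q = q * (x * y) → x * q = q * x := by
    intro q hq hbq
    have hp := inD hq hbq
    have hpz := iso hxyb (hb a ha ha1) hzb _ hp
    have hpb := hDc hxyb hp
    refine back ?_
    rw [show a = a * z * z⁻¹ by group]
    exact ((show Commute (g⁻¹ * q * g) (a * z) from hpb).mul_right
      (show Commute (g⁻¹ * q * g) z from hpz).inv_right).eq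
  refine L.triple_false hxC hyC ?_ ?_ ?_ hyT h1 h2 h3 ?_
  · rw [hx, show g * a * g⁻¹ * (g * a * g⁻¹) = g * (a * a) * g⁻¹ by group, a2]; group
  · rw [hy, show g * z * g⁻¹ * (g * z * g⁻¹) = g * (z * z) * g⁻¹ by group, L.z2]; group
  · rw [hx, hy]
    calc g * a * g⁻¹ * (g * z * g⁻¹) = g * (a * z) * g⁻¹ := by group
      _ = _ := by rw [haz]; group
  · intro u hu huw
    have h := hb a ha ha1 (g⁻¹ * u * g) (mem_Cz.2 (by
      rw [← hxyb] at huw
      calc g⁻¹ * u * g * (a * z) = g⁻¹ * (u * (g * (a * z) * g⁻¹)) * g := by group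
        _ = _ := by rw [huw]; group))
    rwa [show u * y * u⁻¹ * y = MulAut.conj g (g⁻¹ * u * g * z * (g⁻¹ * u * g)⁻¹ * z) by
      rw [hy]; simp only [MulAut.conj_apply]; group, MulEquiv.orderOf_eq]

/-- All conjugates of `z` in `N` are conjugate there. -/
theorem fusion {k : G} (hk : k ∈ N) (hK : ∃ g : G, g * z * g⁻¹ = k) : ∃ n ∈ N, n * z * n⁻¹ = k := by
  haveI : Fact (Nat.Prime 2) := ⟨Nat.prime_two⟩
  obtain ⟨g, hg⟩ := hK
  obtain ⟨P, hP⟩ := L.exists_sylow_Cz hz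
  obtain ⟨R⟩ : Nonempty (Sylow 2 ↥(N ⊓ Cz k)) := inferInstance
  set R1 : Subgroup G := (R : Subgroup ↥(N ⊓ Cz k)).map (N ⊓ Cz k).subtype
  have hR1 : R1 ≤ N ⊓ Cz k := Subgroup.map_subtype_le _
  obtain ⟨n, hn, hnR⟩ := exists_conj_into P hP hN (R.2.map _) (hR1.trans inf_le_left)
  have hC : ∀ {p : G}, p ∈ N ⊓ Cz k → n * p * n⁻¹ ∈ N ⊓ Cz (n * k * n⁻¹) := fun {p} hp =>
    ⟨N.mul_mem (N.mul_mem hn hp.1) (N.inv_mem hn), mem_Cz.2 (by
      calc n * p * n⁻¹ * (n * k * n⁻¹) = n * (p * k) * n⁻¹ := by group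
        _ = _ := by rw [mem_Cz.1 hp.2]; group)⟩
  have h := L.fuse_core hz hN hv hb (k := n * k * n⁻¹) (g := g⁻¹ * n⁻¹)
    (R := R1.map (MulAut.conj n).toMonoidHom) (N.mul_mem (N.mul_mem hn hk) (N.inv_mem hn))
    (by rw [← hg]; group) ((R.2.map _).map _)
    (by rintro _ ⟨p, hp, rfl⟩; exact hC (hR1 hp))
    (by rintro _ ⟨p, hp, rfl⟩; exact hnR p hp) ?_
  · refine ⟨n⁻¹, N.inv_mem hn, ?_⟩
    rw [← h]; group
  intro E hE hEK hle e he
  set E' := E.map (MulAut.conj n⁻¹).toMonoidHom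
  have hE'K : E' ≤ N ⊓ Cz k := by
    rintro _ ⟨p, hp, rfl⟩
    obtain ⟨h1, h2⟩ := hEK hp
    show n⁻¹ * p * n⁻¹⁻¹ ∈ N ⊓ Cz k
    rw [inv_inv]
    exact ⟨N.mul_mem (N.mul_mem (N.inv_mem hn) h1) hn, mem_Cz.2 (by
      calc n⁻¹ * p * n * k = n⁻¹ * (p * (n * k * n⁻¹)) * n := by group
        _ = _ := by rw [mem_Cz.1 h2]; group)⟩
  have hle' : (R : Subgroup ↥(N ⊓ Cz k)) ≤ E'.subgroupOf (N ⊓ Cz k) := fun p hp =>
    ⟨n * p * n⁻¹, hle ⟨p, ⟨p, hp, rfl⟩, rfl⟩, by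
      show n⁻¹ * (n * p * n⁻¹) * n⁻¹⁻¹ = (p : G)
      group⟩
  have h1 := R.3 ((hE.map _).of_equiv (Subgroup.subgroupOfEquivOfLe hE'K).symm) hle'
  have hm : (⟨n⁻¹ * e * n, by simpa using hE'K ⟨e, he, rfl⟩⟩ : ↥(N ⊓ Cz k)) ∈ E'.subgroupOf (N ⊓ Cz k) :=
    ⟨e, he, by show n⁻¹ * e * n⁻¹⁻¹ = n⁻¹ * e * n; group⟩
  rw [h1] at hm
  exact ⟨n⁻¹ * e * n, ⟨_, hm, rfl⟩, by show n * (n⁻¹ * e * n) * n⁻¹ = e; group⟩

end Loc

end CfsgLib.FiTwentyThreeType
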