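import Cfsg.Agent.Lib.FiTwentyThreeType.Endgame
import Cfsg.Agent.Lib.GTwoTwo.FieldCongr

/-!
The statement, given the classification with centraliser `(2 × 2^{1+8}).U₄(2).2`.
-/

set_option autoImplicit false
set_option linter.unusedSectionVars false
set_option linter.style.haveILetI false

universe u uF uK

open Cfsg
open CfsgLib.USixType (Cz mem_Cz G4)

namespace CfsgLib.FiTwentyThreeType

/-- The facts on `U₆(2)`. -/
theorem psu_facts {K : Type uK} [Field K] [Fintype K] (hK : Fintype.card K = 4) :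
    IsSimpleGroup (PSU 6 K 2) ∧ Subgroup.center (PSU 6 K 2) = ⊥ ∧
      Nat.card (MulAut (PSU 6 K 2)) = 6 * Nat.card (PSU 6 K 2) := by
  haveI := Fact.mk Nat.prime_two
  haveI : CharP K 2 := charP_of_card_eq_prime_pow (f := 2) (by rw [hK]; norm_num)
  obtain ⟨C⟩ := Classical.Herm.exists_conj_of_card (F := K) (q := 2) (by rw [hK]; norm_num)
  haveI hS : IsSimpleGroup (PSU 6 K 2) := Classical.Herm.isSimpleGroup (n := 6) C 2 (by norm_num) (by norm_num)
  refine ⟨hS, ?_, ?_⟩
  · refine (Subgroup.Normal.eq_bot_or_eq_top (H := Subgroup.center (PSU 6 K 2)) inferInstance).resolve_right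
      fun h => ?_
    have hp := Classical.Herm.commutator_eq_top (n := 6) C 2 (by norm_num) (by norm_num)
    have hb : commutator (PSU 6 K 2) = ⊥ := by
      rw [commutator_def, eq_bot_iff, Subgroup.commutator_le]
      intro p _ q _
      rw [Subgroup.mem_bot, commutatorElement_eq_one_iff_mul_comm]
      exact Subgroup.mem_center_iff.1 (h ▸ Subgroup.mem_top q) p
    have ht : commutator (PSU 6 K 2) = ⊤ := by
      rw [commutator_def, ← Subgroup.map_top_of_surjective _
        (QuotientGroup.mk'_surjective (Subgroup.center (SU 6 K 2))), ← Subgroup.map_commutator, ← commutator_def,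
        hp]
    rw [hb] at ht
    exact bot_ne_top ht
  · rw [Cfsg.Agent.S0815.result (F := K) 2 1 le_rfl (q := 2) (by norm_num) (by rw [hK]; norm_num) 6
      (by norm_num) (by norm_num)]
    norm_num

theorem main {G : Type u} [Group G] [Finite G] (z : G) (hz : orderOf z = 2)
    {F : Type uF} [Field F] [Fintype F] (hF : Fintype.card F = 3) {K : Type uK} [Field K] [Fintype K]
    (hK : Fintype.card K = 4) (h32 : CaseType.{u} F K)
    (V E : Subgroup ↥(Cz z)) (hVE : IsInternalDirectProduct V E (pCore 2 ↥(Cz z)))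
    (hV : Nat.card ↥V = 4) (hV2 : ∀ v ∈ V, v ^ 2 = 1) (hE : IsExtraspecial 2 ↥E)
    (hEc : Nat.card ↥E = 2 ^ 9)
    (hCJ : Subgroup.centralizer ((pCore 2 ↥(Cz z)) : Set ↥(Cz z)) ≤ pCore 2 ↥(Cz z))
    (zc c : ↥(Cz z)) (hzc : (zc : G) = z) (hc : orderOf c = 3)
    [hJc : (pCore 2 ↥(Cz z) ⊔ Subgroup.zpowers c).Normal]
    (e : (↥(Cz z) ⧸ (pCore 2 ↥(Cz z) ⊔ Subgroup.zpowers c)) ≃* MulAut (PSp 2 F))
    [hcz : ((Subgroup.zpowers c ⊔ Subgroup.zpowers zc).subgroupOf
      (Subgroup.centralizer ({c} : Set ↥(Cz z)))).Normal]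
    (e' : (↥(Subgroup.centralizer ({c} : Set ↥(Cz z))) ⧸ (Subgroup.zpowers c ⊔ Subgroup.zpowers zc).subgroupOf
      (Subgroup.centralizer ({c} : Set ↥(Cz z)))) ≃* PSp 2 F) :
    Cz z ⊔ oddCore G = ⊤ ∨ Spor.IsoFi23 G ∨
      (∃ (W : Subgroup G) (_ : W.Normal), Nat.card ↥W = 4 ∧ (∀ w ∈ W, w ^ 2 = 1) ∧
        Nonempty ((G ⧸ W) ≃* MulAut (PSU 6 K 2))) := by
  classical
  obtain ⟨π, L⟩ := exists_loc z hz hF V E hVE hV hV2 hE hEc hCJ zc c hzc hc e e'
  have hout := out_faith z hF c e L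
  obtain ⟨E0, hE0⟩ := exists_extra z L V E hVE hV2 hE hEc
  have hs := exists_out z hF c e L
  haveI hOn : (pCore 2 ↥(Cz z)).Normal := Fitting.pCore_normal 2
  have hθ : Theta z (c : G) (radJ z) F := by
    refine ⟨e.toMonoidHom.comp (QuotientGroup.mk' _), e.surjective.comp (QuotientGroup.mk'_surjective _),
      fun x => ?_⟩
    show e (QuotientGroup.mk' _ x) = 1 ↔ _
    rw [map_eq_one_iff _ e.injective, QuotientGroup.mk'_apply, QuotientGroup.eq_one_iff]
    constructor
    · intro hx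
      obtain ⟨q, hq, r, ⟨i, rfl⟩, hqr⟩ := Subgroup.mem_sup_of_normal_left.1 hx
      replace hqr : q * c ^ i = x := hqr
      refine ⟨q, ⟨q, hq, rfl⟩, (i % orderOf c).toNat, ?_⟩
      rw [← hqr, ← SubgroupClass.coe_pow, ← zpow_natCast c,
        Int.toNat_of_nonneg (Int.emod_nonneg i (by exact_mod_cast (orderOf_pos c).ne')), zpow_mod_orderOf]
      rfl
    · rintro ⟨q, ⟨q', hq', rfl⟩, i, hx⟩
      rw [show x = q' * c ^ i from Subtype.ext (by rw [hx]; rfl)]
      exact Subgroup.mul_mem_sup hq' (Subgroup.pow_mem _ (Subgroup.mem_zpowers c) i)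
  obtain ⟨hU, hUc, hUa⟩ := psu_facts hK
  haveI : Finite (MulAut (PSU 6 K 2)) := Nat.finite_of_card_ne_zero (by
    rw [hUa]; exact Nat.mul_ne_zero (by norm_num) Nat.card_pos.ne')
  exact L.trichotomy hout (L.z_unique hout) h32 hθ hE0 hs hU hUc hUa

end CfsgLib.FiTwentyThreeType
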