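import Cfsg.Agent.Lib.USixType.SU
import Cfsg.Agent.Lib.Classical.LatticeSix
import Cfsg.Agent.Lib.Classical.UnitarySimple
import Cfsg.Agent.S0815

/-!
`PSp₄(3)`: its isomorphism with the matrix group and its automorphisms.
-/

set_option autoImplicit false
set_option linter.unusedSectionVars false

open Cfsg
open CfsgLib.HePres (K4)
open CfsgLib.USixType (G4)

namespace CfsgLib.FiTwentyThreeType

variable {F : Type*} [Field F] [Fintype F] (hF : Fintype.card F = 3)
include hF

/-- `PSp₄(3)` is the unitary group. -/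
theorem psp_equiv : Nonempty (PSp 2 F ≃* G4) := by
  haveI := Fact.mk Nat.prime_two
  obtain ⟨C⟩ := Classical.Herm.exists_conj_of_card (F := K4) (q := 2) (by rw [K4.card_eq]; norm_num)
  have hbot : Subgroup.center G4 = ⊥ := by
    refine Subgroup.eq_bot_of_card_eq _ ?_
    rw [Classical.Herm.card_center C (by norm_num : 2 ≤ 4)]
    decide
  obtain ⟨e0⟩ := Classical.LatticeSix.psu_four_two (F := K4) K4.card_eq hF
  let q4 : Cfsg.PSU 4 K4 2 ≃* G4 := (QuotientGroup.quotientMulEquivOfEq hbot).trans QuotientGroup.quotientBot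
  exact ⟨e0.symm.trans q4⟩

/-- The outer automorphism group has order two. -/
theorem card_aut_psp : Nat.card (MulAut (PSp 2 F)) = 2 * Nat.card (PSp 2 F) := by
  haveI := Fact.mk Nat.prime_two
  obtain ⟨e0⟩ := Classical.LatticeSix.psu_four_two (F := K4) K4.card_eq hF
  have h := Cfsg.Agent.S0815.result (F := K4) 2 1 le_rfl (q := 2) (by norm_num)
    (by rw [K4.card_eq]; norm_num) 4 (by norm_num) (by norm_num)
  rw [← Nat.card_congr (MulAut.congr e0).toEquiv, h, Nat.card_congr e0.toEquiv]
  norm_num

/-- It is simple. -/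
theorem psp_simple : IsSimpleGroup (PSp 2 F) := by
  haveI := Fact.mk Nat.prime_two
  obtain ⟨C⟩ := Classical.Herm.exists_conj_of_card (F := K4) (q := 2) (by rw [K4.card_eq]; norm_num)
  obtain ⟨e0⟩ := Classical.LatticeSix.psu_four_two (F := K4) K4.card_eq hF
  haveI : CharP K4 2 := CharP.charP_iff_prime_eq_zero Nat.prime_two |>.2 (by decide)
  haveI := Classical.Herm.isSimpleGroup (n := 4) C 2 (by norm_num) (by norm_num)
  exact e0.symm.isSimpleGroup

/-- It has odd-order elements. -/
theorem card_psp : Nat.card (PSp 2 F) = 25920 := by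
  obtain ⟨e⟩ := psp_equiv hF
  obtain ⟨C⟩ := Classical.Herm.exists_conj_of_card (F := K4) (q := 2) (by rw [K4.card_eq]; norm_num)
  rw [Nat.card_congr e.toEquiv]
  have h := Classical.Herm.card_SU (n := 4) C (by norm_num)
  rw [Classical.Herm.card_GU C] at h
  norm_num [Finset.prod_range_succ, show ¬ Even 1 by decide, show Even 2 by decide, show ¬ Even 3 by decide] at h
  show Nat.card (Cfsg.SU 4 K4 2) = 25920
  omega

end CfsgLib.FiTwentyThreeType
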