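import Cfsg.Agent.Lib.FiTwentyThreeType.Parity

/-!
The quotient of the centraliser by `J⟨c⟩` seen on elements of the group.
-/

set_option autoImplicit false
set_option linter.unusedSectionVars false
set_option linter.style.haveILetI false

open Cfsg
open CfsgLib.USixType (Cz mem_Cz G4)

namespace CfsgLib.FiTwentyThreeType

variable {G : Type*} [Group G] [Finite G]

/-- The centre of `PSp₄(3)` is trivial. -/
theorem psp_center {F : Type*} [Field F] [Fintype F] (hF : Fintype.card F = 3) :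
    Subgroup.center (PSp 2 F) = ⊥ := by
  haveI := psp_simple hF
  refine (Subgroup.Normal.eq_bot_or_eq_top (H := Subgroup.center (PSp 2 F)) inferInstance).resolve_right fun h => ?_
  letI : CommGroup (PSp 2 F) :=
    { (inferInstance : Group (PSp 2 F)) with
      mul_comm := fun a b => (Subgroup.mem_center_iff.1 (h ▸ Subgroup.mem_top b) a) }
  have := IsSimpleGroup.prime_card (α := PSp 2 F)
  rw [card_psp hF] at this
  norm_num at this

/-- An inner element modulo `J⟨c⟩`. -/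
theorem Loc.inn_L {z c : G} {J : Subgroup G} {π : ↥(Cc z c) →* G4} (L : Loc z c J π) {x : G}
    (hx : Inn z c J x) : ∃ i : ℕ, ∃ q ∈ J, ∃ l, InL z c J l ∧ x = c ^ i * (q * l) := by
  obtain ⟨a, ha, ha1⟩ := L.V0_ne
  obtain ⟨i, -, hi⟩ := L.exists_pow_fix ha ha1 hx.1
  have h1 : H1 z c J (c ^ i * x) :=
    ⟨L.inn_mul (L.inn_pow_c i) hx, L.inn_fix (L.inn_mul (L.inn_pow_c i) hx) ha ha1 hi⟩
  obtain ⟨g, q, hq, l, hl, hql, -⟩ := L.img_exists h1
  refine ⟨2 * i, q, hq, l, hl, ?_⟩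
  rw [hql, ← mul_assoc, ← pow_add, show 2 * i + i = 3 * i by ring, pow_mul, pow_succ, pow_two, L.c3,
    one_pow, one_mul]

theorem out_faith (z : G) {F : Type*} [Field F] [Fintype F] (hF : Fintype.card F = 3) (c : ↥(Cz z))
    [hJc : (pCore 2 ↥(Cz z) ⊔ Subgroup.zpowers c).Normal]
    (e : (↥(Cz z) ⧸ (pCore 2 ↥(Cz z) ⊔ Subgroup.zpowers c)) ≃* MulAut (PSp 2 F))
    {π : ↥(Cc z (c : G)) →* G4} (L : Loc z (c : G) (radJ z) π) : OutFaith z (c : G) (radJ z) := by
  intro f hf hcom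
  set K := pCore 2 ↥(Cz z) ⊔ Subgroup.zpowers c with hK
  haveI := psp_simple hF
  set mk := QuotientGroup.mk' K
  have hJK : ∀ x : ↥(Cz z), (x : G) ∈ radJ z → mk x = 1 := fun x hx => by
    obtain ⟨h, h'⟩ := mem_radJ.1 hx
    exact (QuotientGroup.eq_one_iff x).2 (Subgroup.mem_sup_left h')
  have hcK : mk c = 1 := (QuotientGroup.eq_one_iff c).2 (Subgroup.mem_sup_right (Subgroup.mem_zpowers c))
  set fc : ↥(Cz z) := ⟨f, hf.1⟩
  have hu : ∀ x : ↥(Cz z), Inn z (c : G) (radJ z) x → Commute (mk fc) (mk x) := by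
    intro x hx
    obtain ⟨i, q, hq, l, hl, hxe⟩ := L.inn_L hx
    set qc : ↥(Cz z) := ⟨q, L.JC hq⟩
    set lc : ↥(Cz z) := ⟨l, L.L_Cz hl⟩
    have ex : x = c ^ i * (qc * lc) := Subtype.ext (by rw [hxe]; push_cast; rfl)
    rw [ex, map_mul, map_mul, map_pow, hcK, one_pow, one_mul, hJK qc hq, one_mul]
    have := hJK (fc * lc * fc⁻¹ * lc⁻¹) (hcom l hl)
    rw [map_mul, map_mul, map_mul, map_inv, map_inv] at this
    exact mul_inv_eq_iff_eq_mul.1 (mul_inv_eq_one.1 this)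
  -- the inner elements form a subgroup of index at most two
  let S : Subgroup ↥(Cz z) :=
    { carrier := {x | Inn z (c : G) (radJ z) x}
      one_mem' := L.inn_one
      mul_mem' := fun hx hy => L.inn_mul hx hy
      inv_mem' := fun hx => L.inn_inv hx }
  set B : Subgroup (MulAut (PSp 2 F)) := (S.map mk).map e.toMonoidHom
  have hB : ∀ σ ∈ B, σ * e (mk fc) = e (mk fc) * σ := by
    rintro _ ⟨_, ⟨x, hx, rfl⟩, rfl⟩
    show e (mk x) * e (mk fc) = e (mk fc) * e (mk x)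
    rw [← map_mul e, ← map_mul e, (hu x hx).eq]
  have hout : ∀ σ, σ ∉ B → ∃ x : ↥(Cz z), Out z (c : G) (radJ z) x ∧ e (mk x) = σ := fun σ hσ => by
    obtain ⟨x, hx⟩ := QuotientGroup.mk'_surjective K (e.symm σ)
    have hx' : e (mk x) = σ := by rw [hx, e.apply_symm_apply]
    exact ⟨x, (L.inn_or x.2).resolve_left fun h => hσ ⟨_, ⟨x, h, rfl⟩, hx'⟩, hx'⟩
  have hB2 : ∀ σ τ, σ ∉ B → τ ∉ B → σ * τ ∈ B := fun σ τ hσ hτ => by
    obtain ⟨x, hx, rfl⟩ := hout σ hσ
    obtain ⟨y, hy, rfl⟩ := hout τ hτ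
    exact ⟨mk (x * y), ⟨x * y, L.out_out hx hy, rfl⟩, by
      show e (mk (x * y)) = _
      rw [map_mul, map_mul]⟩
  set C : Subgroup (PSp 2 F) := B.comap MulAut.conj
  have hC2 : ∀ p q, p ∉ C → q ∉ C → p * q ∈ C := fun p q hp hq => by
    show MulAut.conj (p * q) ∈ B
    rw [map_mul]
    exact hB2 _ _ hp hq
  have hCn : C.Normal := ⟨fun p hp q => by
    by_cases hq : q ∈ C
    · exact C.mul_mem (C.mul_mem hq hp) (C.inv_mem hq)
    · rw [mul_assoc]
      refine hC2 _ _ hq fun h => hq ?_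
      have := C.mul_mem (C.inv_mem hp) h
      rw [inv_mul_cancel_left] at this
      simpa using C.inv_mem this⟩
  have hCtop : C = ⊤ := by
    refine hCn.eq_bot_or_eq_top.resolve_left fun h => ?_
    classical
    haveI : Fintype (PSp 2 F) := Fintype.ofFinite _
    have h25 : 2 < Fintype.card (PSp 2 F) := by
      rw [← Nat.card_eq_fintype_card, card_psp hF]; norm_num
    obtain ⟨p, q, r, hp, hq, hr⟩ := Fintype.two_lt_card_iff.1 h25
    have h2 : ∀ x y : PSp 2 F, x ≠ 1 → y ≠ 1 → x * y = 1 := fun x y hx hy => by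
      have := hC2 x y (by rwa [h, Subgroup.mem_bot]) (by rwa [h, Subgroup.mem_bot])
      rwa [h, Subgroup.mem_bot] at this
    by_cases hp1 : p = 1
    · subst hp1
      exact hr (by
        rw [eq_inv_of_mul_eq_one_left (h2 q q (Ne.symm hp) (Ne.symm hp)),
          ← eq_inv_of_mul_eq_one_right (h2 q r (Ne.symm hp) (Ne.symm hq))])
    by_cases hq1 : q = 1
    · subst hq1
      exact hq (by
        rw [eq_inv_of_mul_eq_one_left (h2 p p hp1 hp1),
          ← eq_inv_of_mul_eq_one_right (h2 p r hp1 (Ne.symm hr))])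
    · exact hp (by
        rw [eq_inv_of_mul_eq_one_left (h2 p p hp1 hp1),
          ← eq_inv_of_mul_eq_one_right (h2 p q hp1 hq1)])
  have hu1 : e (mk fc) = 1 := by
    refine MulEquiv.ext fun p => ?_
    have hp : MulAut.conj p ∈ B := (hCtop ▸ Subgroup.mem_top p : p ∈ C)
    have h := hB _ hp
    show e (mk fc) p = p
    have hc' : (e (mk fc) p) * p⁻¹ ∈ Subgroup.center (PSp 2 F) := Subgroup.mem_center_iff.2 fun q => by
      obtain ⟨r, hr⟩ := (e (mk fc)).surjective (p⁻¹ * q * p)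
      have h' : MulAut.conj p (e (mk fc) r) = e (mk fc) (MulAut.conj p r) := DFunLike.congr_fun h r
      simp only [MulAut.conj_apply, map_mul, map_inv] at h'
      rw [hr] at h'
      set u := e (mk fc) p
      calc q * (u * p⁻¹) = p * (p⁻¹ * q * p) * p⁻¹ * (u * p⁻¹) := by group
        _ = u * p⁻¹ * q := by rw [h']; group
    rw [psp_center hF, Subgroup.mem_bot, mul_inv_eq_one] at hc'
    exact hc'
  have hfK : fc ∈ K := (QuotientGroup.eq_one_iff fc).1 (e.map_eq_one_iff.1 hu1)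
  obtain ⟨q, hq, r, ⟨i, rfl⟩, hqr⟩ := Subgroup.mem_sup_of_normal_left.1 hfK
  replace hqr : q * c ^ i = fc := hqr
  obtain ⟨n, hn⟩ : ∃ n : ℕ, c ^ i = c ^ n := ⟨(i % orderOf c).toNat, by
    rw [← zpow_natCast c, Int.toNat_of_nonneg (Int.emod_nonneg i (by exact_mod_cast (orderOf_pos c).ne')),
      zpow_mod_orderOf]⟩
  refine L.not_both ?_ hf
  rw [show f = (q : G) * (c : G) ^ n from by
    rw [hn] at hqr
    exact (congrArg Subtype.val hqr).symm]
  exact L.inn_mul (L.inn_J ⟨q, hq, rfl⟩) (L.inn_pow_c n)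

end CfsgLib.FiTwentyThreeType
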