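import Cfsg.Agent.Lib.FiTwentyThreeType.Setting

/-!
Inner and outer elements, the two-subgroups of the stabiliser of an involution of the four-group, and the
weak closure of `z` in the centre of the radical.
-/

set_option autoImplicit false
set_option linter.unusedSectionVars false
set_option linter.style.haveILetI false

open Cfsg
open CfsgLib.USixType (Cz mem_Cz G4 evalW natL_evalW natL_one)

namespace CfsgLib.FiTwentyThreeType

variable {G : Type*} [Group G]

/-- No outer element centralises the image of `L` modulo `J`. -/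
def OutFaith (z c : G) (J : Subgroup G) : Prop :=
  ∀ f, Out z c J f → (∀ l, InL z c J l → f * l * f⁻¹ * l⁻¹ ∈ J) → False

theorem g4_simple : IsSimpleGroup G4 := by
  obtain ⟨e⟩ := psp_equiv (F := ZMod 3) (ZMod.card 3)
  haveI := psp_simple (F := ZMod 3) (ZMod.card 3)
  exact e.symm.isSimpleGroup

namespace Loc

variable [Finite G] {z c : G} {J : Subgroup G} {π : ↥(Cc z c) →* G4} (L : Loc z c J π)
include L

theorem inn_out_mul {x y : G} (hx : Inn z c J x) (hy : Out z c J y) : Out z c J (x * y) :=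
  (L.inn_or ((Cz z).mul_mem hx.1 hy.1)).resolve_left fun h => L.not_both (by
    simpa using L.inn_mul (L.inn_inv hx) h) hy

theorem out_inn_mul {x y : G} (hx : Out z c J x) (hy : Inn z c J y) : Out z c J (x * y) :=
  (L.inn_or ((Cz z).mul_mem hx.1 hy.1)).resolve_left fun h => L.not_both (by
    simpa using L.inn_mul h (L.inn_inv hy)) hx

theorem out_inv {x : G} (hx : Out z c J x) : Out z c J x⁻¹ :=
  (L.inn_or ((Cz z).inv_mem hx.1)).resolve_left fun h => L.not_both (by simpa using L.inn_inv h) hx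

theorem inn_pow_c : ∀ i : ℕ, Inn z c J (c ^ i)
  | 0 => by rw [pow_zero]; exact L.inn_one
  | i + 1 => by rw [pow_succ]; exact L.inn_mul (inn_pow_c i) L.inn_c

theorem conj_ne {a : G} (ha : InV J c a) (ha1 : a ≠ 1) :
    c * a * c⁻¹ ≠ a ∧ c⁻¹ * a * c ≠ a ∧ c * a * c⁻¹ ≠ c⁻¹ * a * c := by
  refine ⟨fun e => ha1 (L.inV_fix ha e), fun e => ha1 (L.inV_fix ha ?_), fun e => ha1 (L.inV_fix ha ?_)⟩
  · calc c * a * c⁻¹ = c * (c⁻¹ * a * c) * c⁻¹ := by rw [e]
      _ = a := by group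
  · rw [L.cc_conj] at e
    exact (mul_left_cancel (mul_right_cancel e)).symm

/-- An element of the centraliser times a power of `c` fixes a given involution of the four-group. -/
theorem exists_pow_fix {a x : G} (ha : InV J c a) (ha1 : a ≠ 1) (hx : x ∈ Cz z) :
    ∃ i : ℕ, i < 3 ∧ c ^ i * x * a = a * (c ^ i * x) := by
  have hne : x * a * x⁻¹ ≠ 1 := fun e => ha1 (conj_eq_one_iff.1 e)
  have key : ∀ i : ℕ, c ^ i * (x * a * x⁻¹) * (c ^ i)⁻¹ = a → c ^ i * x * a = a * (c ^ i * x) := fun i h => by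
    refine mul_inv_eq_iff_eq_mul.1 ?_
    conv_rhs => rw [← h]
    group
  rcases L.V0_orbit ha ha1 (L.inV_conj hx ha) hne with e | e | e
  · exact ⟨0, by norm_num, key 0 (by rw [pow_zero, e]; group)⟩
  · refine ⟨2, by norm_num, key 2 ?_⟩
    rw [e, pow_two]
    calc c * c * (c * a * c⁻¹) * (c * c)⁻¹ = c * c * c * a * (c * c * c)⁻¹ := by group
      _ = a := by rw [L.c3]; group
  · exact ⟨1, by norm_num, key 1 (by rw [e, pow_one]; group)⟩

/-- No element outside is fixed on the whole four-group by an outer one. -/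
theorem out_moves {x : G} (hx : Out z c J x) : ∃ v, InV J c v ∧ x * v ≠ v * x := by
  by_contra h
  push Not at h
  obtain ⟨a, ha, ha1⟩ := L.V0_ne
  have hb := L.inV_conjc ha
  have e : x * (c * a * c⁻¹) * x⁻¹ =
      (x * c * x⁻¹ * c) * (c⁻¹ * (x * a * x⁻¹) * c) * (x * c * x⁻¹ * c)⁻¹ := by group
  rw [mul_inv_eq_iff_eq_mul.2 (h _ hb), mul_inv_eq_iff_eq_mul.2 (h _ ha)] at e
  have hd : InT J (c⁻¹ * a * c) := by
    have := L.inT_conj ((Cz z).inv_mem L.cC) (L.inV_inT ha)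
    rwa [inv_inv] at this
  rw [← hd.2 _ hx.2, mul_inv_cancel_right] at e
  exact (L.conj_ne ha ha1).2.2 e

theorem pow_c (i : ℕ) : c ^ i = 1 ∨ c ^ i = c ∨ c ^ i = c⁻¹ := by
  induction i with
  | zero => exact Or.inl (pow_zero c)
  | succ i ih =>
    rw [pow_succ]
    rcases ih with e | e | e <;> rw [e]
    · exact Or.inr (Or.inl (one_mul c))
    · exact Or.inr (Or.inr L.cinv.symm)
    · exact Or.inl (inv_mul_cancel c)

/-- Elements of the stabiliser inside `J` times powers of `c`. -/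
theorem pow_fix_J {a q : G} (ha : InV J c a) (ha1 : a ≠ 1) (hq : q ∈ J) {i : ℕ}
    (h : q * c ^ i * a = a * (q * c ^ i)) : c ^ i = 1 := by
  have hqa : ∀ v, InV J c v → q * v = v * q := fun v hv => ((L.inV_inT hv).2 q hq).symm
  have hc : c ^ i * a = a * c ^ i := by
    rw [mul_assoc, ← mul_assoc a, ← hqa a ha, mul_assoc] at h
    exact mul_left_cancel h
  rcases L.pow_c i with e | e | e
  · exact e
  · rw [e] at hc
    exact absurd (mul_inv_eq_iff_eq_mul.2 hc) (L.conj_ne ha ha1).1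
  · rw [e] at hc
    refine absurd ?_ (L.conj_ne ha ha1).2.1
    calc c⁻¹ * a * c = a * c⁻¹ * c := by rw [hc]
      _ = a := by group

/-- The stabiliser has index three. -/
theorem card_stab {a : G} (ha : InV J c a) (ha1 : a ≠ 1) :
    Nat.card ↥(Cz z) = 3 * Nat.card ↥(Cz z ⊓ Cz a) := by
  have hc : ∀ i : Fin 3, c ^ (i : ℕ) ∈ Cz z := fun i => (Cz z).pow_mem L.cC _
  let f : Fin 3 × ↥(Cz z ⊓ Cz a) → ↥(Cz z) := fun p =>
    ⟨(c ^ (p.1 : ℕ))⁻¹ * (p.2 : G), (Cz z).mul_mem ((Cz z).inv_mem (hc p.1)) p.2.2.1⟩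
  have hf : Function.Bijective f := by
    constructor
    · rintro ⟨i, x⟩ ⟨j, y⟩ h
      have h' : (c ^ (i : ℕ))⁻¹ * (x : G) = (c ^ (j : ℕ))⁻¹ * (y : G) := congrArg Subtype.val h
      have hij : i = j := by
        have hk : ∀ k : ℕ, c ^ k ∈ Cz a → k % 3 = 0 := fun k hk => by
          have h1 := L.pow_fix_J ha ha1 J.one_mem (i := k) (by
            rw [one_mul]; exact mem_Cz.1 hk)
          have h3 : orderOf c = 3 := orderOf_eq_prime_iff.2
            ⟨by rw [pow_succ, pow_two]; exact L.c3, L.cne⟩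
          have := orderOf_dvd_of_pow_eq_one h1
          rw [h3] at this
          omega
        have hm : c ^ ((j : ℕ) + (3 - (i : ℕ))) ∈ Cz a := by
          have e : c ^ ((j : ℕ) + (3 - (i : ℕ))) = (y : G) * (x : G)⁻¹ := by
            have e3 : c ^ (3 - (i : ℕ)) = (c ^ (i : ℕ))⁻¹ := eq_inv_of_mul_eq_one_left (by
              rw [← pow_add, Nat.sub_add_cancel (by omega), pow_succ, pow_two]; exact L.c3)
            rw [pow_add, e3]
            calc c ^ (j : ℕ) * (c ^ (i : ℕ))⁻¹ = c ^ (j : ℕ) * ((c ^ (i : ℕ))⁻¹ * (x : G)) * (x : G)⁻¹ := by group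
              _ = _ := by rw [h']; group
          rw [e]
          exact (Cz a).mul_mem y.2.2 ((Cz a).inv_mem x.2.2)
        have := hk _ hm
        exact Fin.ext (by omega)
      subst hij
      exact Prod.ext rfl (Subtype.ext (mul_left_cancel h'))
    · rintro ⟨x, hx⟩
      obtain ⟨i, hi, h⟩ := L.exists_pow_fix ha ha1 hx
      refine ⟨(⟨i, hi⟩, ⟨c ^ i * x, (Cz z).mul_mem ((Cz z).pow_mem L.cC i) hx, mem_Cz.2 h⟩), Subtype.ext ?_⟩
      show (c ^ i)⁻¹ * (c ^ i * x) = x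
      group
  rw [← Nat.card_eq_of_bijective f hf, Nat.card_prod, Nat.card_fin]

variable (hout : OutFaith z c J)
include hout

/-- A two-subgroup of a stabiliser invariant under `L` lies in `J`. -/
theorem two_le_J {a : G} (ha : InV J c a) (ha1 : a ≠ 1) {D : Subgroup G} (hD : IsPGroup 2 D)
    (hDC : D ≤ Cz z ⊓ Cz a) (hn : ∀ l, InL z c J l → ∀ d ∈ D, l * d * l⁻¹ ∈ D) : D ≤ J := by
  haveI := g4_simple
  let S : Subgroup G4 :=
    { carrier := {g | ∃ d ∈ D, Img J π d g}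
      one_mem' := ⟨1, D.one_mem, L.img_one⟩
      mul_mem' := fun ⟨d, hd, h⟩ ⟨d', hd', h'⟩ => ⟨d * d', D.mul_mem hd hd', L.img_mul h h'⟩
      inv_mem' := fun ⟨d, hd, h⟩ => ⟨d⁻¹, D.inv_mem hd, L.img_inv h⟩ }
  have hS : S.Normal := ⟨fun g ⟨d, hd, h⟩ m => by
    obtain ⟨l, hl, rfl⟩ := L.L_lift m
    exact ⟨l * d * l⁻¹, hn l hl d hd, L.img_conj (L.img_L hl) h⟩⟩
  have hbot : S = ⊥ := by
    refine hS.eq_bot_or_eq_top.resolve_right fun h => ?_
    obtain ⟨d, hd, hi⟩ := (h ▸ Subgroup.mem_top (evalW dW) : evalW dW ∈ S)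
    obtain ⟨n, hn⟩ := hD ⟨d, hd⟩
    have h1 : evalW dW ^ 2 ^ n = 1 := L.img_unique (L.img_pow hi (2 ^ n)) (by
      rw [show d ^ 2 ^ n = 1 from congrArg Subtype.val hn]; exact L.img_one)
    have h3 : evalW dW ^ 3 = 1 := by rw [pow_three]; exact L.dW_three
    have hd1 : evalW dW = 1 := by
      have := (pow_gcd_eq_one (a := evalW dW)).2 ⟨h1, h3⟩
      rwa [Nat.Coprime.gcd_eq_one (Nat.Coprime.pow_left n (by norm_num)), pow_one] at this
    have := congrArg USixType.natL hd1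
    rw [natL_evalW, natL_one] at this
    exact absurd this (by decide +kernel)
  have hinn : ∀ d ∈ D, Inn z c J d → d ∈ J := fun d hd hi => by
    obtain ⟨g, hg⟩ := L.img_exists (x := d) ⟨hi, L.inn_fix hi ha ha1 (mem_Cz.1 (hDC hd).2)⟩
    have hgS : g ∈ S := ⟨d, hd, hg⟩
    rw [hbot, Subgroup.mem_bot] at hgS
    exact L.img_mem_J (hgS ▸ hg)
  intro d hd
  refine hinn d hd ((L.inn_or (hDC hd).1).resolve_right fun ho => hout d ho fun l hl => ?_)
  refine hinn _ ?_ ?_
  · rw [show d * l * d⁻¹ * l⁻¹ = d * (l * d⁻¹ * l⁻¹) by group]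
    exact D.mul_mem hd (hn l hl _ (D.inv_mem hd))
  · rw [show d * l * d⁻¹ * l⁻¹ = d * (l * d⁻¹ * l⁻¹) by group]
    exact L.out_out ho (L.out_inn_mul (L.inn_out_mul (L.inn_cc hl.1) (L.out_inv ho))
      (L.inn_inv (L.inn_cc hl.1)))

/-- The only conjugate of `z` in the centre of the radical is `z`. -/
theorem z_unique : ∀ t g, InT J t → g * z * g⁻¹ = t → t = z := by
  intro t g ht hg
  haveI : Fact (Nat.Prime 2) := ⟨Nat.prime_two⟩
  by_contra hne
  have ht1 : t ≠ 1 := fun e => L.zne (conj_eq_one_iff.1 (hg.trans e))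
  obtain ⟨a, ha, ha1, hat⟩ : ∃ a, InV J c a ∧ a ≠ 1 ∧ ∀ x ∈ Cz z, (x * t = t * x ↔ x * a = a * x) := by
    rcases L.inT_decomp ht with h | h
    · exact ⟨t, h, ht1, fun _ _ => Iff.rfl⟩
    · refine ⟨t * z, h, fun e => hne ?_, fun x hx => ?_⟩
      · rw [eq_inv_of_mul_eq_one_left e, inv_eq_of_mul_eq_one_right L.z2]
      · constructor
        · intro e; rw [← mul_assoc, e, mul_assoc, L.z_comm hx, ← mul_assoc]
        · intro e
          rw [show t = t * z * z by rw [mul_assoc, L.z2, mul_one], ← mul_assoc, e, mul_assoc (t * z) x,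
            L.z_comm hx, ← mul_assoc]
  set H' := Cz z ⊓ Cz a with hH'
  have hH't : H' ≤ Cz t := fun x hx => mem_Cz.2 ((hat x hx.1).2 (mem_Cz.1 hx.2))
  have hK : ∀ x, x ∈ Cz t ↔ g⁻¹ * x * g ∈ Cz z := fun x => by
    rw [mem_Cz, mem_Cz, ← hg]
    constructor <;> intro e
    · calc g⁻¹ * x * g * z = g⁻¹ * (x * (g * z * g⁻¹)) * g := by group
        _ = _ := by rw [e]; group
    · calc x * (g * z * g⁻¹) = g * (g⁻¹ * x * g * z) * g⁻¹ := by group
        _ = _ := by rw [e]; group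
  have hcard : Nat.card ↥(Cz t) = 3 * Nat.card ↥H' := by
    rw [← L.card_stab ha ha1]
    refine Nat.card_congr
      { toFun := fun x => ⟨g⁻¹ * x * g, (hK x).1 x.2⟩
        invFun := fun y => ⟨g * y * g⁻¹, (hK _).2 (by
          rw [show g⁻¹ * (g * (y : G) * g⁻¹) * g = y by group]; exact y.2)⟩
        left_inv := fun x => Subtype.ext (by show g * (g⁻¹ * (x : G) * g) * g⁻¹ = x; group)
        right_inv := fun y => Subtype.ext (by show g⁻¹ * (g * (y : G) * g⁻¹) * g = y; group) }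
  -- a Sylow subgroup of the stabiliser is one of the centraliser of `t`
  obtain ⟨P⟩ : Nonempty (Sylow 2 ↥H') := inferInstance
  set R : Subgroup G := (P : Subgroup ↥H').map H'.subtype
  have hR : IsPGroup 2 R := P.2.map _
  have hRK : R ≤ Cz t := (Subgroup.map_subtype_le _).trans hH't
  have hmax : ∀ E : Subgroup G, IsPGroup 2 E → E ≤ Cz t → R ≤ E → E ≤ R := by
    intro E hE hEK hRE
    refine (Subgroup.eq_of_le_of_card_ge hRE ?_).ge
    obtain ⟨n, hn⟩ := IsPGroup.iff_card.1 hE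
    have h1 : 2 ^ n ∣ Nat.card ↥H' := by
      have := Subgroup.card_dvd_of_le hEK
      rw [hn, hcard] at this
      exact (Nat.Coprime.pow_left n (by norm_num : Nat.Coprime 2 3)).dvd_of_dvd_mul_left this
    rw [Subgroup.card_map_of_injective (Subgroup.subtype_injective _), hn]
    exact Nat.le_of_dvd Nat.card_pos (P.pow_dvd_card_of_pow_dvd_card h1)
  set D : Subgroup G := J.map (MulAut.conj g).toMonoidHom with hDdef
  have memD : ∀ {y}, y ∈ D ↔ g⁻¹ * y * g ∈ J := fun {y} => by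
    constructor
    · rintro ⟨q, hq, rfl⟩
      show g⁻¹ * (g * q * g⁻¹) * g ∈ J
      rwa [show g⁻¹ * (g * q * g⁻¹) * g = q by group]
    · intro h
      exact ⟨_, h, by show g * (g⁻¹ * y * g) * g⁻¹ = y; group⟩
  have hDK : D ≤ Cz t := fun y hy => (hK y).2 (L.JC (memD.1 hy))
  have hnorm : ∀ x ∈ Cz t, ∀ y ∈ D, x * y * x⁻¹ ∈ D := fun x hx y hy => memD.2 (by
    rw [show g⁻¹ * (x * y * x⁻¹) * g = g⁻¹ * x * g * (g⁻¹ * y * g) * (g⁻¹ * x * g)⁻¹ by group]
    exact L.conjJ _ ((hK x).1 hx) _ (memD.1 hy))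
  have hDR : D ≤ R := le_of_max hR hRK hmax (L.J_pgroup.map _) hDK fun x hx =>
    Subgroup.mem_normalizer_iff.2 fun y => ⟨hnorm x (hRK hx) y, fun h => by
      have := hnorm x⁻¹ ((Cz t).inv_mem (hRK hx)) _ h
      rwa [show x⁻¹ * (x * y * x⁻¹) * x⁻¹⁻¹ = y by group] at this⟩
  have hDJ : D ≤ J := L.two_le_J hout ha ha1 (L.J_pgroup.map _) (hDR.trans (Subgroup.map_subtype_le _))
    fun l hl => hnorm l (hH't ⟨L.L_Cz hl, mem_Cz.2 (hl.2 a ha)⟩)
  obtain ⟨p, hp, q, hq, hpq⟩ : ∃ p ∈ J, ∃ q ∈ J, p * q ≠ q * p := by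
    by_contra h
    push Not at h
    have h8 := L.cardT
    have : Nat.card {t : G // InT J t} = 2048 := by
      rw [← L.card]
      exact Nat.card_congr (Equiv.subtypeEquivRight fun x =>
        (⟨And.left, fun hx => ⟨hx, fun q hq => h x hx q hq⟩⟩ : InT J x ↔ x ∈ J))
    omega
  have hpq' : p * q = z * (q * p) := (L.comm p hp q hq).resolve_left hpq
  have hgp : g * p * g⁻¹ ∈ J := hDJ ⟨p, hp, rfl⟩
  have hgq : g * q * g⁻¹ ∈ J := hDJ ⟨q, hq, rfl⟩
  have e : g * p * g⁻¹ * (g * q * g⁻¹) = t * (g * q * g⁻¹ * (g * p * g⁻¹)) := by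
    rw [← hg, show g * p * g⁻¹ * (g * q * g⁻¹) = g * (p * q) * g⁻¹ by group, hpq']
    group
  rcases L.comm _ hgp _ hgq with e' | e'
  · exact ht1 (mul_eq_right.1 (e.symm.trans e'))
  · exact hne (mul_right_cancel (e.symm.trans e'))

end Loc

end CfsgLib.FiTwentyThreeType
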