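import Cfsg.Agent.Lib.FiTwentyThreeType.Outer
import Cfsg.Agent.Lib.FiTwentyThreeType.Extra

/-!
The centraliser of an involution of the centre modulo that involution satisfies the hypotheses of the
classification with centraliser `(2 × 2^{1+8}).U₄(2).2`.
-/

set_option autoImplicit false
set_option linter.unusedSectionVars false
set_option linter.style.haveILetI false
set_option maxRecDepth 100000

universe u uF uK

open Cfsg
open scoped commutatorElement
open CfsgLib.USixType (Cz mem_Cz G4 T cl ac)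

namespace CfsgLib.FiTwentyThreeType

/-- The classification with centraliser `(2 × 2^{1+8}).U₄(2).2`, as a hypothesis. -/
def CaseType (F : Type uF) [Field F] (K : Type uK) [Field K] [Fintype K] : Prop :=
  ∀ {Y : Type u} [Group Y] [Finite Y] (z : Y), orderOf z = 2 →
    ∀ (A E : Subgroup ↥(Cz z)), IsInternalDirectProduct A E (pCore 2 ↥(Cz z)) → Nat.card ↥A = 2 →
    IsExtraspecial 2 ↥E → Nat.card ↥E = 2 ^ 9 → ∀ zc : ↥(Cz z), (zc : Y) = z →
    ⁅pCore 2 ↥(Cz z), pCore 2 ↥(Cz z)⁆ = Subgroup.zpowers zc →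
    Subgroup.centralizer ((pCore 2 ↥(Cz z)) : Set ↥(Cz z)) ≤ pCore 2 ↥(Cz z) →
    ∀ [(pCore 2 ↥(Cz z)).Normal], ∀ _e : (↥(Cz z) ⧸ pCore 2 ↥(Cz z)) ≃* MulAut (PSp 2 F),
    Cz z ⊔ oddCore Y = ⊤ ∨
      (∃ z₁ : Y, orderOf z₁ = 2 ∧ z₁ ∉ Subgroup.zpowers z ∧
        (∃ h₁ : z₁ ∈ Cz z, (⟨z₁, h₁⟩ : ↥(Cz z)) ∈ pCore 2 ↥(Cz z) ∧
          ∀ j ∈ pCore 2 ↥(Cz z), j * ⟨z₁, h₁⟩ = ⟨z₁, h₁⟩ * j) ∧
        (Subgroup.zpowers z₁).Normal ∧
        ∃ (G₀ : Subgroup Y) (_ : z₁ ∈ G₀), G₀.index = 2 ∧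
          ∃ _hn : ((Subgroup.zpowers z₁).subgroupOf G₀).Normal,
            Nonempty ((↥G₀ ⧸ (Subgroup.zpowers z₁).subgroupOf G₀) ≃* PSU 6 K 2)) ∨
      Spor.IsoFi22 Y

variable {G : Type u} [Group G]

/-- The relevant part of the outcome, in the group. -/
def Big (z u : G) (K : Type uK) [Field K] [Fintype K] (J : Subgroup G) : Prop :=
  ∃ w, InT J w ∧ w ≠ 1 ∧ w ≠ u ∧ (∀ k : ℕ, w ≠ u ^ k * z) ∧
    (∀ x ∈ Cz u, x * w * x⁻¹ = w ∨ x * w * x⁻¹ = w * u) ∧
    ∃ P : Subgroup G, P ≤ Cz u ∧ (∀ x y, x ∈ Cz u → y ∈ Cz u → x ∉ P → y ∉ P → x * y ∈ P) ∧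
      ∃ φ : ↥P →* PSU 6 K 2, Function.Surjective φ ∧
        ∀ p : ↥P, φ p = 1 ↔ ((p : G) = 1 ∨ (p : G) = u ∨ (p : G) = w ∨ (p : G) = w * u)

/-- The outer part of the stabiliser of `a` is onto the automorphisms. -/
def Theta (z c : G) (J : Subgroup G) (F : Type uF) [Field F] : Prop :=
  ∃ θ : ↥(Cz z) →* MulAut (PSp 2 F), Function.Surjective θ ∧
    ∀ x, θ x = 1 ↔ ∃ q ∈ J, ∃ i : ℕ, (x : G) = q * c ^ i

namespace Loc

variable [Finite G] {z c : G} {J : Subgroup G} {π : ↥(Cc z c) →* G4} (L : Loc z c J π)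
include L

/-- Acting trivially on the classes puts an element into `J`. -/
theorem triv_J {x : G} (hx : x ∈ Cz z) {a : G} (ha : InV J c a) (ha1 : a ≠ 1) (hxa : x * a = a * x)
    (h : ∀ t : T J, ac J x t = t) : x ∈ J := by
  rcases L.inn_or hx with hi | ho
  · obtain ⟨g, hg⟩ := L.img_exists (x := x) ⟨hi, L.inn_fix hi ha ha1 hxa⟩
    have := L.act_faith (g := g) fun t => (L.ac_img hg t).symm.trans (h t)
    exact L.img_mem_J (this ▸ hg)
  · exfalso
    have hall : ∀ t : T J, t = 1 := fun t => L.out_split ho (h _) (h t) rfl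
    have hT := L.card_T
    haveI : Subsingleton (T J) := ⟨fun s t => (hall s).trans (hall t).symm⟩
    rw [Nat.card_unique] at hT
    norm_num at hT

/-- The third involution. -/
theorem third {a : G} (ha : InV J c a) (ha1 : a ≠ 1) : a * (c * a * c⁻¹) = c⁻¹ * a * c := by
  obtain ⟨n1, n2, -⟩ := L.conj_ne ha ha1
  have hb : c * a * c⁻¹ ≠ 1 := fun e => ha1 (conj_eq_one_iff.1 e)
  rcases L.V0_orbit ha ha1 (L.inV_mul ha (L.inV_conjc ha)) (fun e => n1 (by
    rw [eq_inv_of_mul_eq_one_right e, L.inV_inv ha])) with e | e | e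
  · exact absurd (mul_eq_left.1 e) hb
  · exact absurd (mul_eq_right.1 e) ha1
  · exact e

variable (hout : OutFaith z c J) (hz : ∀ t g, InT J t → g * z * g⁻¹ = t → t = z)
include hout hz

/-- The three outcomes for an involution of the centre. -/
theorem quot_outcome {F : Type uF} [Field F] {K : Type uK} [Field K] [Fintype K]
    (h32 : CaseType.{u} F K) (hθ : Theta z c J F) {E0 : Subgroup G} (hE : ExtraData z J E0)
    {a u : G} (ha : InV J c a) (ha1 : a ≠ 1) (hu : u = a ∨ u = a * z)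
    [((Subgroup.zpowers u).subgroupOf (Cz u)).Normal] :
    OddIso z u ∨ Spor.IsoFi22 (↥(Cz u) ⧸ (Subgroup.zpowers u).subgroupOf (Cz u)) ∨ Big z u K J := by
  classical
  haveI : Fact (Nat.Prime 2) := ⟨Nat.prime_two⟩
  have haT := L.inV_inT ha
  have haz : a ≠ z := fun e => L.z_notV (e ▸ ha)
  have huT : InT J u := by
    rcases hu with e | e <;> rw [e]
    exacts [haT, L.inT_mul haT L.z_inT]
  have hu1 : u ≠ 1 := by
    rcases hu with e | e <;> rw [e]
    · exact ha1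
    · intro h
      exact haz (by rw [eq_inv_of_mul_eq_one_left h, inv_eq_of_mul_eq_one_right L.z2])
  have huz : u ≠ z := by
    rcases hu with e | e <;> rw [e]
    · exact haz
    · exact fun h => ha1 (mul_eq_right.1 h)
  have hu2 := L.T2 u huT
  have hfix : ∀ x ∈ Cz z, (x * u = u * x ↔ x * a = a * x) := fun x hx => by
    rcases hu with e | e <;> rw [e]
    constructor
    · intro h
      rw [show a = a * z * z by rw [mul_assoc, L.z2, mul_one], ← mul_assoc, h, mul_assoc (a * z) x,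
        L.z_comm hx, ← mul_assoc]
    · intro h
      rw [← mul_assoc, h, mul_assoc, L.z_comm hx, ← mul_assoc]
  have memU : ∀ {x : G}, x ∈ Subgroup.zpowers u ↔ x = 1 ∨ x = u := by
    intro x
    constructor
    · rintro ⟨i, rfl⟩
      show u ^ i = 1 ∨ u ^ i = u
      rcases Int.even_or_odd i with ⟨k, rfl⟩ | ⟨k, rfl⟩
      · left; rw [← two_mul, zpow_mul, zpow_two, hu2, one_zpow]
      · right; rw [zpow_add, zpow_mul, zpow_two, hu2, one_zpow, one_mul, zpow_one]
    · rintro (e | e) <;> rw [e]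
      exacts [one_mem _, Subgroup.mem_zpowers u]
  have hJu : J ≤ Cz u := fun q hq => mem_Cz.2 (huT.2 q hq).symm
  have huC : u ∈ Cz u := hJu huT.1
  have hzu : z ∈ Cz u := hJu L.zJ
  set N : Subgroup ↥(Cz u) := (Subgroup.zpowers u).subgroupOf (Cz u) with hN
  set Y := ↥(Cz u) ⧸ N
  let mk : ↥(Cz u) →* Y := QuotientGroup.mk' N
  have hmk : ∀ {x y : ↥(Cz u)}, mk x = mk y ↔ (y : G) = x ∨ (y : G) = x * u := fun {x y} => by
    show QuotientGroup.mk' N x = QuotientGroup.mk' N y ↔ _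
    rw [QuotientGroup.mk'_apply, QuotientGroup.mk'_apply, QuotientGroup.eq, hN, Subgroup.mem_subgroupOf,
      memU]
    show (x : G)⁻¹ * y = 1 ∨ (x : G)⁻¹ * y = u ↔ _
    rw [inv_mul_eq_one, inv_mul_eq_iff_eq_mul, eq_comm (a := (x : G))]
  have hmk1 : ∀ {x : ↥(Cz u)}, mk x = 1 ↔ (x : G) = 1 ∨ (x : G) = u := fun {x} => by
    rw [← map_one mk, eq_comm, hmk]
    show (x : G) = 1 ∨ (x : G) = 1 * u ↔ _
    rw [one_mul]
  set zu : ↥(Cz u) := ⟨z, hzu⟩
  set zb : Y := mk zu with hzb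
  have hzb2 : orderOf zb = 2 := by
    refine orderOf_eq_prime_iff.2 ⟨?_, fun h => ?_⟩
    · rw [pow_two, hzb, ← map_mul]
      exact hmk1.2 (Or.inl L.z2)
    · rcases hmk1.1 (h : mk zu = 1) with e | e
      exacts [L.zne e, huz e.symm]
  -- the centraliser in the quotient
  set M : Subgroup G := Cz z ⊓ Cz u with hM
  have hJM : J ≤ M := le_inf L.JC hJu
  let ι : ↥M →* ↥(Cz u) := Subgroup.inclusion inf_le_right
  let ρ : ↥M →* ↥(Cz zb) := (mk.comp ι).codRestrict (Cz zb) fun x => mem_Cz.2 (by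
    show mk (ι x) * mk zu = mk zu * mk (ι x)
    rw [← map_mul, ← map_mul, show ι x * zu = zu * ι x from Subtype.ext (L.z_comm x.2.1)])
  have hρ : Function.Surjective ρ := by
    rintro ⟨y, hy⟩
    obtain ⟨x, rfl⟩ := QuotientGroup.mk'_surjective N y
    have h := mem_Cz.1 hy
    rw [hzb, ← map_mul, ← map_mul] at h
    have hxz : (x : G) ∈ Cz z := by
      rcases hmk.1 h with e | e
      · exact mem_Cz.2 (show (x : G) * z = z * x from e.symm)
      · exfalso
        have e' : z * (x : G) = (x : G) * z * u := e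
        have h1 : (x : G) * (z * u) * (x : G)⁻¹ = z := by
          rw [← mul_assoc, ← e', mul_inv_cancel_right]
        refine huz ?_
        have h2 := hz (z * u) (x : G)⁻¹ (L.inT_mul L.z_inT huT) (by
          conv_lhs => rw [← h1]
          group)
        exact absurd (mul_eq_left.1 h2) hu1
    exact ⟨⟨x, hxz, x.2⟩, rfl⟩
  have hρ1 : ∀ {x : ↥M}, ρ x = 1 ↔ (x : G) = 1 ∨ (x : G) = u := fun {x} => by
    rw [Subtype.ext_iff]; exact hmk1
  have hρeq : ∀ {x y : ↥M}, ρ x = ρ y ↔ (y : G) = x ∨ (y : G) = x * u := fun {x y} => by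
    rw [Subtype.ext_iff]; exact hmk
  set JM : Subgroup ↥M := J.subgroupOf M
  haveI hJMn : JM.Normal := ⟨fun q hq x => L.conjJ x x.2.1 q hq⟩
  set Jb : Subgroup ↥(Cz zb) := JM.map ρ with hJb
  haveI hJbn : Jb.Normal := Subgroup.Normal.map hJMn ρ hρ
  have hpc : pCore 2 ↥(Cz zb) = Jb := by
    refine le_antisymm ?_ (Fitting.le_pCore hJbn
      ((L.J_pgroup.of_equiv (Subgroup.subgroupOfEquivOfLe hJM).symm).map ρ))
    have hker : IsPGroup 2 ρ.ker := fun x => ⟨1, Subtype.ext (Subtype.ext (by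
      show ((x : ↥M) : G) ^ 2 ^ 1 = 1
      rcases hρ1.1 (MonoidHom.mem_ker.1 x.2) with e | e <;> rw [e, pow_one]
      · exact one_pow 2
      · rw [pow_two, hu2]))⟩
    haveI hPn : (pCore 2 ↥(Cz zb)).Normal := Fitting.pCore_normal 2
    have hP : IsPGroup 2 ((pCore 2 ↥(Cz zb)).comap ρ) := (Fitting.pCore_isPGroup 2).comap_of_ker_isPGroup ρ hker
    have hle : ((pCore 2 ↥(Cz zb)).comap ρ).map M.subtype ≤ J := by
      refine L.two_le_J hout ha ha1 (hP.map _) ?_ ?_
      · rintro _ ⟨x, -, rfl⟩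
        exact ⟨x.2.1, mem_Cz.2 ((hfix _ x.2.1).1 (mem_Cz.1 x.2.2))⟩
      · rintro l hl _ ⟨x, hx, rfl⟩
        have hlM : l ∈ M := ⟨L.L_Cz hl, mem_Cz.2 (L.L_T hl huT)⟩
        exact ⟨⟨l, hlM⟩ * x * ⟨l, hlM⟩⁻¹, (hPn.comap ρ).conj_mem x hx _, rfl⟩
    intro y hy
    obtain ⟨x, rfl⟩ := hρ y
    exact ⟨x, hle ⟨x, hy, rfl⟩, rfl⟩
  -- the map to the automorphisms
  obtain ⟨θ, hθs, hθk⟩ := hθ
  let θM : ↥M →* MulAut (PSp 2 F) := θ.comp (Subgroup.inclusion inf_le_left)
  have hθM : ∀ {x : ↥M}, θM x = 1 ↔ (x : G) ∈ J := fun {x} => by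
    show θ _ = 1 ↔ _
    rw [hθk]
    constructor
    · rintro ⟨q, hq, i, e⟩
      replace e : (x : G) = q * c ^ i := e
      have h1 := L.pow_fix_J ha ha1 hq (i := i) (by
        rw [← e]; exact (hfix _ x.2.1).1 (mem_Cz.1 x.2.2))
      rw [e, h1, mul_one]
      exact hq
    · exact fun h => ⟨x, h, 0, by rw [pow_zero, mul_one]; rfl⟩
  have hθMs : Function.Surjective θM := fun σ => by
    obtain ⟨x, rfl⟩ := hθs σ
    obtain ⟨i, -, hi⟩ := L.exists_pow_fix ha ha1 x.2
    have hm : c ^ i * (x : G) ∈ Cz z := (Cz z).mul_mem ((Cz z).pow_mem L.cC i) x.2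
    refine ⟨⟨c ^ i * x, hm, mem_Cz.2 ((hfix _ hm).2 hi)⟩, ?_⟩
    show θ ⟨c ^ i * (x : G), hm⟩ = θ x
    rw [show (⟨c ^ i * (x : G), hm⟩ : ↥(Cz z)) = ⟨c ^ i, (Cz z).pow_mem L.cC i⟩ * x from rfl, map_mul,
      (hθk _).2 ⟨1, J.one_mem, i, (one_mul _).symm⟩, one_mul]
  have hker : ρ.ker ≤ θM.ker := fun x hx => by
    rw [MonoidHom.mem_ker, hθM]
    rcases hρ1.1 (MonoidHom.mem_ker.1 hx) with e | e <;> rw [e]
    exacts [J.one_mem, huT.1]
  set χ : ↥(Cz zb) →* MulAut (PSp 2 F) := MonoidHom.liftOfSurjective ρ hρ ⟨θM, hker⟩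
  have hχ : ∀ x, χ (ρ x) = θM x := MonoidHom.liftOfRightInverse_comp_apply _ _ _ ⟨θM, hker⟩
  have hχk : χ.ker = pCore 2 ↥(Cz zb) := by
    rw [hpc]
    ext y
    obtain ⟨x, rfl⟩ := hρ y
    rw [MonoidHom.mem_ker, hχ, hθM]
    constructor
    · exact fun h => ⟨x, h, rfl⟩
    · rintro ⟨w, hw, e⟩
      rcases hρeq.1 e with e' | e' <;> rw [e']
      exacts [hw, J.mul_mem hw huT.1]
  haveI hPn : (pCore 2 ↥(Cz zb)).Normal := Fitting.pCore_normal 2
  have eq32 : (↥(Cz zb) ⧸ pCore 2 ↥(Cz zb)) ≃* MulAut (PSp 2 F) :=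
    (QuotientGroup.quotientMulEquivOfEq hχk.symm).trans
      (QuotientGroup.quotientKerEquivOfSurjective χ fun σ => by
        obtain ⟨x, hx⟩ := hθMs σ
        exact ⟨ρ x, (hχ x).trans hx⟩)
  -- the two factors
  set a' := c * a * c⁻¹ with ha'def
  have ha' : InV J c a' := L.inV_conjc ha
  have ha'T := L.inV_inT ha'
  set am : ↥M := ⟨a', hJM ha'T.1⟩
  set A : Subgroup ↥(Cz zb) := Subgroup.zpowers (ρ am)
  have hna : ∀ t, (t = a' ∨ t = a' * u) → t ≠ 1 ∧ t ≠ z := by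
    have hne1 := (L.conj_ne ha ha1).1
    have hne2 : a' ≠ 1 := fun e => ha1 (conj_eq_one_iff.1 e)
    have hne3 : a' ≠ z := fun e => L.z_notV (e ▸ ha')
    have k : ∀ v w : G, InV J c v → InV J c w → v = w * z → False := fun v w hv hw e => by
      refine L.z_notV ?_
      rw [show z = w⁻¹ * v by rw [e]; group, L.inV_inv hw]
      exact L.inV_mul hw hv
    intro t ht
    rcases ht with e | e <;> rw [e]
    · exact ⟨hne2, hne3⟩
    · constructor <;> intro h
      · have h' : a' = u := by rw [eq_inv_of_mul_eq_one_left h, L.inT_inv huT]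
        rcases hu with e' | e' <;> rw [e'] at h'
        exacts [hne1 h', k a' a ha' ha h']
      · rcases hu with e' | e' <;> rw [e'] at h
        · exact L.z_notV (h ▸ L.inV_mul ha' ha)
        · refine hne1 ?_
          rw [← mul_assoc, mul_eq_right] at h
          have h' := eq_inv_of_mul_eq_one_left h
          rw [L.inV_inv ha] at h'
          exact h'
  set EM : Subgroup ↥M := E0.subgroupOf M
  set Eb : Subgroup ↥(Cz zb) := EM.map ρ
  have hEM : E0 ≤ M := hE.le.trans hJM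
  have hu_notE : u ∉ E0 := fun h => (hE.meet u huT h).elim hu1 huz
  have hinjE : Function.Injective (ρ.comp EM.subtype) := by
    rw [injective_iff_map_eq_one]
    rintro ⟨x, hx⟩ h
    rcases hρ1.1 (h : ρ x = 1) with e | e
    · exact Subtype.ext (Subtype.ext e)
    · exact absurd (e ▸ (Subgroup.mem_subgroupOf.1 hx : (x : G) ∈ E0)) hu_notE
  let εE : ↥EM ≃* ↥Eb := (MonoidHom.ofInjective hinjE).trans
    (MulEquiv.subgroupCongr (by rw [MonoidHom.range_comp, Subgroup.range_subtype]))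
  have hEbx : IsExtraspecial 2 ↥Eb :=
    Extraspecial.isExtraspecial_congr ((Subgroup.subgroupOfEquivOfLe hEM).symm.trans εE) hE.ext
  have hEbc : Nat.card ↥Eb = 2 ^ 9 := by
    rw [← Nat.card_congr ((Subgroup.subgroupOfEquivOfLe hEM).symm.trans εE).toEquiv, hE.cardE]
  have ham2 : am * am = 1 := Subtype.ext (L.inV_sq ha')
  have memA : ∀ {y}, y ∈ A ↔ y = 1 ∨ y = ρ am := by
    intro y
    have h2 : ρ am * ρ am = 1 := by rw [← map_mul, ham2, map_one]
    constructor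
    · rintro ⟨i, rfl⟩
      show ρ am ^ i = 1 ∨ ρ am ^ i = ρ am
      rcases Int.even_or_odd i with ⟨k, rfl⟩ | ⟨k, rfl⟩
      · left; rw [← two_mul, zpow_mul, zpow_two, h2, one_zpow]
      · right; rw [zpow_add, zpow_mul, zpow_two, h2, one_zpow, one_mul, zpow_one]
    · rintro (e | e) <;> rw [e]
      exacts [one_mem _, Subgroup.mem_zpowers _]
  have hA : Nat.card ↥A = 2 := by
    rw [Nat.card_zpowers]
    refine orderOf_eq_prime_iff.2 ⟨by rw [pow_two, ← map_mul, ham2, map_one], fun h => ?_⟩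
    rcases hρ1.1 h with e | e
    · exact (hna a' (Or.inl rfl)).1 e
    · exact (hna (a' * u) (Or.inr rfl)).1 (by rw [show a' = u from e, hu2])
  have hAE : IsInternalDirectProduct A Eb (pCore 2 ↥(Cz zb)) := by
    rw [hpc]
    refine ⟨?_, Subgroup.map_mono fun x hx => hE.le hx, ?_, ?_, ?_⟩
    · exact Subgroup.zpowers_le.2 ⟨am, ha'T.1, rfl⟩
    · rintro y hy _ ⟨e, he, rfl⟩
      rcases memA.1 hy with rfl | rfl
      · rw [one_mul, mul_one]
      · rw [← map_mul, ← map_mul]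
        exact congrArg ρ (Subtype.ext (ha'T.2 _ (hE.le he)))
    · rw [eq_bot_iff]
      rintro y ⟨hy, e, he, hey⟩
      rcases memA.1 hy with h | h
      · exact h
      · exfalso
        have he' : (e : G) ∈ E0 := he
        have hor : (e : G) = a' ∨ (e : G) = a' * u := by
          rcases hρeq.1 (hey.trans h) with q | q
          · exact Or.inl q.symm
          · right
            show (e : G) = (am : G) * u
            rw [q, mul_assoc, hu2, mul_one]
        obtain ⟨n1, nz⟩ := hna _ hor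
        have hT' : InT J (e : G) := by
          rcases hor with q | q <;> rw [q]
          exacts [ha'T, L.inT_mul ha'T huT]
        exact (hE.meet _ hT' he').elim n1 nz
    · refine le_antisymm (sup_le (Subgroup.zpowers_le.2 ⟨am, ha'T.1, rfl⟩)
        (Subgroup.map_mono fun x hx => hE.le hx)) ?_
      rintro _ ⟨x, hx, rfl⟩
      obtain ⟨t, e, ht, he, hte⟩ := hE.cover (x : G) hx
      have hsup : ∀ {t : G} (h : InT J t), ρ ⟨t, hJM h.1⟩ ∈ A ⊔ Eb := by
        intro t ht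
        have base : ∀ v, InV J c v → ∀ h : v ∈ M, ρ ⟨v, h⟩ ∈ A ⊔ Eb := by
          intro v hv h
          have hz' : ∀ h' : z ∈ M, ρ ⟨z, h'⟩ ∈ Eb := fun h' => ⟨⟨z, h'⟩, hE.zE, rfl⟩
          have ha_mem : ρ ⟨a, hJM haT.1⟩ ∈ A ⊔ Eb := by
            rcases hu with q | q
            · rw [hρ1.2 (Or.inr q.symm)]; exact one_mem _
            · refine Subgroup.mem_sup_right ?_
              have hmz : z ∈ M := hJM L.zJ
              rw [(hρeq (y := ⟨z, hmz⟩)).2 (Or.inr (by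
                show z = a * u
                rw [q, ← mul_assoc, L.inV_sq ha, one_mul]))]
              exact hz' hmz
          by_cases hv1 : v = 1
          · rw [hρ1.2 (Or.inl hv1)]; exact one_mem _
          rcases L.V0_orbit ha ha1 hv hv1 with q | q | q
          · rwa [show (⟨v, h⟩ : ↥M) = ⟨a, hJM haT.1⟩ from Subtype.ext q]
          · rw [show (⟨v, h⟩ : ↥M) = am from Subtype.ext q]
            exact Subgroup.mem_sup_left (Subgroup.mem_zpowers _)
          · rw [show (⟨v, h⟩ : ↥M) = ⟨a, hJM haT.1⟩ * am from Subtype.ext (q.trans (L.third ha ha1).symm),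
              map_mul]
            exact mul_mem ha_mem (Subgroup.mem_sup_left (Subgroup.mem_zpowers _))
        rcases L.inT_decomp ht with hv | hv
        · exact base t hv _
        · have hmz : z ∈ M := hJM L.zJ
          rw [show (⟨t, hJM ht.1⟩ : ↥M) = ⟨t * z, hJM (L.inT_mul ht L.z_inT).1⟩ * ⟨z, hmz⟩ from
            Subtype.ext (by show t = t * z * z; rw [mul_assoc, L.z2, mul_one]), map_mul]
          exact mul_mem (base _ hv _) (Subgroup.mem_sup_right ⟨⟨z, hmz⟩, hE.zE, rfl⟩)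
      rw [show x = ⟨t, hJM ht.1⟩ * ⟨e, hEM he⟩ from Subtype.ext hte.symm, map_mul]
      exact mul_mem (hsup ht) (Subgroup.mem_sup_right ⟨⟨e, hEM he⟩, he, rfl⟩)
  set zcb : ↥(Cz zb) := ⟨zb, mem_Cz.2 rfl⟩
  have hρz : ρ ⟨z, hJM L.zJ⟩ = zcb := rfl
  have hJ' : ⁅pCore 2 ↥(Cz zb), pCore 2 ↥(Cz zb)⁆ = Subgroup.zpowers zcb := by
    rw [hpc]
    refine le_antisymm (Subgroup.commutator_le.2 ?_) (Subgroup.zpowers_le.2 ?_)
    · rintro _ ⟨p, hp, rfl⟩ _ ⟨q, hq, rfl⟩
      rw [← map_commutatorElement]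
      rcases L.comm _ hp _ hq with e | e
      · rw [show ⁅p, q⁆ = 1 from commutatorElement_eq_one_iff_mul_comm.2 (Subtype.ext e), map_one]
        exact one_mem _
      · rw [show ⁅p, q⁆ = ⟨z, hJM L.zJ⟩ from Subtype.ext (by
          show (p : G) * q * (p : G)⁻¹ * (q : G)⁻¹ = z
          rw [show (p : G) * q = z * ((q : G) * p) from e]; group), hρz]
        exact Subgroup.mem_zpowers _
    · obtain ⟨p, hp, q, hq, hpq⟩ := hE.nc
      rw [← hρz, show (⟨z, hJM L.zJ⟩ : ↥M) = ⁅(⟨p, hEM hp⟩ : ↥M), ⟨q, hEM hq⟩⁆ from Subtype.ext (by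
        show z = p * q * p⁻¹ * q⁻¹
        rw [hpq]; group), map_commutatorElement]
      exact Subgroup.commutator_mem_commutator ⟨⟨p, hEM hp⟩, hE.le hp, rfl⟩ ⟨⟨q, hEM hq⟩, hE.le hq, rfl⟩
  have hCJ : Subgroup.centralizer ((pCore 2 ↥(Cz zb)) : Set ↥(Cz zb)) ≤ pCore 2 ↥(Cz zb) := by
    rw [hpc]
    intro y hy
    obtain ⟨x, rfl⟩ := hρ y
    refine ⟨x, ?_, rfl⟩
    refine L.triv_J x.2.1 ha ha1 ((hfix _ x.2.1).1 (mem_Cz.1 x.2.2)) fun t => ?_
    obtain ⟨q, hq, rfl⟩ := L.exists_cl t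
    have h := Subgroup.mem_centralizer_iff.1 hy (ρ ⟨q, hJM hq⟩) ⟨⟨q, hJM hq⟩, hq, rfl⟩
    rw [← map_mul, ← map_mul] at h
    have hxq : (x : G) * q * (x : G)⁻¹ ∈ J := L.conjJ _ x.2.1 q hq
    show ac J (x : G) (cl J q) = cl J q
    rw [L.ac_cl x.2.1 hq, L.cl_eq hxq hq]
    rcases hρeq.1 h with e | e
    · rw [show (x : G) * q * (x : G)⁻¹ = q from mul_inv_eq_iff_eq_mul.2 e, inv_mul_cancel]
      exact L.one_inT
    · replace e : (x : G) * q = q * x * u := e
      rw [show (x : G) * q * (x : G)⁻¹ = q * u from mul_inv_eq_iff_eq_mul.2 (by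
        rw [e, mul_assoc q, mul_assoc q, mem_Cz.1 x.2.2]), mul_inv_rev,
        inv_mul_cancel_right, L.inT_inv huT]
      exact huT
  rcases h32 zb hzb2 A Eb hAE hA hEbx hEbc zcb rfl hJ' hCJ eq32 with h | h | h
  · -- isolated
    left
    intro g hg
    haveI hOn : (oddCore Y).Normal := Transfer.pPrimeCore_normal 2 Y
    have hcop : (Nat.card (oddCore Y)).Coprime 2 := Transfer.pPrimeCore_coprime 2
    set r := (g * z * g⁻¹ * z) with hr
    set ru : ↥(Cz u) := ⟨g, hg⟩ * zu * ⟨g, hg⟩⁻¹ * zu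
    have hmr : mk ru ∈ oddCore Y := by
      obtain ⟨b, hb, o, ho, hbo⟩ := Subgroup.mem_sup_of_normal_right.1 (h ▸ Subgroup.mem_top (mk ⟨g, hg⟩) : mk ⟨g, hg⟩ ∈ Cz zb ⊔ oddCore Y)
      show mk (⟨g, hg⟩ * zu * ⟨g, hg⟩⁻¹ * zu) ∈ oddCore Y
      rw [map_mul, map_mul, map_mul, map_inv, ← hbo, ← hzb]
      have hz' : zb⁻¹ = zb := inv_eq_of_mul_eq_one_right (by rw [← pow_two, ← hzb2, pow_orderOf_eq_one])
      rw [show b * o * zb * (b * o)⁻¹ * zb = b * (o * (zb * o⁻¹ * zb⁻¹)) * (zb * b⁻¹ * zb⁻¹⁻¹) by group]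
      have hzz : zb * zb = 1 := by rw [← pow_two, ← hzb2]; exact pow_orderOf_eq_one zb
      have e1 : zb * b⁻¹ * zb⁻¹⁻¹ = b⁻¹ := by
        rw [inv_inv, ← (Commute.inv_left (mem_Cz.1 hb)).eq, mul_assoc, hzz, mul_one]
      rw [e1]
      exact hOn.conj_mem _ ((oddCore Y).mul_mem ho (hOn.conj_mem _ ((oddCore Y).inv_mem ho) zb)) b
    obtain ⟨m, hm⟩ : Odd (orderOf (mk ru)) := by
      rw [← Nat.not_even_iff_odd, even_iff_two_dvd]
      intro h2
      have h3 : 2 ∣ Nat.card (oddCore Y) :=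
        h2.trans ((Subgroup.orderOf_mk (mk ru) hmr).symm ▸ orderOf_dvd_natCard (⟨mk ru, hmr⟩ : oddCore Y))
      have := Nat.dvd_gcd h3 (dvd_refl 2)
      rw [hcop.gcd_eq_one] at this
      exact absurd this (by norm_num)
    have hp := pow_orderOf_eq_one (mk ru)
    rw [hm, ← map_pow] at hp
    rcases hmk1.1 hp with e | e
    · rw [SubgroupClass.coe_pow] at e
      exact Odd.of_dvd_nat ⟨m, rfl⟩ (orderOf_dvd_of_pow_eq_one (e : r ^ (2 * m + 1) = 1))
    · exfalso
      rw [SubgroupClass.coe_pow] at e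
      replace e : r ^ (2 * m + 1) = u := e
      set s := g * z * g⁻¹ with hs
      have s2 : s * s = 1 := by rw [hs, show g * z * g⁻¹ * (g * z * g⁻¹) = g * (z * z) * g⁻¹ by group, L.z2]; group
      have hsr : SemiconjBy s r r⁻¹ := by
        show s * r = r⁻¹ * s
        rw [hr, mul_inv_rev, inv_eq_of_mul_eq_one_right L.z2, inv_eq_of_mul_eq_one_right s2,
          ← mul_assoc, s2, one_mul, mul_assoc, s2, mul_one]
      have h1 : r ^ m * s * (r ^ m)⁻¹ = u * z := by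
        have hsm : s * (r ^ m)⁻¹ = r ^ m * s := by
          have := (hsr.pow_right m).eq
          rw [inv_pow] at this
          rw [mul_inv_eq_iff_eq_mul, mul_assoc, this, mul_inv_cancel_left]
        rw [← e, mul_assoc, hsm, ← mul_assoc, ← pow_add, pow_succ, mul_assoc, show r * z = s by
          rw [hr, mul_assoc, L.z2, mul_one]]
        congr 2
        omega
      have h2 := hz (u * z) (r ^ m * g) (L.inT_mul huT L.z_inT) (by rw [← h1, hs]; group)
      exact hu1 (mul_eq_right.1 h2)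
  · -- the unitary group
    right; right
    obtain ⟨z1, hz1, hz1n, ⟨hz1C, hz1p, hz1c⟩, hz1norm, G₀, hz1G, hidx, hn, ⟨ψ⟩⟩ := h
    obtain ⟨w, hwJ, hwz⟩ : ∃ w : ↥M, (w : G) ∈ J ∧ (ρ w : Y) = z1 := by
      rw [hpc] at hz1p
      obtain ⟨w, hw, e⟩ := hz1p
      exact ⟨w, hw, congrArg Subtype.val e⟩
    have hwu : (w : G) ∈ Cz u := w.2.2
    have hwz' : mk ⟨w, hwu⟩ = z1 := hwz
    have hz12 : z1 * z1 = 1 := by rw [← pow_two, ← hz1, pow_orderOf_eq_one]
    have hz11 : z1 ≠ 1 := fun e => by rw [e, orderOf_one] at hz1; norm_num at hz1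
    have hwT : InT J (w : G) := by
      refine ⟨hwJ, fun q hq => ?_⟩
      have h1 := hz1c (ρ ⟨q, hJM hq⟩) (hpc ▸ ⟨⟨q, hJM hq⟩, hq, rfl⟩)
      have h2 : mk ⟨q, hJu hq⟩ * mk ⟨w, hwu⟩ = mk ⟨w, hwu⟩ * mk ⟨q, hJu hq⟩ := by
        rw [hwz']; exact congrArg Subtype.val h1
      rw [← map_mul, ← map_mul] at h2
      rcases hmk.1 h2 with e | e
      · exact e
      · replace e : (w : G) * q = q * w * u := e
        rcases L.comm _ hwJ q hq with e' | e'
        · exact e'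
        · refine absurd ?_ huz
          exact (mul_left_cancel (a := q * (w : G))
            (((L.z_comm (L.JC (J.mul_mem hq hwJ))).trans e'.symm).trans e)).symm
    have hw1 : (w : G) ≠ 1 ∧ (w : G) ≠ u := by
      constructor <;> intro e <;> apply hz11 <;> rw [← hwz'] <;> apply hmk1.2
      exacts [Or.inl e, Or.inr e]
    have memW : ∀ {x : ↥(Cz u)}, mk x ∈ Subgroup.zpowers z1 ↔
        ((x : G) = 1 ∨ (x : G) = u ∨ (x : G) = w ∨ (x : G) = w * u) := by
      intro x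
      have : mk x ∈ Subgroup.zpowers z1 ↔ mk x = 1 ∨ mk x = z1 := by
        constructor
        · rintro ⟨i, hi⟩
          replace hi : z1 ^ i = mk x := hi
          rw [← hi]
          rcases Int.even_or_odd i with ⟨k, rfl⟩ | ⟨k, rfl⟩
          · left; rw [← two_mul, zpow_mul, zpow_two, hz12, one_zpow]
          · right; rw [zpow_add, zpow_mul, zpow_two, hz12, one_zpow, one_mul, zpow_one]
        · rintro (e | e) <;> rw [e]
          exacts [one_mem _, Subgroup.mem_zpowers z1]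
      rw [this, hmk1, ← hwz', show mk x = mk ⟨w, hwu⟩ ↔ _ from eq_comm.trans hmk, or_assoc]
    refine ⟨w, hwT, hw1.1, hw1.2, ?_, ?_, ?_⟩
    · intro k e
      have hk : u ^ k = 1 ∨ u ^ k = u := memU.1 (Subgroup.pow_mem _ (Subgroup.mem_zpowers u) k)
      refine hz1n ?_
      rw [← hwz', show mk ⟨w, hwu⟩ = zb from hmk.2 (by
        rcases hk with q | q <;> rw [q] at e
        · rw [one_mul] at e; exact Or.inl e.symm
        · refine Or.inr ?_
          show z = (w : G) * u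
          rw [e, L.inT_comm huT L.z_inT, mul_assoc, hu2, mul_one])]
      exact Subgroup.mem_zpowers zb
    · intro x hx
      have h1 := hz1norm.conj_mem z1 (Subgroup.mem_zpowers z1) (mk ⟨x, hx⟩)
      have h2 := (memW (x := ⟨x, hx⟩ * ⟨w, hwu⟩ * ⟨x, hx⟩⁻¹)).1 (by rwa [map_mul, map_mul, map_inv, hwz'])
      rcases h2 with q | q | q | q
      · exact absurd (conj_eq_one_iff.1 (q : x * (w : G) * x⁻¹ = 1)) hw1.1
      · exfalso
        refine hw1.2 ?_
        have q' : x * (w : G) * x⁻¹ = u := q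
        calc (w : G) = x⁻¹ * (x * (w : G) * x⁻¹) * x := by group
          _ = x⁻¹ * (u * x) := by rw [q']; group
          _ = u := by rw [← mem_Cz.1 hx, inv_mul_cancel_left]
      · exact Or.inl q
      · exact Or.inr q
    · set P : Subgroup G := (G₀.comap mk).map (Cz u).subtype
      have memP : ∀ {x : G} (hx : x ∈ Cz u), x ∈ P ↔ mk ⟨x, hx⟩ ∈ G₀ := fun {x} hx => by
        constructor
        · rintro ⟨y, hy, e⟩
          rwa [show (⟨x, hx⟩ : ↥(Cz u)) = y from Subtype.ext e.symm]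
        · exact fun h => ⟨_, h, rfl⟩
      have hPu : P ≤ Cz u := Subgroup.map_subtype_le _
      refine ⟨P, hPu, fun x y hx hy hxP hyP => ?_, ?_⟩
      · rw [memP ((Cz u).mul_mem hx hy), show (⟨x * y, _⟩ : ↥(Cz u)) = ⟨x, hx⟩ * ⟨y, hy⟩ from rfl, map_mul,
          Subgroup.mul_mem_iff_of_index_two hidx]
        exact ⟨fun h => absurd ((memP hx).2 h) hxP, fun h => absurd ((memP hy).2 h) hyP⟩
      · let j : ↥P →* ↥G₀ := (mk.comp (Subgroup.inclusion hPu)).codRestrict G₀ fun p => (memP (hPu p.2)).1 p.2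
        have hj : Function.Surjective j := by
          rintro ⟨y, hy⟩
          obtain ⟨x, rfl⟩ := QuotientGroup.mk'_surjective N y
          exact ⟨⟨x, (memP x.2).2 hy⟩, rfl⟩
        refine ⟨ψ.toMonoidHom.comp ((QuotientGroup.mk' _).comp j),
          ψ.surjective.comp ((QuotientGroup.mk'_surjective _).comp hj), fun p => ?_⟩
        show ψ (QuotientGroup.mk' _ (j p)) = 1 ↔ _
        rw [map_eq_one_iff _ ψ.injective, QuotientGroup.mk'_apply, QuotientGroup.eq_one_iff,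
          Subgroup.mem_subgroupOf]
        exact memW
  · exact Or.inr (Or.inl h)

end Loc

end CfsgLib.FiTwentyThreeType
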