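import Cfsg.Agent.Lib.FiTwentyThreeType.Fuse
import Cfsg.Agent.Lib.FiTwentyThreeType.Order
import Cfsg.Agent.Lib.USixType.Weak
import Cfsg.Agent.Lib.Fitting.Basic
import Cfsg.Agent.Lib.Extraspecial.Uniqueness

/-!
The hypotheses of the statement as those on the centraliser.
-/

set_option autoImplicit false
set_option linter.unusedSectionVars false
set_option linter.style.haveILetI false

open Cfsg
open scoped commutatorElement
open CfsgLib.USixType (Cz mem_Cz G4)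

namespace CfsgLib.FiTwentyThreeType

variable {G : Type*} [Group G] [Finite G]

/-- The radical, as a subgroup of the group. -/
abbrev radJ (z : G) : Subgroup G := (pCore 2 ↥(Cz z)).map (Cz z).subtype

theorem mem_radJ {z x : G} : x ∈ radJ z ↔ ∃ h : x ∈ Cz z, (⟨x, h⟩ : ↥(Cz z)) ∈ pCore 2 ↥(Cz z) := by
  constructor
  · rintro ⟨⟨y, hy⟩, hy', rfl⟩; exact ⟨hy, hy'⟩
  · rintro ⟨h, h'⟩; exact ⟨_, h', rfl⟩

theorem exists_loc (z : G) (hz : orderOf z = 2) {F : Type*} [Field F] [Fintype F] (hF : Fintype.card F = 3)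
    (V E : Subgroup ↥(Cz z)) (hVE : IsInternalDirectProduct V E (pCore 2 ↥(Cz z)))
    (hV : Nat.card ↥V = 4) (hV2 : ∀ v ∈ V, v ^ 2 = 1) (hE : IsExtraspecial 2 ↥E)
    (hEc : Nat.card ↥E = 2 ^ 9)
    (hCJ : Subgroup.centralizer ((pCore 2 ↥(Cz z)) : Set ↥(Cz z)) ≤ pCore 2 ↥(Cz z))
    (zc c : ↥(Cz z)) (hzc : (zc : G) = z) (hc : orderOf c = 3)
    [hJc : (pCore 2 ↥(Cz z) ⊔ Subgroup.zpowers c).Normal]
    (e : (↥(Cz z) ⧸ (pCore 2 ↥(Cz z) ⊔ Subgroup.zpowers c)) ≃* MulAut (PSp 2 F))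
    [hcz : ((Subgroup.zpowers c ⊔ Subgroup.zpowers zc).subgroupOf
      (Subgroup.centralizer ({c} : Set ↥(Cz z)))).Normal]
    (e' : (↥(Subgroup.centralizer ({c} : Set ↥(Cz z))) ⧸ (Subgroup.zpowers c ⊔ Subgroup.zpowers zc).subgroupOf
      (Subgroup.centralizer ({c} : Set ↥(Cz z)))) ≃* PSp 2 F) :
    ∃ π : ↥(Cc z (c : G)) →* G4, Loc z (c : G) (radJ z) π := by
  classical
  haveI : Fact (Nat.Prime 2) := ⟨Nat.prime_two⟩
  haveI hOn : (pCore 2 ↥(Cz z)).Normal := Fitting.pCore_normal 2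
  have hO2 : IsPGroup 2 (pCore 2 ↥(Cz z)) := Fitting.pCore_isPGroup 2
  obtain ⟨hVO, hEO, hcomm, hdis, hsup⟩ := hVE
  have hz2 : z * z = 1 := by rw [← pow_two, ← hz]; exact pow_orderOf_eq_one z
  have hzne : z ≠ 1 := fun h => by rw [h, orderOf_one] at hz; norm_num at hz
  have hzc' : ∀ x : ↥(Cz z), x * zc = zc * x := fun x => Subtype.ext (by
    show (x : G) * (zc : G) = (zc : G) * x
    rw [hzc]; exact mem_Cz.1 x.2)
  have hzc2 : zc * zc = 1 := Subtype.ext (by show (zc : G) * zc = 1; rw [hzc, hz2])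
  have c3 : c * c * c = 1 := by
    rw [mul_assoc, ← pow_three, ← hc]; exact pow_orderOf_eq_one c
  have cne : c ≠ 1 := fun h => by rw [h, orderOf_one] at hc; norm_num at hc
  -- products
  let μ : ↥V × ↥E →* ↥(Cz z) :=
    { toFun := fun p => (p.1 : ↥(Cz z)) * p.2
      map_one' := one_mul 1
      map_mul' := fun p q => by
        show ((p.1 : ↥(Cz z)) * q.1) * ((p.2 : ↥(Cz z)) * q.2) = ((p.1 : ↥(Cz z)) * p.2) * ((q.1 : ↥(Cz z)) * q.2)
        rw [mul_assoc, mul_assoc (p.1 : ↥(Cz z)), ← mul_assoc (q.1 : ↥(Cz z)), hcomm _ q.1.2 _ p.2.2, mul_assoc] }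
  have hμ : Function.Injective μ := by
    rw [injective_iff_map_eq_one]
    rintro ⟨⟨v, hv⟩, ⟨e', he⟩⟩ h
    have h' : v * e' = 1 := h
    have hv' : v ∈ V ⊓ E := ⟨hv, by rw [eq_inv_of_mul_eq_one_left h']; exact E.inv_mem he⟩
    rw [hdis, Subgroup.mem_bot] at hv'
    subst hv'
    rw [one_mul] at h'
    subst h'
    rfl
  have hrange : μ.range = (pCore 2 ↥(Cz z)) := by
    refine le_antisymm ?_ ?_
    · rintro _ ⟨⟨v, e'⟩, rfl⟩; exact (pCore 2 ↥(Cz z)).mul_mem (hVO v.2) (hEO e'.2)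
    · rw [← hsup]
      refine sup_le (fun v hv => ⟨(⟨v, hv⟩, 1), mul_one v⟩) fun e' he => ⟨(1, ⟨e', he⟩), one_mul e'⟩
  have dec : ∀ q ∈ (pCore 2 ↥(Cz z)), ∃ v ∈ V, ∃ e' ∈ E, v * e' = q := fun q hq => by
    rw [← hrange] at hq
    obtain ⟨⟨v, e'⟩, h⟩ := hq
    exact ⟨v, v.2, e', e'.2, h⟩
  have hcardO : Nat.card (pCore 2 ↥(Cz z)) = 2048 := by
    rw [← hrange, ← Nat.card_congr (MonoidHom.ofInjective hμ).toEquiv, Nat.card_prod, hV, hEc]; norm_num
  have hVab : ∀ u ∈ V, ∀ v ∈ V, u * v = v * u := fun u hu v hv => by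
    have i : ∀ w ∈ V, w⁻¹ = w := fun w hw => inv_eq_of_mul_eq_one_right (by rw [← pow_two]; exact hV2 w hw)
    calc u * v = (u * v)⁻¹ := (i _ (V.mul_mem hu hv)).symm
      _ = _ := by rw [mul_inv_rev, i u hu, i v hv]
  -- the commutator involution
  obtain ⟨⟨ζ, hζE⟩, hζc, hζ1⟩ : ∃ ζ : ↥E, ζ ∈ Subgroup.center ↥E ∧ ζ ≠ 1 := by
    haveI : Nontrivial (Subgroup.center ↥E) := Finite.one_lt_card_iff_nontrivial.1 (by rw [hE.2]; norm_num)
    obtain ⟨w, hw⟩ := exists_ne (1 : Subgroup.center ↥E)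
    exact ⟨w.1, w.2, fun h => hw (Subtype.ext h)⟩
  have hcen : ∀ w : ↥E, w ∈ Subgroup.center ↥E → (w : ↥(Cz z)) = 1 ∨ (w : ↥(Cz z)) = ζ := by
    intro w hw
    by_contra h
    push Not at h
    have hinj : Function.Injective (![1, ⟨⟨ζ, hζE⟩, hζc⟩, ⟨w, hw⟩] : Fin 3 → Subgroup.center ↥E) := by
      intro i j hij
      have h' := congrArg (fun t : Subgroup.center ↥E => ((t : ↥E) : ↥(Cz z))) hij
      have hζ1' : ζ ≠ 1 := fun q => hζ1 (Subtype.ext q)
      fin_cases i <;> fin_cases j <;> simp at h' ⊢ <;>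
        first
        | exact absurd h' hζ1'.symm
        | exact absurd h' hζ1'
        | exact absurd h' h.1.symm
        | exact absurd h' h.1
        | exact absurd h' h.2.symm
        | exact absurd h' h.2
        | exact absurd (congrArg Subtype.val h') h.1
        | exact absurd (congrArg Subtype.val h'.symm) h.1
    have := Nat.card_le_card_of_injective _ hinj
    rw [hE.2, Nat.card_eq_fintype_card, Fintype.card_fin] at this
    omega
  have hsqE : ∀ a ∈ E, a * a = 1 ∨ a * a = ζ := fun a ha => by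
    have h := Extraspecial.pow_mem_center hE ⟨a, ha⟩
    rw [pow_two] at h
    exact hcen _ h
  have hζO : ζ ∈ (pCore 2 ↥(Cz z)) := hEO hζE
  have hζ' : ∀ q ∈ (pCore 2 ↥(Cz z)), q * ζ = ζ * q := fun q hq => by
    obtain ⟨v, hv, e', he, rfl⟩ := dec q hq
    have h1 : e' * ζ = ζ * e' := congrArg Subtype.val (Subgroup.mem_center_iff.1 hζc ⟨e', he⟩)
    rw [mul_assoc, h1, ← mul_assoc, hcomm v hv ζ hζE, mul_assoc]
  have hcommO : ∀ p ∈ (pCore 2 ↥(Cz z)), ∀ q ∈ (pCore 2 ↥(Cz z)), p * q = q * p ∨ p * q = ζ * (q * p) := by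
    intro p hp q hq
    obtain ⟨v, hv, a, ha, rfl⟩ := dec p hp
    obtain ⟨w, hw, b, hb, rfl⟩ := dec q hq
    have hab : (⁅(⟨a, ha⟩ : ↥E), ⟨b, hb⟩⁆ : ↥E).1 = a * b * a⁻¹ * b⁻¹ := rfl
    have e1 : v * a * (w * b) = v * w * (a * b) := by
      rw [mul_assoc, ← mul_assoc a w b, ← hcomm w hw a ha]; group
    have e2 : w * b * (v * a) = v * w * (b * a) := by
      rw [mul_assoc, ← mul_assoc b v a, ← hcomm v hv b hb, hVab v hv w hw]; group
    rcases hcen _ (Extraspecial.comm_mem hE ⟨a, ha⟩ ⟨b, hb⟩) with h | h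
    · left
      rw [hab] at h
      rw [e1, e2, show a * b = b * a from by
        rw [← mul_inv_eq_iff_eq_mul]; exact mul_inv_eq_one.1 h]
    · right
      rw [hab] at h
      rw [e1, e2, show a * b = ζ * (b * a) by rw [← h]; group, ← mul_assoc (v * w), ← mul_assoc ζ]
      exact congrArg (· * (b * a)) (hζ' _ ((pCore 2 ↥(Cz z)).mul_mem (hVO hv) (hVO hw)))
  -- the centre of the radical
  have hcent : ∀ q : ↥(Cz z), (q ∈ (pCore 2 ↥(Cz z)) ∧ ∀ r ∈ (pCore 2 ↥(Cz z)), q * r = r * q) ↔ ∃ v ∈ V, q = v ∨ q = v * ζ := by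
    intro q
    constructor
    · rintro ⟨hq, hc'⟩
      obtain ⟨v, hv, a, ha, rfl⟩ := dec q hq
      refine ⟨v, hv, ?_⟩
      have hcE : (⟨a, ha⟩ : ↥E) ∈ Subgroup.center ↥E := Subgroup.mem_center_iff.2 fun b => Subtype.ext (by
        show (b : ↥(Cz z)) * a = a * b
        have h1 := hc' b (hEO b.2)
        rw [mul_assoc, ← mul_assoc (b : ↥(Cz z)), ← hcomm v hv b b.2, mul_assoc] at h1
        exact (mul_left_cancel h1).symm)
      rcases hcen ⟨a, ha⟩ hcE with h | h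
      · left; rw [show a = 1 from h, mul_one]
      · right; rw [show a = ζ from h]
    · rintro ⟨v, hv, e0 | e0⟩ <;> rw [e0]
      all_goals
        have hvr : ∀ r ∈ (pCore 2 ↥(Cz z)), v * r = r * v := fun r hr => by
          obtain ⟨w, hw, b, hb, rfl⟩ := dec r hr
          rw [← mul_assoc, hVab v hv w hw, mul_assoc, hcomm v hv b hb, mul_assoc]
      · exact ⟨hVO hv, hvr⟩
      · refine ⟨(pCore 2 ↥(Cz z)).mul_mem (hVO hv) hζO, fun r hr => ?_⟩
        rw [mul_assoc, ← hζ' r hr, ← mul_assoc, hvr r hr, mul_assoc]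
  haveI hZn : (Subgroup.zpowers zc).Normal := ⟨fun n ⟨j, hj⟩ h => by
    rw [← hj]
    refine ⟨j, ?_⟩
    show zc ^ j = h * zc ^ j * h⁻¹
    rw [((show Commute h zc from hzc' h).zpow_right j).eq, mul_inv_cancel_right]⟩
  -- elements of the radical commuting with `c`
  have hS := psp_simple hF
  have hfix : ∀ q ∈ (pCore 2 ↥(Cz z)), q * c = c * q → q = 1 ∨ q = zc := by
    intro q hq hqc
    set C := Subgroup.centralizer ({c} : Set ↥(Cz z))
    let f : ↥C →* PSp 2 F := e'.toMonoidHom.comp (QuotientGroup.mk' _)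
    have hfs : Function.Surjective f := e'.surjective.comp (QuotientGroup.mk'_surjective _)
    set P := ((pCore 2 ↥(Cz z)).subgroupOf C).map f with hP
    haveI : P.Normal := Subgroup.Normal.map (Subgroup.Normal.subgroupOf hOn C) f hfs
    have hP2 : IsPGroup 2 P :=
      (hO2.to_le (inf_le_left : (pCore 2 ↥(Cz z)) ⊓ C ≤ (pCore 2 ↥(Cz z))) |>.of_equiv (Subgroup.subgroupOfEquivOfLe inf_le_right).symm
        |>.to_le (by intro x hx; exact ⟨hx, x.2⟩)).map f
    have hbot : P = ⊥ := by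
      rcases Subgroup.Normal.eq_bot_or_eq_top (H := P) inferInstance with h | h
      · exact h
      · exfalso
        obtain ⟨n, hn⟩ := IsPGroup.iff_card.1 hP2
        rw [h, Subgroup.card_top, card_psp hF] at hn
        have : 5 ∣ 2 ^ n := hn ▸ (by norm_num)
        have := Nat.Prime.dvd_of_dvd_pow (by norm_num : Nat.Prime 5) this
        norm_num at this
    have hqC : q ∈ C := Subgroup.mem_centralizer_singleton_iff.2 hqc
    have h1 : f ⟨q, hqC⟩ = 1 := by
      have : f ⟨q, hqC⟩ ∈ P := ⟨⟨q, hqC⟩, hq, rfl⟩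
      rwa [hbot, Subgroup.mem_bot] at this
    have h2 : q ∈ Subgroup.zpowers c ⊔ Subgroup.zpowers zc := by
      have := (map_eq_one_iff _ e'.injective).1 (h1 : e' _ = 1)
      rw [QuotientGroup.mk'_apply, QuotientGroup.eq_one_iff, Subgroup.mem_subgroupOf] at this
      exact this
    obtain ⟨a, ⟨i, rfl⟩, b, ⟨j, rfl⟩, hab⟩ := Subgroup.mem_sup_of_normal_right.1
      (show q ∈ Subgroup.zpowers c ⊔ Subgroup.zpowers zc from h2)
    replace hab : c ^ i * zc ^ j = q := hab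
    have hzj : zc ^ j = 1 ∨ zc ^ j = zc := by
      rcases Int.even_or_odd j with ⟨k, rfl⟩ | ⟨k, rfl⟩
      · left; rw [← two_mul, zpow_mul, zpow_two, hzc2, one_zpow]
      · right; rw [zpow_add, zpow_mul, zpow_two, hzc2, one_zpow, one_mul, zpow_one]
    have hci : c ^ i = 1 := by
      obtain ⟨n, hn⟩ := hO2 ⟨q, hq⟩
      have hqn : q ^ 2 ^ n = 1 := congrArg Subtype.val hn
      rw [← hab, (show Commute (c ^ i) (zc ^ j) from (show Commute c zc from hzc' c).zpow_zpow i j).mul_pow] at hqn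
      have hz' : (zc ^ j) ^ 2 ^ (n + 1) = 1 := by
        rcases hzj with e | e <;> rw [e]
        · exact one_pow _
        · rw [pow_succ', pow_mul, pow_two, hzc2, one_pow]
      have h3 : (c ^ i) ^ 2 ^ (n + 1) = 1 := by
        have h4 : ((c ^ i) ^ 2 ^ n * (zc ^ j) ^ 2 ^ n) ^ 2 = 1 := by rw [hqn, one_pow]
        rw [(show Commute ((c ^ i) ^ 2 ^ n) ((zc ^ j) ^ 2 ^ n) from
          ((show Commute c zc from hzc' c).zpow_zpow i j).pow_pow _ _).mul_pow, ← pow_mul, ← pow_mul, ← pow_succ,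
          hz', mul_one] at h4
        exact h4
      have hd : orderOf (c ^ i) ∣ 3 := orderOf_dvd_of_pow_eq_one (by
        rw [← zpow_natCast, ← zpow_mul, mul_comm, zpow_mul, zpow_natCast, pow_succ, pow_two, c3, one_zpow])
      exact orderOf_eq_one_iff.1 (Nat.Coprime.eq_one_of_dvd
        ((Nat.Coprime.pow_right (n + 1) (by norm_num : Nat.Coprime 3 2)).coprime_dvd_left hd)
        (orderOf_dvd_of_pow_eq_one h3))
    rw [← hab, hci, one_mul]
    exact hzj
  -- the commutator involution is the central one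
  have hζz : ζ = zc := by
    have hnorm : ∀ h : ↥(Cz z), h * ζ * h⁻¹ = ζ := by
      intro h
      have hconj : ∀ q ∈ (pCore 2 ↥(Cz z)), h * q * h⁻¹ ∈ (pCore 2 ↥(Cz z)) := fun q hq => hOn.conj_mem q hq h
      -- some commutator is `ζ`
      obtain ⟨a, b, ha, hb, hne⟩ : ∃ a b, a ∈ (pCore 2 ↥(Cz z)) ∧ b ∈ (pCore 2 ↥(Cz z)) ∧ a * b ≠ b * a := by
        by_contra hab
        push Not at hab
        have : Subgroup.center ↥E = ⊤ := eq_top_iff.2 fun a _ => Subgroup.mem_center_iff.2 fun b =>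
          Subtype.ext (hab b a (hEO b.2) (hEO a.2))
        have h2 := hE.2
        rw [this, Subgroup.card_top, hEc] at h2
        norm_num at h2
      have hab' := (hcommO a ha b hb).resolve_left hne
      have h1 := hcommO _ (hconj a ha) _ (hconj b hb)
      have e1 : h * a * h⁻¹ * (h * b * h⁻¹) = h * ζ * h⁻¹ * (h * b * h⁻¹ * (h * a * h⁻¹)) := by
        calc h * a * h⁻¹ * (h * b * h⁻¹) = h * (a * b) * h⁻¹ := by group
          _ = _ := by rw [hab']; group
      rcases h1 with h1 | h1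
      · exfalso
        apply hne
        calc a * b = h⁻¹ * (h * a * h⁻¹ * (h * b * h⁻¹)) * h := by group
          _ = h⁻¹ * (h * b * h⁻¹ * (h * a * h⁻¹)) * h := by rw [h1]
          _ = b * a := by group
      · exact mul_right_cancel (e1.symm.trans h1)
    rcases hfix ζ hζO (mul_inv_eq_iff_eq_mul.1 (hnorm c)).symm with h | h
    · exact absurd (Subtype.ext h) hζ1
    · exact h
  have hzO : zc ∈ (pCore 2 ↥(Cz z)) := hζz ▸ hζO
  -- elements of the radical times powers of `c`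
  have hJc' : ∀ x : ↥(Cz z), (∃ q ∈ (pCore 2 ↥(Cz z)), x * c * x⁻¹ = q * c) ∨ ∃ q ∈ (pCore 2 ↥(Cz z)), x * c * x⁻¹ = q * c⁻¹ := by
    intro x
    have h := hJc.conj_mem c (Subgroup.mem_sup_right (Subgroup.mem_zpowers c)) x
    obtain ⟨q, hq, r, ⟨i, rfl⟩, hqr⟩ := Subgroup.mem_sup_of_normal_left.1 h
    replace hqr : q * c ^ i = x * c * x⁻¹ := hqr
    have hmod : c ^ i = 1 ∨ c ^ i = c ∨ c ^ i = c⁻¹ := by
      have e : c ^ i = c ^ (i % 3) := by
        conv_lhs => rw [← Int.emod_add_mul_ediv i 3, zpow_add, zpow_mul, zpow_ofNat,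
          show c ^ 3 = 1 by rw [pow_succ, pow_two]; exact c3, one_zpow, mul_one]
      have h3 : i % 3 = 0 ∨ i % 3 = 1 ∨ i % 3 = 2 := by omega
      rw [e]
      rcases h3 with h | h | h <;> rw [h]
      · left; exact zpow_zero c
      · right; left; exact zpow_one c
      · right; right
        rw [zpow_two]
        exact (inv_eq_of_mul_eq_one_right (by rw [← mul_assoc]; exact c3)).symm
    rcases hmod with e | e | e <;> rw [e] at hqr
    · exfalso
      rw [mul_one] at hqr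
      have hcO : c ∈ (pCore 2 ↥(Cz z)) := by
        have := hOn.conj_mem _ (hqr ▸ hq) x⁻¹
        rwa [show x⁻¹ * (x * c * x⁻¹) * x⁻¹⁻¹ = c by group] at this
      obtain ⟨n, hn⟩ := hO2 ⟨c, hcO⟩
      have h2 : orderOf c ∣ 2 ^ n := orderOf_dvd_of_pow_eq_one (congrArg Subtype.val hn)
      rw [hc] at h2
      have := Nat.Prime.dvd_of_dvd_pow Nat.prime_three h2
      norm_num at this
    · exact Or.inl ⟨q, hq, hqr.symm⟩
    · exact Or.inr ⟨q, hq, hqr.symm⟩
  -- the map to the matrix group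
  obtain ⟨e1⟩ := psp_equiv hF
  let φ : ↥(Cc z (c : G)) →* ↥(Subgroup.centralizer ({c} : Set ↥(Cz z))) :=
    { toFun := fun x => ⟨⟨x.1, x.2.1⟩, Subgroup.mem_centralizer_singleton_iff.2
        (Subtype.ext (mem_Cz.1 x.2.2))⟩
      map_one' := rfl
      map_mul' := fun _ _ => rfl }
  have hφ : Function.Surjective φ := fun y =>
    ⟨⟨y.1.1, y.1.2, mem_Cz.2 (congrArg Subtype.val (Subgroup.mem_centralizer_singleton_iff.1 y.2))⟩, rfl⟩
  let f : ↥(Subgroup.centralizer ({c} : Set ↥(Cz z))) →* G4 :=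
    e1.toMonoidHom.comp (e'.toMonoidHom.comp (QuotientGroup.mk' _))
  have hf : Function.Surjective f :=
    e1.surjective.comp (e'.surjective.comp (QuotientGroup.mk'_surjective _))
  refine ⟨f.comp φ, ?_⟩
  have cg3 : (c : G) * c * c = 1 := congrArg Subtype.val c3
  have inn : ∀ {x : ↥(Cz z)}, (∃ q ∈ (pCore 2 ↥(Cz z)), x * c * x⁻¹ = q * c) → Inn z (c : G) (radJ z) x := by
    rintro x ⟨q, hq, h⟩
    refine ⟨x.2, ⟨q, hq, ?_⟩⟩
    show (q : G) = (x : G) * c * (x : G)⁻¹ * (c : G)⁻¹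
    exact eq_mul_inv_iff_mul_eq.2 (congrArg Subtype.val h).symm
  refine
    { z2 := hz2
      zne := hzne
      cC := c.2
      c3 := cg3
      cne := fun h => cne (Subtype.ext h)
      JC := Subgroup.map_subtype_le _
      conjJ := ?_
      card := (Subgroup.card_map_of_injective (Subgroup.subtype_injective _)).trans hcardO
      zJ := ⟨zc, hzO, hzc⟩
      sq := ?_
      comm := ?_
      cardT := ?_
      T2 := ?_
      cent := ?_
      fixc := ?_
      sgn := ?_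
      surj := hf.comp hφ
      ker := ?_ }
  · rintro x hx _ ⟨q, hq, rfl⟩
    exact ⟨_, hOn.conj_mem q hq ⟨x, hx⟩, rfl⟩
  · rintro _ ⟨q, hq, rfl⟩
    obtain ⟨v, hv, a, ha, rfl⟩ := dec q hq
    have e2 : v * a * (v * a) = a * a := by
      calc v * a * (v * a) = v * (a * v) * a := by group
        _ = v ^ 2 * (a * a) := by rw [← hcomm v hv a ha, pow_two]; group
        _ = _ := by rw [hV2 v hv, one_mul]
    rcases hsqE a ha with h | h
    · left
      show ((v * a * (v * a) : ↥(Cz z)) : G) = 1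
      rw [e2, h]; rfl
    · right
      show ((v * a * (v * a) : ↥(Cz z)) : G) = z
      rw [e2, h, hζz, hzc]
  · rintro _ ⟨p, hp, rfl⟩ _ ⟨q, hq, rfl⟩
    rcases hcommO p hp q hq with h | h
    · exact Or.inl (congrArg Subtype.val h)
    · right
      rw [hζz] at h
      show (p : G) * q = z * ((q : G) * p)
      exact (congrArg Subtype.val h).trans (congrArg (· * ((q : G) * p)) hzc)
  · let g : ↥V × Bool → {t : G // InT (radJ z) t} := fun p =>
      ⟨(((p.1 : ↥(Cz z)) * if p.2 then ζ else 1 : ↥(Cz z)) : G), by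
        obtain ⟨h1, h2⟩ := (hcent ((p.1 : ↥(Cz z)) * if p.2 then ζ else 1)).2
          ⟨p.1, p.1.2, by cases p.2 <;> simp⟩
        exact ⟨⟨_, h1, rfl⟩, by rintro _ ⟨r, hr, rfl⟩; exact congrArg Subtype.val (h2 r hr)⟩⟩
    have hg : Function.Bijective g := by
      constructor
      · rintro ⟨⟨u, hu⟩, bu⟩ ⟨⟨v, hv⟩, bv⟩ h
        have h' : (u * if bu then ζ else 1) = (v * if bv then ζ else 1) := Subtype.ext (congrArg Subtype.val h :)
        have hζV : ζ ∉ V := fun h => hζ1 (Subtype.ext (by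
          have : ζ ∈ V ⊓ E := ⟨h, hζE⟩
          rwa [hdis, Subgroup.mem_bot] at this))
        cases bu <;> cases bv <;> simp only [Bool.false_eq_true, if_false, if_true, mul_one] at h'
        · subst h'; rfl
        · exact absurd (by rw [show ζ = v⁻¹ * u by rw [h']; group]; exact V.mul_mem (V.inv_mem hv) hu) hζV
        · exact absurd (by rw [show ζ = u⁻¹ * v by rw [← h']; group]; exact V.mul_mem (V.inv_mem hu) hv) hζV
        · obtain rfl := mul_right_cancel h'; rfl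
      · rintro ⟨_, ⟨q, hq, rfl⟩, hqc⟩
        obtain ⟨v, hv, hvq⟩ := (hcent q).1 ⟨hq, fun r hr => Subtype.ext (hqc r ⟨r, hr, rfl⟩)⟩
        rcases hvq with rfl | rfl
        · exact ⟨(⟨q, hv⟩, false), Subtype.ext (by simp [g])⟩
        · exact ⟨(⟨v, hv⟩, true), Subtype.ext (by simp [g])⟩
    rw [← Nat.card_eq_of_bijective g hg, Nat.card_prod, hV, Nat.card_eq_fintype_card, Fintype.card_bool]
  · rintro _ ⟨⟨q, hq, rfl⟩, hqc⟩
    obtain ⟨v, hv, hvq⟩ := (hcent q).1 ⟨hq, fun r hr => Subtype.ext (hqc r ⟨r, hr, rfl⟩)⟩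
    have hv2 : v * v = 1 := by rw [← pow_two]; exact hV2 v hv
    rcases hvq with rfl | rfl
    · exact congrArg Subtype.val hv2
    · show (((v * ζ) * (v * ζ) : ↥(Cz z)) : G) = 1
      have hζ2 : ζ * ζ = 1 := by rw [hζz, hzc2]
      rw [show v * ζ * (v * ζ) = v * (ζ * v) * ζ by group, ← hcomm v hv ζ hζE, ← mul_assoc, hv2, one_mul, hζ2]
      rfl
  · intro x hx h
    exact ⟨⟨x, hx⟩, hCJ (Subgroup.mem_centralizer_iff.2 fun q hq => Subtype.ext (h q ⟨q, hq, rfl⟩).symm),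
      rfl⟩
  · rintro _ ⟨q, hq, rfl⟩ h
    rcases hfix q hq (Subtype.ext h) with e2 | e2
    · exact Or.inl (congrArg Subtype.val e2)
    · exact Or.inr ((congrArg Subtype.val e2).trans hzc)
  · intro x hx
    rcases hJc' ⟨x, hx⟩ with h | ⟨q, hq, h⟩
    · exact Or.inl (inn h)
    · refine Or.inr ⟨hx, q, hq, ?_⟩
      show (q : G) = x * c * x⁻¹ * c
      rw [← mul_inv_eq_iff_eq_mul]
      exact (congrArg Subtype.val h).symm
  · intro x
    show f (φ x) = 1 ↔ _
    have hk : f (φ x) = 1 ↔ ((φ x : ↥(Cz z))) ∈ Subgroup.zpowers c ⊔ Subgroup.zpowers zc := by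
      show e1 (e' _) = 1 ↔ _
      rw [map_eq_one_iff _ e1.injective, map_eq_one_iff _ e'.injective, QuotientGroup.mk'_apply,
        QuotientGroup.eq_one_iff, Subgroup.mem_subgroupOf]
    rw [hk]
    constructor
    · intro h
      obtain ⟨a, ⟨i, rfl⟩, b, ⟨j, rfl⟩, hab⟩ := Subgroup.mem_sup_of_normal_right.1 h
      have hz' : (zc : G) ^ j = 1 ∨ (zc : G) ^ j = z := by
        rw [hzc]
        rcases Int.even_or_odd j with ⟨k, rfl⟩ | ⟨k, rfl⟩
        · left; rw [← two_mul, zpow_mul, zpow_two, hz2, one_zpow]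
        · right; rw [zpow_add, zpow_mul, zpow_two, hz2, one_zpow, one_mul, zpow_one]
      obtain ⟨n, hn⟩ : ∃ n : ℕ, (c : G) ^ i = (c : G) ^ n :=
        ⟨(i % 3).toNat, by
          conv_lhs => rw [← Int.emod_add_mul_ediv i 3, zpow_add, zpow_mul, zpow_ofNat,
            show (c : G) ^ 3 = 1 by rw [pow_succ, pow_two]; exact cg3, one_zpow, mul_one]
          rw [← zpow_natCast, Int.toNat_of_nonneg (Int.emod_nonneg i (by norm_num))]⟩
      refine ⟨n, ?_⟩
      have hx : (x : G) = (c : G) ^ n * (zc : G) ^ j := by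
        rw [← hn]; exact (congrArg Subtype.val hab).symm
      rcases hz' with e2 | e2
      · left; rw [hx, e2, mul_one]
      · right; rw [hx, e2]
    · rintro ⟨i, hi | hi⟩
      · exact Subgroup.mem_sup_left ⟨i, Subtype.ext (by
          show ((c ^ (i : ℤ) : ↥(Cz z)) : G) = (x : G)
          simpa using hi.symm)⟩
      · rw [show (φ x : ↥(Cz z)) = c ^ i * zc from Subtype.ext (by
          show (x : G) = ((c ^ i * zc : ↥(Cz z)) : G)
          simpa [hzc] using hi)]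
        exact Subgroup.mul_mem_sup (Subgroup.pow_mem _ (Subgroup.mem_zpowers c) i) (Subgroup.mem_zpowers zc)

/-- An outer element. -/
theorem exists_out (z : G) {F : Type*} [Field F] [Fintype F] (hF : Fintype.card F = 3)
    (c : ↥(Cz z)) [hJc : (pCore 2 ↥(Cz z) ⊔ Subgroup.zpowers c).Normal]
    (e : (↥(Cz z) ⧸ (pCore 2 ↥(Cz z) ⊔ Subgroup.zpowers c)) ≃* MulAut (PSp 2 F))
    {π : ↥(Cc z (c : G)) →* G4} (L : Loc z (c : G) (radJ z) π) : ∃ s, Out z (c : G) (radJ z) s := by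
  classical
  by_contra hno
  push Not at hno
  set K := pCore 2 ↥(Cz z) ⊔ Subgroup.zpowers c with hK
  -- every class comes from the elements commuting with `c` and fixing the four-group
  have hzK : (⟨z, mem_Cz.2 rfl⟩ : ↥(Cz z)) ∈ K := by
    obtain ⟨h, h'⟩ := mem_radJ.1 L.zJ
    exact Subgroup.mem_sup_left h'
  let Lg : Subgroup G :=
    { carrier := {x | InL z (c : G) (radJ z) x}
      one_mem' := L.L_one
      mul_mem' := L.L_mul
      inv_mem' := L.L_inv }
  let ψ : ↥Lg →* ↥(Cz z) ⧸ K :=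
    (QuotientGroup.mk' K).comp (Subgroup.inclusion (fun x hx => L.L_Cz hx : Lg ≤ Cz z))
  have hsurj : Function.Surjective ψ := by
    intro u
    obtain ⟨x, rfl⟩ := QuotientGroup.mk'_surjective K u
    have hi : Inn z (c : G) (radJ z) x := (L.inn_or x.2).resolve_right (hno _)
    obtain ⟨q, hq, hy⟩ := L.inn_split hi
    obtain ⟨hqC, hqO⟩ := mem_radJ.1 hq
    obtain ⟨l, hl, hlp⟩ := L.L_lift (pim π (q⁻¹ * x))
    refine ⟨⟨l, hl⟩, ?_⟩
    show QuotientGroup.mk' K ⟨l, _⟩ = QuotientGroup.mk' K x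
    rw [QuotientGroup.mk'_apply, QuotientGroup.mk'_apply, QuotientGroup.eq]
    have hk : π ⟨l⁻¹ * (q⁻¹ * x), (Cc z (c : G)).mul_mem ((Cc z (c : G)).inv_mem hl.1) hy⟩ = 1 := by
      have e1 : pim π (l⁻¹ * (q⁻¹ * x)) = 1 := by
        rw [L.pim_mul ((Cc z (c : G)).inv_mem hl.1) hy, L.pim_inv hl.1, hlp, inv_mul_cancel]
      rwa [pim, dif_pos ((Cc z (c : G)).mul_mem ((Cc z (c : G)).inv_mem hl.1) hy)] at e1
    obtain ⟨i, hi'⟩ := (L.ker _).1 hk
    have hx' : (⟨l, L.L_Cz hl⟩ : ↥(Cz z))⁻¹ * x =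
        (⟨l, L.L_Cz hl⟩ : ↥(Cz z))⁻¹ * ⟨q, hqC⟩ * ⟨l, L.L_Cz hl⟩ *
          ⟨l⁻¹ * (q⁻¹ * x), (Cz z).mul_mem ((Cz z).inv_mem (L.L_Cz hl))
            ((Cz z).mul_mem ((Cz z).inv_mem hqC) x.2)⟩ := by
      apply Subtype.ext
      show l⁻¹ * (x : G) = l⁻¹ * q * l * (l⁻¹ * (q⁻¹ * x))
      group
    rw [hx']
    refine K.mul_mem ?_ ?_
    · have := hJc.conj_mem _ (Subgroup.mem_sup_left hqO) (⟨l, L.L_Cz hl⟩ : ↥(Cz z))⁻¹
      rwa [inv_inv] at this
    · rcases hi' with e1 | e1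
      · rw [show (⟨_, _⟩ : ↥(Cz z)) = c ^ i from Subtype.ext (by simpa using e1)]
        exact Subgroup.mem_sup_right (Subgroup.pow_mem _ (Subgroup.mem_zpowers c) i)
      · rw [show (⟨_, _⟩ : ↥(Cz z)) = c ^ i * ⟨z, mem_Cz.2 rfl⟩ from Subtype.ext (by simpa using e1)]
        exact K.mul_mem (Subgroup.mem_sup_right (Subgroup.pow_mem _ (Subgroup.mem_zpowers c) i)) hzK
  let θ : ↥Lg →* G4 :=
    { toFun := fun x => pim π x
      map_one' := L.pim_one
      map_mul' := fun x y => L.pim_mul x.2.1 y.2.1 }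
  have hker : θ.ker ≤ ψ.ker := by
    intro x hx
    rw [MonoidHom.mem_ker] at hx ⊢
    show QuotientGroup.mk' K ⟨(x : G), _⟩ = 1
    rw [QuotientGroup.mk'_apply, QuotientGroup.eq_one_iff]
    rcases L.L_ker x.2 hx with e1 | e1
    · rw [show (⟨_, _⟩ : ↥(Cz z)) = 1 from Subtype.ext e1]; exact K.one_mem
    · rw [show (⟨_, _⟩ : ↥(Cz z)) = ⟨z, mem_Cz.2 rfl⟩ from Subtype.ext e1]; exact hzK
  have hθ : Function.Surjective θ := fun g => by
    obtain ⟨l, hl, h⟩ := L.L_lift g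
    exact ⟨⟨l, hl⟩, h⟩
  let χ := MonoidHom.liftOfSurjective θ hθ ⟨ψ, hker⟩
  have hχ : Function.Surjective χ := fun u => by
    obtain ⟨x, rfl⟩ := hsurj u
    exact ⟨θ x, MonoidHom.liftOfRightInverse_comp_apply _ _ _ ⟨ψ, hker⟩ x⟩
  have := Nat.card_le_card_of_surjective χ hχ
  rw [Nat.card_congr e.toEquiv, card_aut_psp hF, card_psp hF, USixType.card_G4] at this
  omega

end CfsgLib.FiTwentyThreeType
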