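import Cfsg.Agent.Lib.FiTwentyThreeType.Fixed

/-!
Three commuting involutions of the centraliser with the same centraliser in `J`.
-/

set_option autoImplicit false
set_option linter.unusedSectionVars false
set_option linter.style.haveILetI false
set_option maxRecDepth 100000

open Cfsg
open CfsgLib.USixType

namespace CfsgLib.FiTwentyThreeType

variable {G : Type*} [Group G]

namespace Loc

variable [Finite G] {z c : G} {J : Subgroup G} {π : ↥(Cc z c) →* G4} (L : Loc z c J π)
include L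

theorem out_notT {x : G} (hx : Out z c J x) : ¬ x ∈ J := fun h => L.not_both (L.inn_J h) hx

theorem fixR_small (k : Bool) : (fixR k).length ≤ 64 := by
  cases k
  · rw [fixR_len.1]
  · rw [fixR_len.2]; norm_num

theorem inner_data {x : G} (hx : Inn z c J x) (hx2 : x * x = 1) (hn : x ∉ J) :
    ∃ g k m, Img J π x g ∧ g = m * evalW (repW k) * m⁻¹ := by
  obtain ⟨g, hg⟩ := L.img_exists (L.H1_two hx hx2)
  have hne : g ≠ 1 := fun e => hn (L.img_mem_J (e ▸ hg))
  have hsq : g * g = 1 := L.img_unique (L.img_mul hg hg) (by rw [hx2]; exact L.img_one)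
  obtain ⟨k, m, hm⟩ := inv_class (orderOf_eq_prime_iff.2 ⟨by rw [pow_two]; exact hsq, hne⟩)
  exact ⟨g, k, m, hg, hm⟩

theorem out_rb_small {f : G} (hf : Out z c J f) :
    Nat.card {t // Rb J f t} * Nat.card {t // Rb J f t} ≤ 256 := by
  have h := L.out_square hf (S := fun t => Rb J f t) (U := fun _ => True)
    (fun t ht => L.Rb_fix hf.1 ht) (fun _ _ => ⟨trivial, trivial⟩) (fun _ _ _ _ => trivial)
  rwa [Nat.card_congr (Equiv.subtypeUnivEquiv fun _ => trivial), L.card_T] at h

/-- Elements of `J` outside the centre only share their centraliser with elements of `J`. -/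
theorem j_share {e f : G} (he : e ∈ J) (hf : f ∈ Cz z) (hf2 : f * f = 1)
    (h : ∀ q ∈ J, (e * q = q * e ↔ f * q = q * f)) : f ∈ J := by
  by_contra hn
  have hR : ∀ t, Rb J e t → Rb J f t := fun t ⟨q, hq, hc, hqt⟩ => ⟨q, hq, (h q hq).1 hc, hqt⟩
  have h128 := L.rb_J he
  have hle : Nat.card {t // Rb J e t} ≤ Nat.card {t // Rb J f t} :=
    Nat.card_le_card_of_injective (fun t : {t // Rb J e t} => (⟨t.1, hR t.1 t.2⟩ : {t // Rb J f t}))
      fun a b q => Subtype.ext (congrArg Subtype.val q :)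
  rcases L.inn_or hf with hi | ho
  · obtain ⟨g, k, m, hg, hm⟩ := L.inner_data hi hf2 hn
    have hle2 : Nat.card {t // Rb J f t} ≤ Nat.card {t // ac J f t = t} :=
      Nat.card_le_card_of_injective
        (fun t : {t // Rb J f t} => (⟨t.1, L.Rb_fix hf t.2⟩ : {t // ac J f t = t}))
        fun a b q => Subtype.ext (congrArg Subtype.val q :)
    rw [L.fix_card hg hm] at hle2
    have := L.fixR_small k
    omega
  · have h2 := L.out_rb_small ho
    have := Nat.mul_le_mul (show 128 ≤ Nat.card {t // Rb J f t} by omega)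
      (show 128 ≤ Nat.card {t // Rb J f t} by omega)
    omega

/-- The same for two elements of `J`. -/
theorem j_prod {e f : G} (he : e ∈ J) (hf : f ∈ J)
    (h : ∀ q ∈ J, (e * q = q * e ↔ f * q = q * f)) : InT J (e * f) := by
  refine ⟨J.mul_mem he hf, fun q hq => ?_⟩
  by_cases hq' : e * q = q * e
  · rw [mul_assoc, (h q hq).1 hq', ← mul_assoc, hq', mul_assoc]
  · have h1 := (L.comm e he q hq).resolve_left hq'
    have h2 := (L.comm f hf q hq).resolve_left fun p => hq' ((h q hq).2 p)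
    calc e * f * q = e * (z * (q * f)) := by rw [mul_assoc, h2]
      _ = e * z * (q * f) := by group
      _ = z * (e * q) * f := by rw [L.z_comm (L.JC he)]; group
      _ = z * z * (q * e * f) := by rw [h1]; group
      _ = _ := by rw [L.z2, one_mul, mul_assoc]

/-- Inner and outer involutions never share their centraliser. -/
theorem inn_out {e f : G} (he : Inn z c J e) (he2 : e * e = 1) (hen : e ∉ J) (hf : Out z c J f)
    (h : ∀ q ∈ J, (e * q = q * e ↔ f * q = q * f)) : False := by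
  obtain ⟨g, k, m, hg, hm⟩ := L.inner_data he he2 hen
  have hbig := L.rb_big hg hm
  have hcomm : ∀ t, ac J e t = t → ac J e (ac J c t) = ac J c t := fun t ht => by
    rw [L.ac_img hg, ← L.actG_c, ← L.ac_img hg, ht]
  have hsq := L.out_square hf (S := fun t => Rb J e t) (U := fun t => ac J e t = t)
    (fun t ⟨q, hq, hc, hqt⟩ => L.Rb_fix hf.1 ⟨q, hq, (h q hq).1 hc, hqt⟩)
    (fun t ht => ⟨L.Rb_fix he.1 ht, hcomm t (L.Rb_fix he.1 ht)⟩)
    (fun s t hs ht => by rw [L.ac_mul he.1, hs, ht])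
  rw [L.fix_card hg hm] at hsq
  have hk : (fixR k).length = 64 ∨ (fixR k).length = 16 := by
    cases k
    exacts [Or.inl fixR_len.1, Or.inr fixR_len.2]
  rcases hk with e' | e' <;> rw [e'] at hsq hbig
  · have := Nat.mul_le_mul (show 32 ≤ Nat.card {t // Rb J e t} by omega)
      (show 32 ≤ Nat.card {t // Rb J e t} by omega)
    omega
  · have := Nat.mul_le_mul (show 8 ≤ Nat.card {t // Rb J e t} by omega)
      (show 8 ≤ Nat.card {t // Rb J e t} by omega)
    omega

/-- Three inner involutions: their fixed spaces coincide. -/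
theorem fix_common {e f : G} {g g' : G4} {k : Bool} (hg : Img J π e g) (hg' : Img J π f g')
    (hgk : g = evalW (repW k))
    (h : ∀ q ∈ J, e * q = q * e → f * q = q * f) :
    ∀ v, app (linW gL (repW k)) v = v → app (natL g') v = v := by
  classical
  obtain ⟨ε, hεb, -, hεg⟩ := L.exists_frame
  have heC := (L.img_H1 hg).1.1
  have hfC := (L.img_H1 hg').1.1
  have hm : g = 1 * evalW (repW k) * (1 : G4)⁻¹ := by rw [hgk]; group
  set S : T J → Prop := fun t => ac J e t = t ∧ ac J f t = t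
  have hS : Nat.card {t // S t} % 3 = 1 :=
    L.card_mod_three (S := S) ⟨L.ac_one_t heC, L.ac_one_t hfC⟩ fun t ht =>
      ⟨by rw [L.ac_img hg, ← L.actG_c, ← L.ac_img hg, ht.1],
        by rw [L.ac_img hg', ← L.actG_c, ← L.ac_img hg', ht.2]⟩
  have hsub : Nat.card {t // S t} ≤ Nat.card {t // ac J e t = t} :=
    Nat.card_le_card_of_injective (fun t : {t // S t} => (⟨t.1, t.2.1⟩ : {t // ac J e t = t}))
      fun a b q => Subtype.ext (congrArg Subtype.val q :)
  have hrb : Nat.card {t // Rb J e t} ≤ Nat.card {t // S t} :=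
    Nat.card_le_card_of_injective (fun t : {t // Rb J e t} => (⟨t.1, L.Rb_fix heC t.2, by
        obtain ⟨q, hq, hc, hqt⟩ := t.2
        exact L.Rb_fix hfC ⟨q, hq, h q hq hc, hqt⟩⟩ : {t // S t}))
      fun a b q => Subtype.ext (congrArg Subtype.val q :)
  have hbig := L.rb_big hg hm
  rw [L.fix_card hg hm] at hsub
  -- a subgroup: its size divides a power of two
  let P : Subgroup (T J) :=
    { carrier := {t | S t}
      one_mem' := ⟨L.ac_one_t heC, L.ac_one_t hfC⟩
      mul_mem' := fun {a b} ha hb => ⟨by rw [L.ac_mul heC, ha.1, hb.1], by rw [L.ac_mul hfC, ha.2, hb.2]⟩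
      inv_mem' := fun {a} ha => by
        show S a⁻¹
        rwa [inv_eq_of_mul_eq_one_right (L.T_sq a)] }
  have hdvd : Nat.card {t // S t} ∣ 2 ^ 8 := by
    rw [show (2 : ℕ) ^ 8 = Nat.card (T J) by rw [L.card_T]; norm_num]
    exact Subgroup.card_subgroup_dvd_card P
  obtain ⟨i, -, hi⟩ := (Nat.dvd_prime_pow Nat.prime_two).1 hdvd
  have hall : Nat.card {t // S t} = (fixR k).length := by
    cases k
    · rw [fixR_len.1] at hsub hbig ⊢
      rw [hi] at hS hsub hrb ⊢
      have h1 : 32 ≤ 2 ^ i := by omega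
      have h5 : 5 ≤ i := by
        by_contra h'
        have := Nat.pow_le_pow_right (show 0 < 2 by norm_num) (show i ≤ 4 by omega)
        omega
      have h6 : i ≤ 6 := by
        by_contra h'
        have := Nat.pow_le_pow_right (show 0 < 2 by norm_num) (show 7 ≤ i by omega)
        omega
      interval_cases i <;> simp_all
    · rw [fixR_len.2] at hsub hbig ⊢
      rw [hi] at hS hsub hrb ⊢
      have h1 : 8 ≤ 2 ^ i := by omega
      have h5 : 3 ≤ i := by
        by_contra h'
        have := Nat.pow_le_pow_right (show 0 < 2 by norm_num) (show i ≤ 2 by omega)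
        omega
      have h6 : i ≤ 4 := by
        by_contra h'
        have := Nat.pow_le_pow_right (show 0 < 2 by norm_num) (show 5 ≤ i by omega)
        omega
      interval_cases i <;> simp_all
  intro v hv
  have hev : ac J e (ε v) = ε v := by rw [L.ac_img hg, hεg, hgk, natL_evalW, hv]
  have hbij := (Nat.bijective_iff_injective_and_card
    (fun t : {t // S t} => (⟨t.1, t.2.1⟩ : {t // ac J e t = t}))).2
      ⟨fun a b q => Subtype.ext (congrArg Subtype.val q :), by rw [hall, L.fix_card hg hm]⟩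
  obtain ⟨⟨t, ht⟩, hq⟩ := hbij.2 ⟨ε v, hev⟩
  have hq' : t = ε v := congrArg Subtype.val hq
  subst hq'
  have h2 := ht.2
  rw [L.ac_img hg', hεg] at h2
  exact hεb.1 h2

/-- The same in the other direction. -/
theorem fix_bound {e f : G} {g g' : G4} {k : Bool} (hg : Img J π e g) (hg' : Img J π f g')
    (hgk : g = evalW (repW k)) (hk : k = true) (hf2 : f * f = 1) (hfn : f ∉ J)
    (h : ∀ q ∈ J, (e * q = q * e ↔ f * q = q * f)) :
    ∀ v, app (natL g') v = v → app (linW gL (repW true)) v = v := by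
  classical
  subst hk
  obtain ⟨ε, hεb, hεa, hεg⟩ := L.exists_frame
  have heC := (L.img_H1 hg).1.1
  have hfC := (L.img_H1 hg').1.1
  obtain ⟨g₂, k₂, m, hg₂, hm₂⟩ := L.inner_data (L.img_H1 hg').1 hf2 hfn
  obtain rfl := L.img_unique hg' hg₂
  have hm : g = 1 * evalW (repW true) * (1 : G4)⁻¹ := by rw [hgk]; group
  have hfe := L.fix_common hg hg' hgk fun q hq => (h q hq).1
  have hincl : ∀ t, ac J e t = t → ac J f t = t := fun t ht => by
    obtain ⟨v, rfl⟩ := hεb.2 t
    rw [L.ac_img hg, hεg, hgk, natL_evalW] at ht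
    rw [L.ac_img hg', hεg, hfe v (hεb.1 ht)]
  -- the second element is of the same kind
  have h1 : Nat.card {t // Rb J f t} ≤ Nat.card {t // ac J e t = t} :=
    Nat.card_le_card_of_injective (fun t : {t // Rb J f t} => (⟨t.1, by
        obtain ⟨q, hq, hc, hqt⟩ := t.2
        exact L.Rb_fix heC ⟨q, hq, (h q hq).2 hc, hqt⟩⟩ : {t // ac J e t = t}))
      fun a b q => Subtype.ext (congrArg Subtype.val q :)
  rw [L.fix_card hg hm, fixR_len.2] at h1
  have h2 := L.rb_big hg' hm₂
  have hk₂ : (fixR k₂).length = 16 := by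
    cases k₂
    · rw [fixR_len.1] at h2; omega
    · exact fixR_len.2
  have hb := (Nat.bijective_iff_injective_and_card
    (fun t : {t // ac J e t = t} => (⟨t.1, hincl t.1 t.2⟩ : {t // ac J f t = t}))).2
      ⟨fun a b q => Subtype.ext (congrArg Subtype.val q :),
        by rw [L.fix_card hg hm, L.fix_card hg' hm₂, hk₂, fixR_len.2]⟩
  intro v hv
  have hfv : ac J f (ε v) = ε v := by rw [L.ac_img hg', hεg, hv]
  obtain ⟨⟨t, ht⟩, hq⟩ := hb.2 ⟨ε v, hfv⟩
  have hq' : t = ε v := congrArg Subtype.val hq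
  subst hq'
  rw [L.ac_img hg, hεg, hgk, natL_evalW] at ht
  exact hεb.1 ht

/-- The criterion, with the product in normal position. -/
theorem triple_inner {x y w : G} {gx gy : G4} {k : Bool} (hx2 : x * x = 1) (hy2 : y * y = 1)
    (hw2 : w * w = 1) (hxy : x * y = w)
    (hgx : Img J π x gx) (hgy : Img J π y gy) (hgw : Img J π w (evalW (repW k)))
    (hxJ : x ∉ J) (hyJ : y ∉ J)
    (h1 : ∀ q ∈ J, (w * q = q * w ↔ x * q = q * x)) (h2 : ∀ q ∈ J, (w * q = q * w ↔ y * q = q * y))
    (hodd : ∀ u ∈ Cz z, u * w = w * u → Odd (orderOf (u * y * u⁻¹ * y))) : False := by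
  have hgxy : gx * gy = evalW (repW k) := L.img_unique (L.img_mul hgx hgy) (hxy ▸ hgw)
  have hgy1 : gy ≠ 1 := fun e => hyJ (L.img_mem_J (e ▸ hgy))
  have hgx1 : gx ≠ 1 := fun e => hxJ (L.img_mem_J (e ▸ hgx))
  have hgy2 : gy ≠ evalW (repW k) := fun e => hgx1 (by
    rw [e] at hgxy
    exact mul_eq_right.1 hgxy)
  have hfix := L.fix_common hgw hgy rfl fun q hq => (h2 q hq).1
  cases k
  · rcases tv_unique gy hfix with e | e
    exacts [hgy1 e, hgy2 e]
  have hgy22 : gy * gy = 1 := L.img_unique (L.img_mul hgy hgy) (by rw [hy2]; exact L.img_one)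
  have hgx22 : gx * gx = 1 := L.img_unique (L.img_mul hgx hgx) (by rw [hx2]; exact L.img_one)
  have hby := L.fix_bound hgw hgy rfl rfl hy2 hyJ h2
  have hbx := L.fix_bound hgw hgx rfl rfl hx2 hxJ h1
  have hrg : ∀ v, app (linW gL (repW true)) (app (natL gy) v) = v →
      app (linW gL (repW true)) v = v := fun v hv => by
    refine hbx v ?_
    rwa [← natL_evalW, ← app_comp, ← natL_mul, ← hgxy, mul_assoc, hgy22, mul_one] at hv
  obtain ⟨hne, hcom⟩ := four_move gy hfix hby hrg hgy1 hgy2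
  obtain ⟨u, hu, huw⟩ := L.four_lift hgw hw2
  set d := evalW dW
  set e0 := u * y * u⁻¹ * y with he0
  have hie : Img J π e0 (d * gy * d⁻¹ * gy) := L.img_mul (L.img_conj hu hgy) hgy
  have hne1 : d * gy * d⁻¹ * gy ≠ 1 := fun h => hne (by
    rw [eq_inv_of_mul_eq_one_left h, inv_eq_of_mul_eq_one_right hgy22])
  have hsq : (d * gy * d⁻¹ * gy) * (d * gy * d⁻¹ * gy) = 1 := by
    calc (d * gy * d⁻¹ * gy) * (d * gy * d⁻¹ * gy) = d * gy * d⁻¹ * (gy * (d * gy * d⁻¹)) * gy := by group
      _ = d * (gy * gy) * d⁻¹ * (gy * gy) := by rw [← hcom.eq]; group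
      _ = 1 := by rw [hgy22]; group
  obtain ⟨n, hn⟩ := hodd u (L.img_H1 hu).1.1 huw
  rw [← he0] at hn
  have h0 : (d * gy * d⁻¹ * gy) ^ (2 * n + 1) = 1 := by
    have hp := L.img_pow hie (2 * n + 1)
    rw [← hn, pow_orderOf_eq_one] at hp
    rw [← hn]
    exact L.img_unique hp L.img_one
  rw [pow_add, pow_mul, pow_two, hsq, one_pow, one_mul, pow_one] at h0
  exact hne1 h0

/-- No three commuting involutions share their centraliser in `J`. -/
theorem triple_false {x y : G} (hxC : x ∈ Cz z) (hyC : y ∈ Cz z) (hx2 : x * x = 1) (hy2 : y * y = 1)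
    (hxy : x * y = y * x) (hy : ¬ InT J y)
    (h1 : ∀ q ∈ J, x * y * q = q * (x * y) → x * q = q * x)
    (h2 : ∀ q ∈ J, x * q = q * x → y * q = q * y)
    (h3 : ∀ q ∈ J, y * q = q * y → x * q = q * x)
    (hodd : ∀ u ∈ Cz z, u * (x * y) = x * y * u → Odd (orderOf (u * y * u⁻¹ * y))) : False := by
  set w := x * y with hw
  have hwC : w ∈ Cz z := (Cz z).mul_mem hxC hyC
  have hw2 : w * w = 1 := by
    calc w * w = w * (y * x) := by rw [← hxy]
      _ = x * (y * y) * x := by rw [hw]; group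
      _ = 1 := by rw [hy2, mul_one, hx2]
  have exy : ∀ q ∈ J, x * q = q * x → w * q = q * w := fun q hq e => by
    rw [hw, mul_assoc, h2 q hq e, ← mul_assoc, e, mul_assoc]
  have exw : ∀ q ∈ J, (w * q = q * w ↔ x * q = q * x) := fun q hq => ⟨h1 q hq, exy q hq⟩
  have exy' : ∀ q ∈ J, (x * q = q * x ↔ y * q = q * y) := fun q hq => ⟨h2 q hq, h3 q hq⟩
  have eyw : ∀ q ∈ J, (w * q = q * w ↔ y * q = q * y) := fun q hq => (exw q hq).trans (exy' q hq)
  have hall : ∀ e ∈ Cz z, (∀ q ∈ J, e * q = q * e ↔ y * q = q * y) → ¬ InT J e := fun e _ h he =>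
    hy ⟨L.cent y hyC fun q hq => (h q hq).1 (he.2 q hq), fun q hq => (h q hq).1 (he.2 q hq)⟩
  have hnJx : x ∉ J := by
    intro hx
    have hyJ := L.j_share hx hyC hy2 exy'
    exact hall w hwC eyw (L.j_prod hx hyJ exy')
  have hnJy : y ∉ J := fun hyJ =>
    hnJx (L.j_share hyJ hxC hx2 fun q hq => (exy' q hq).symm)
  have hnJw : w ∉ J := fun hwJ => hnJx (L.j_share hwJ hxC hx2 exw)
  rcases L.inn_or hxC with hix | hox <;> rcases L.inn_or hyC with hiy | hoy
  · -- all inner
    obtain ⟨g, k, m, hg, hm⟩ := L.inner_data (L.inn_mul hix hiy) hw2 hnJw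
    obtain ⟨l, hl, hlm⟩ := L.L_lift m
    obtain ⟨gx, hgx⟩ := L.img_exists (L.H1_two hix hx2)
    obtain ⟨gy, hgy⟩ := L.img_exists (L.H1_two hiy hy2)
    have hlC := L.L_Cz hl
    have hli := (Cz z).inv_mem hlC
    have hI := L.img_inv (L.img_L hl)
    rw [hlm] at hI
    have tr : ∀ {v : G} {gv : G4}, Img J π v gv → Img J π (l⁻¹ * v * l) (m⁻¹ * gv * m) := fun hv => by
      have := L.img_conj hI hv
      rwa [inv_inv, inv_inv] at this
    have notJ : ∀ {v : G}, v ∉ J → l⁻¹ * v * l ∉ J := fun hv h => hv (by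
      have := L.conjJ l hlC _ h
      rwa [show ∀ v : G, l * (l⁻¹ * v * l) * l⁻¹ = v from fun v => by group] at this)
    have sq : ∀ {v : G}, v * v = 1 → l⁻¹ * v * l * (l⁻¹ * v * l) = 1 := fun {v} hv => by
      rw [show l⁻¹ * v * l * (l⁻¹ * v * l) = l⁻¹ * (v * v) * l by group, hv]; group
    have cq : ∀ {v q : G}, (l⁻¹ * v * l * q = q * (l⁻¹ * v * l) ↔
        v * (l * q * l⁻¹) = l * q * l⁻¹ * v) := fun {v q} => by
      constructor <;> intro e
      · calc v * (l * q * l⁻¹) = l * (l⁻¹ * v * l * q) * l⁻¹ := by group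
          _ = _ := by rw [e]; group
      · calc l⁻¹ * v * l * q = l⁻¹ * (v * (l * q * l⁻¹)) * l := by group
          _ = _ := by rw [e]; group
    refine L.triple_inner (sq hx2) (sq hy2) (sq hw2) (by rw [hw]; group) (tr hgx) (tr hgy) (k := k) ?_
      (notJ hnJx) (notJ hnJy) ?_ ?_ ?_
    · have := tr hg
      rwa [hm, show m⁻¹ * (m * evalW (repW k) * m⁻¹) * m = evalW (repW k) by group] at this
    · exact fun q hq => cq.trans ((exw _ (L.conjJ l hlC q hq)).trans cq.symm)
    · exact fun q hq => cq.trans ((eyw _ (L.conjJ l hlC q hq)).trans cq.symm)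
    · intro u hu huc
      have h' := hodd (l * u * l⁻¹) ((Cz z).mul_mem ((Cz z).mul_mem hlC hu) hli) (by
        calc l * u * l⁻¹ * w = l * (u * (l⁻¹ * w * l)) * l⁻¹ := by group
          _ = _ := by rw [huc]; group)
      rwa [show l * u * l⁻¹ * y * (l * u * l⁻¹)⁻¹ * y =
        MulAut.conj l (u * (l⁻¹ * y * l) * u⁻¹ * (l⁻¹ * y * l)) by
        simp only [MulAut.conj_apply]; group, MulEquiv.orderOf_eq] at h'
  · exact L.inn_out hix hx2 hnJx hoy exy'
  · exact L.inn_out hiy hy2 hnJy hox fun q hq => (exy' q hq).symm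
  · exact L.inn_out (L.out_out hox hoy) hw2 hnJw hox exw

end Loc

end CfsgLib.FiTwentyThreeType
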